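import Cfsg.Agent.Lib.ClassGraph.Basic
import Cfsg.Agent.Lib.ClassSize.GraphSplit
import Cfsg.Agent.Lib.Invol.BaerSuzuki
import Cfsg.Agent.Lib.ClassSize.SylowCentralizer
import Cfsg.Agent.Lib.Solvable.Core
import Cfsg.Prelude.Def_Transfer

/-!
# Real elements and 2-elements

Elementary facts: inverters can be taken to be 2-elements, real elements of odd order lift through
quotients, and a subgroup without nontrivial real elements of odd order is 2-closed.
-/

set_option autoImplicit false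

namespace CfsgLib.RealClassDisc

variable {G : Type*} [Group G]

/-- The class size. -/
noncomputable def cl (x : G) : ℕ := (Subgroup.centralizer ({x} : Set G)).index

/-- The order is a power of two. -/
def TwoEl (g : G) : Prop := ∃ k : ℕ, orderOf g = 2 ^ k

/-- An element is real. -/
def Rl (x : G) : Prop := IsConj x x⁻¹

theorem mem_cz {x y : G} : y ∈ Subgroup.centralizer ({x} : Set G) ↔ Commute y x := by
  rw [Subgroup.mem_centralizer_singleton_iff]; rfl

theorem rl_iff {x : G} : Rl x ↔ ∃ u : G, u * x * u⁻¹ = x⁻¹ := isConj_iff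

theorem twoEl_of_pow {g : G} {k : ℕ} (h : g ^ 2 ^ k = 1) : TwoEl g :=
  let ⟨i, _, hi⟩ := (Nat.dvd_prime_pow Nat.prime_two).1 (orderOf_dvd_of_pow_eq_one h)
  ⟨i, hi⟩

theorem TwoEl.exists_pow {g : G} (h : TwoEl g) : ∃ k : ℕ, g ^ 2 ^ k = 1 :=
  let ⟨k, hk⟩ := h; ⟨k, hk ▸ pow_orderOf_eq_one g⟩

theorem TwoEl.conj {g : G} (h : TwoEl g) (c : G) : TwoEl (c * g * c⁻¹) := by
  obtain ⟨k, hk⟩ := h.exists_pow
  exact twoEl_of_pow (k := k) (by rw [conj_pow, hk, mul_one, mul_inv_cancel])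

theorem TwoEl.map {g : G} {H : Type*} [Group H] (h : TwoEl g) (f : G →* H) : TwoEl (f g) := by
  obtain ⟨k, hk⟩ := h.exists_pow
  exact twoEl_of_pow (k := k) (by rw [← map_pow, hk, map_one])

theorem TwoEl.pow {g : G} (h : TwoEl g) (n : ℕ) : TwoEl (g ^ n) := by
  obtain ⟨k, hk⟩ := h.exists_pow
  exact twoEl_of_pow (k := k) (by rw [← pow_mul, mul_comm, pow_mul, hk, one_pow])

theorem twoEl_of_mul_self {g : G} (h : g * g = 1) : TwoEl g :=
  twoEl_of_pow (k := 1) (by rw [pow_one, pow_two, h])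

theorem TwoEl.coe {S : Subgroup G} {g : S} (h : TwoEl g) : TwoEl (g : G) := h.map S.subtype

theorem twoEl_coe_iff {S : Subgroup G} {g : S} : TwoEl (g : G) ↔ TwoEl g := by
  simp only [TwoEl, Subgroup.orderOf_coe]

theorem twoEl_of_mem_isPGroup {S : Subgroup G} (hS : IsPGroup 2 S) {g : G} (hg : g ∈ S) :
    TwoEl g := by
  obtain ⟨k, hk⟩ := hS ⟨g, hg⟩
  exact twoEl_of_pow (k := k) (congrArg Subtype.val hk)

theorem eq_one_of_twoEl_odd {g : G} (h : TwoEl g) (ho : Odd (orderOf g)) : g = 1 := by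
  obtain ⟨k, hk⟩ := h
  rw [hk] at ho
  rcases k with _ | k
  · exact orderOf_eq_one_iff.1 (by rw [hk, pow_zero])
  · exact absurd ho (Nat.not_odd_iff_even.2 ⟨2 ^ k, by ring⟩)

theorem eq_one_of_mul_self_odd {g : G} (h : g * g = 1) (ho : Odd (orderOf g)) : g = 1 :=
  eq_one_of_twoEl_odd (twoEl_of_mul_self h) ho

/-- The 2-part of an inverter is an inverter. -/
theorem exists_twoEl_conj_inv [Finite G] {u x : G} (hu : u * x * u⁻¹ = x⁻¹) :
    ∃ n : ℕ, Odd n ∧ TwoEl (u ^ n) ∧ u ^ n * x * (u ^ n)⁻¹ = x⁻¹ := by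
  obtain ⟨k, m, hm, hkm⟩ := Nat.exists_eq_two_pow_mul_odd (orderOf_pos u).ne'
  refine ⟨m, hm, twoEl_of_pow (k := k) ?_, ?_⟩
  · rw [← pow_mul, mul_comm, ← hkm, pow_orderOf_eq_one]
  · obtain ⟨j, rfl⟩ := hm
    have h2 : ∀ i : ℕ, u ^ (2 * i) * x * (u ^ (2 * i))⁻¹ = x := by
      intro i
      induction i with
      | zero => simp
      | succ i ih =>
        rw [show 2 * (i + 1) = 2 + 2 * i by ring, pow_add]
        calc u ^ 2 * u ^ (2 * i) * x * (u ^ 2 * u ^ (2 * i))⁻¹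
            = u * (u * (u ^ (2 * i) * x * (u ^ (2 * i))⁻¹) * u⁻¹) * u⁻¹ := by group
          _ = x := by
            rw [ih, hu, show u * x⁻¹ * u⁻¹ = (u * x * u⁻¹)⁻¹ by group, hu, inv_inv]
    rw [pow_succ']
    calc u * u ^ (2 * j) * x * (u * u ^ (2 * j))⁻¹
        = u * (u ^ (2 * j) * x * (u ^ (2 * j))⁻¹) * u⁻¹ := by group
      _ = x⁻¹ := by rw [h2, hu]

theorem conj_pow_of_inv {u x : G} (hu : u * x * u⁻¹ = x⁻¹) (n : ℕ) :
    u * x ^ n * u⁻¹ = (x ^ n)⁻¹ := by rw [← conj_pow, hu, inv_pow]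

theorem Rl.pow {x : G} (h : Rl x) (n : ℕ) : Rl (x ^ n) :=
  let ⟨u, hu⟩ := rl_iff.1 h
  rl_iff.2 ⟨u, conj_pow_of_inv hu n⟩

theorem Rl.conj {x : G} (h : Rl x) (c : G) : Rl (c * x * c⁻¹) := by
  obtain ⟨u, hu⟩ := rl_iff.1 h
  exact rl_iff.2 ⟨c * u * c⁻¹, by
    calc c * u * c⁻¹ * (c * x * c⁻¹) * (c * u * c⁻¹)⁻¹ = c * (u * x * u⁻¹) * c⁻¹ := by group
      _ = (c * x * c⁻¹)⁻¹ := by rw [hu]; group⟩

theorem Rl.map {x : G} {H : Type*} [Group H] (h : Rl x) (f : G →* H) : Rl (f x) := by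
  obtain ⟨u, hu⟩ := rl_iff.1 h
  exact rl_iff.2 ⟨f u, by rw [← map_inv f x, ← hu, map_mul, map_mul, map_inv]⟩

theorem cl_eq_classIndex (x : G) : cl x = ClassGraph.classIndex x := rfl

theorem cl_conj (c x : G) : cl (c * x * c⁻¹) = cl x :=
  ClassSize.GraphSplit.index_Cz_conj c x

theorem cl_inv (x : G) : cl x⁻¹ = cl x := by
  unfold cl
  congr 1
  ext y
  simp only [mem_cz]
  exact ⟨fun h => by simpa using h.inv_right, fun h => h.inv_right⟩

/-- The set of conjugates. -/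
def conjSet (x : G) : Set G := {y | IsConj x y}

theorem ncard_conjSet [Finite G] (x : G) : (conjSet x).ncard = cl x :=
  CfsgLib.ClassSize.ncard_setOf_isConj x

theorem card_eq_of_even_free [Finite G] {X : Set G} (f : G → G) (hf : ∀ x ∈ X, f x ∈ X)
    (hff : ∀ x ∈ X, f (f x) = x) (hne : ∀ x ∈ X, f x ≠ x) : Even X.ncard := by
  classical
  have := Fintype.ofFinite G
  have h : (∑ _x ∈ X.toFinset, (1 : ZMod 2)) = 0 :=
    Finset.sum_involution (fun x _ => f x) (fun x _ => by decide)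
      (fun x hx _ => hne x (Set.mem_toFinset.1 hx))
      (fun x hx => Set.mem_toFinset.2 (hf x (Set.mem_toFinset.1 hx)))
      (fun x hx => hff x (Set.mem_toFinset.1 hx))
  rw [Finset.sum_const, nsmul_eq_mul, mul_one, ZMod.natCast_eq_zero_iff_even] at h
  rwa [Set.ncard_eq_toFinset_card']

/-- A real element with an odd class squares to one. -/
theorem sq_eq_one_of_odd [Finite G] {x : G} (hx : Rl x) (ho : Odd (cl x)) : x * x = 1 := by
  by_contra hne
  refine Nat.not_even_iff_odd.2 ho ?_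
  rw [← ncard_conjSet]
  refine card_eq_of_even_free (fun y => y⁻¹) ?_ (fun y _ => inv_inv y) ?_
  · intro y hy
    obtain ⟨c, rfl⟩ := isConj_iff.1 (show IsConj x y from hy)
    show IsConj x _
    refine IsConj.trans hx (isConj_iff.2 ⟨c, by group⟩)
  · intro y hy e
    obtain ⟨c, rfl⟩ := isConj_iff.1 (show IsConj x y from hy)
    apply hne
    have h1 : (c * x * c⁻¹) * (c * x * c⁻¹) = 1 := by
      nth_rw 1 [← e]; exact inv_mul_cancel _
    calc x * x = c⁻¹ * ((c * x * c⁻¹) * (c * x * c⁻¹)) * c := by group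
      _ = 1 := by rw [h1]; group

theorem even_cl_of_sq [Finite G] {x : G} (hx : Rl x) (hne : x * x ≠ 1) : Even (cl x) := by
  by_contra h
  exact hne (sq_eq_one_of_odd hx (Nat.not_even_iff_odd.1 h))

/-- A real element of odd prime order in a quotient lifts to a real element of odd order. -/
theorem exists_real_lift [Finite G] {H : Type*} [Group H] (f : G →* H)
    (hf : Function.Surjective f) {q : ℕ} [Fact q.Prime] (hq : q ≠ 2) {w : H} (hw : orderOf w = q)
    {v : H} (hv : v * w * v⁻¹ = w⁻¹) :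
    ∃ (x u : G) (j : ℕ), orderOf x = q ^ j ∧ f x = w ∧ TwoEl u ∧ u * x * u⁻¹ = x⁻¹ := by
  haveI : Finite H := Finite.of_surjective f hf
  set D : Subgroup G := (Subgroup.zpowers w).comap f with hD
  obtain ⟨u₀, hu₀⟩ := hf v
  have hnorm : ∀ y ∈ D, u₀ * y * u₀⁻¹ ∈ D := by
    intro y hy
    obtain ⟨i, hi⟩ := Subgroup.mem_zpowers_iff.1 (show f y ∈ Subgroup.zpowers w from hy)
    show f _ ∈ Subgroup.zpowers w
    rw [map_mul, map_mul, map_inv, hu₀, ← hi, ← conj_zpow, hv]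
    exact Subgroup.zpow_mem _ (Subgroup.inv_mem _ (Subgroup.mem_zpowers w)) i
  obtain ⟨Q⟩ := (inferInstance : Nonempty (Sylow q ↥D))
  have hwit : ∃ z ∈ (Q : Subgroup ↥D), f (z : G) = w := by
    let g : ↥D →* Subgroup.zpowers w := (f.comp D.subtype).codRestrict _ fun z => z.2
    have hg : Function.Surjective g := by
      rintro ⟨z, hz⟩
      obtain ⟨y, rfl⟩ := hf z
      exact ⟨⟨y, hz⟩, rfl⟩
    have h1 := (Q.mapSurjective hg).not_dvd_index
    have h2 : ((Q.mapSurjective hg : Sylow q _) : Subgroup (Subgroup.zpowers w)).index ∣ q ^ 1 := by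
      rw [pow_one]; exact (Subgroup.index_dvd_card _).trans (dvd_of_eq (by rw [Nat.card_zpowers, hw]))
    obtain ⟨i, hi, hi2⟩ := (Nat.dvd_prime_pow (Fact.out : q.Prime)).1 h2
    have hi0 : i = 0 := by
      rcases i with _ | i
      · rfl
      · exact absurd (hi2 ▸ dvd_pow_self q (by omega)) h1
    subst hi0
    rw [pow_zero, Subgroup.index_eq_one] at hi2
    have hmem : (⟨w, Subgroup.mem_zpowers w⟩ : Subgroup.zpowers w) ∈
        ((Q.mapSurjective hg : Sylow q _) : Subgroup _) := hi2 ▸ Subgroup.mem_top _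
    obtain ⟨z, hz, hzw⟩ := hmem
    exact ⟨z, hz, congrArg Subtype.val hzw⟩
  obtain ⟨z₀, hz₀, hz₀w⟩ := hwit
  -- adjust the inverter so that it normalises the Sylow subgroup
  set Q' : Subgroup G := (Q : Subgroup ↥D).map D.subtype with hQ'
  let e : ↥D ≃* ↥D :=
    { toFun := fun y => ⟨u₀ * y * u₀⁻¹, hnorm y y.2⟩
      invFun := fun y => ⟨u₀⁻¹ * y * u₀, by
        have hy : f y.1 ∈ Subgroup.zpowers w := y.2
        obtain ⟨i, hi⟩ := Subgroup.mem_zpowers_iff.1 hy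
        show f _ ∈ Subgroup.zpowers w
        rw [map_mul, map_mul, map_inv, hu₀, ← hi]
        have hw' : v⁻¹ * w * v = w⁻¹ := by
          calc v⁻¹ * w * v = v⁻¹ * (v * w * v⁻¹)⁻¹ * v := by rw [hv, inv_inv]
            _ = w⁻¹ := by group
        have := conj_zpow (i := i) (a := v⁻¹) (b := w)
        rw [inv_inv, hw'] at this
        rw [← this]
        exact Subgroup.zpow_mem _ (Subgroup.inv_mem _ (Subgroup.mem_zpowers w)) i⟩
      left_inv := fun y => Subtype.ext (by group)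
      right_inv := fun y => Subtype.ext (by group)
      map_mul' := fun a b => Subtype.ext (by simp [mul_assoc]) }
  obtain ⟨d, hd⟩ := MulAction.exists_smul_eq ↥D (Q.mapSurjective (f := (e : ↥D →* ↥D)) e.surjective) Q
  have hn : ∀ y ∈ Q', ((d : G) * u₀) * y * ((d : G) * u₀)⁻¹ ∈ Q' := by
    rintro _ ⟨y, hy, rfl⟩
    refine ⟨d * e y * d⁻¹, ?_, ?_⟩
    · rw [← hd]
      exact ⟨e y, ⟨y, hy, rfl⟩, rfl⟩
    · show ((d : G) * (u₀ * y * u₀⁻¹) * (d : G)⁻¹) = _
      simp [mul_assoc]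
  have hfd : f ((d : G) * u₀) * w * (f ((d : G) * u₀))⁻¹ = w⁻¹ := by
    obtain ⟨i, hi⟩ := Subgroup.mem_zpowers_iff.1 (show f (d : G) ∈ Subgroup.zpowers w from d.2)
    rw [map_mul, hu₀, ← hi]
    calc w ^ i * v * w * (w ^ i * v)⁻¹ = w ^ i * (v * w * v⁻¹) * (w ^ i)⁻¹ := by group
      _ = w⁻¹ := by rw [hv]; group
  obtain ⟨k, hk, hk2, hkinv⟩ := exists_twoEl_conj_inv hfd
  -- `U` is a lift which is a 2-element normalising `Q'`
  obtain ⟨a, b, hb, hab⟩ := Nat.exists_eq_two_pow_mul_odd (orderOf_pos (((d : G) * u₀) ^ k)).ne'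
  set U : G := (((d : G) * u₀) ^ k) ^ b with hU
  have hU2 : TwoEl U := twoEl_of_pow (k := a)
    (by rw [hU, ← pow_mul _ b, mul_comm b, ← hab, pow_orderOf_eq_one])
  have hUn : ∀ m : ℕ, ∀ y ∈ Q', ((d : G) * u₀) ^ m * y * (((d : G) * u₀) ^ m)⁻¹ ∈ Q' := by
    intro m
    induction m with
    | zero => simp
    | succ m ih =>
      intro y hy
      have := hn _ (ih y hy)
      rw [pow_succ']
      simpa [mul_assoc] using this
  have hUw : f U * w * (f U)⁻¹ = w⁻¹ := by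
    rw [hU, ← pow_mul, map_pow, pow_mul]
    obtain ⟨c, rfl⟩ := hb
    have h1 : ∀ c : ℕ, (f ((d : G) * u₀) ^ k) ^ (2 * c) * w * ((f ((d : G) * u₀) ^ k) ^ (2 * c))⁻¹ = w := by
      intro c
      induction c with
      | zero => simp
      | succ c ih =>
        rw [show 2 * (c + 1) = 2 + 2 * c by ring, pow_add]
        generalize f ((d : G) * u₀) ^ k = T at hkinv ih ⊢
        calc T ^ 2 * T ^ (2 * c) * w * (T ^ 2 * T ^ (2 * c))⁻¹
            = T * (T * (T ^ (2 * c) * w * (T ^ (2 * c))⁻¹) * T⁻¹) * T⁻¹ := by group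
          _ = w := by rw [ih, hkinv, show T * w⁻¹ * T⁻¹ = (T * w * T⁻¹)⁻¹ by group, hkinv, inv_inv]
    rw [pow_succ']
    have h2 := h1 c
    generalize f ((d : G) * u₀) ^ k = T at hkinv h2 ⊢
    calc T * T ^ (2 * c) * w * (T * T ^ (2 * c))⁻¹
        = T * (T ^ (2 * c) * w * (T ^ (2 * c))⁻¹) * T⁻¹ := by group
      _ = w⁻¹ := by rw [h2, hkinv]
  have hUQ : ∀ y ∈ Q', U * y * U⁻¹ ∈ Q' := by
    rw [hU, ← pow_mul]; exact hUn _
  -- an element of the coset fixed by `U ^ 2`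
  let X := {y : G // y ∈ Q' ∧ f y = w}
  have hUinv2 : ∀ y : X, (U * U) * y.1 * (U * U)⁻¹ ∈ Q' ∧ f ((U * U) * y.1 * (U * U)⁻¹) = w := by
    intro y
    refine ⟨?_, ?_⟩
    · simpa [mul_assoc] using hUQ _ (hUQ _ y.2.1)
    · rw [map_mul, map_mul, map_mul, map_inv, map_mul, y.2.2]
      calc f U * f U * w * (f U * f U)⁻¹ = f U * (f U * w * (f U)⁻¹) * (f U)⁻¹ := by group
        _ = w := by
          rw [hUw, show f U * w⁻¹ * (f U)⁻¹ = (f U * w * (f U)⁻¹)⁻¹ by group, hUw, inv_inv]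
  let π : Equiv.Perm X := Equiv.ofBijective (fun y => ⟨_, hUinv2 y⟩)
    (Finite.injective_iff_bijective.1 fun y y' h => Subtype.ext
      (mul_left_cancel (mul_right_cancel (congrArg Subtype.val h))))
  obtain ⟨a', ha'⟩ := hU2.exists_pow
  have hπpow : π ^ 2 ^ a' = 1 := by
    have h : ∀ (m : ℕ) (y : X), ((π ^ m) y).1 = (U * U) ^ m * y.1 * ((U * U) ^ m)⁻¹ := by
      intro m
      induction m with
      | zero => simp
      | succ m ih =>
        intro y
        rw [pow_succ', Equiv.Perm.mul_apply]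
        show (U * U) * ((π ^ m) y).1 * (U * U)⁻¹ = _
        rw [ih, pow_succ', mul_inv_rev (U * U) ((U * U) ^ m)]
        simp only [mul_assoc]
    ext y
    rw [h, ← pow_two, ← pow_mul, mul_comm, pow_mul, ha']
    simp
  have hodd : ¬ 2 ∣ Nat.card X := by
    let K' : Subgroup G := f.ker ⊓ Q'
    have e' : X ≃ K' :=
      { toFun := fun y => ⟨y.1 * (z₀ : G)⁻¹, by
          refine ⟨?_, Q'.mul_mem y.2.1 (Q'.inv_mem ⟨z₀, hz₀, rfl⟩)⟩
          show f _ = 1
          rw [map_mul, map_inv, y.2.2, hz₀w, mul_inv_cancel]⟩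
        invFun := fun y => ⟨y.1 * (z₀ : G), Q'.mul_mem y.2.2 ⟨z₀, hz₀, rfl⟩, by
          rw [map_mul, show f y.1 = 1 from y.2.1, one_mul, hz₀w]⟩
        left_inv := fun y => Subtype.ext (by simp)
        right_inv := fun y => Subtype.ext (by simp) }
    rw [Nat.card_congr e']
    have hQp : IsPGroup q Q' := Q.2.map _
    obtain ⟨n, hn⟩ := (hQp.to_le (inf_le_right : K' ≤ Q')).exists_card_eq
    rw [hn]
    intro h
    exact hq ((Nat.prime_dvd_prime_iff_eq Nat.prime_two Fact.out).1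
      (Nat.prime_two.dvd_of_dvd_pow h)).symm
  haveI : Fact (Nat.Prime 2) := ⟨Nat.prime_two⟩
  have := Fintype.ofFinite X
  classical
  obtain ⟨⟨y, hyQ, hyw⟩, hyfix⟩ : ∃ y : X, π y = y :=
    ⟨_, (Equiv.Perm.exists_fixed_point_of_prime (n := a') (by rwa [← Nat.card_eq_fintype_card]) hπpow).choose_spec⟩
  have hy2 : U * (U * y * U⁻¹) * U⁻¹ = y := by
    have := congrArg Subtype.val hyfix
    simpa [π, mul_assoc] using this
  set x₁ : G := y * U * y⁻¹ * U⁻¹ with hx₁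
  have hx₁inv : U * x₁ * U⁻¹ = x₁⁻¹ := by
    have e2 : U * (U * y⁻¹ * U⁻¹) * U⁻¹ = y⁻¹ := by
      conv_rhs => rw [← hy2]
      simp [mul_assoc]
    calc U * x₁ * U⁻¹ = (U * y * U⁻¹) * (U * (U * y⁻¹ * U⁻¹) * U⁻¹) := by rw [hx₁]; group
      _ = x₁⁻¹ := by rw [e2, hx₁]; group
  have hfx₁ : f x₁ = w * w := by
    rw [hx₁, map_mul, map_mul, map_mul, map_inv, map_inv, hyw]
    calc w * f U * w⁻¹ * (f U)⁻¹ = w * (f U * w * (f U)⁻¹)⁻¹ := by group
      _ = w * w := by rw [hUw, inv_inv]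
  obtain ⟨m, hm⟩ : ∃ m : ℕ, (w * w) ^ m = w := by
    have hqo : Odd q := (Fact.out : q.Prime).odd_of_ne_two hq
    obtain ⟨c, hc⟩ := hqo
    refine ⟨c + 1, ?_⟩
    rw [← pow_two, ← pow_mul, show 2 * (c + 1) = q + 1 by omega, pow_succ, ← hw, pow_orderOf_eq_one,
      one_mul]
  have hx₁Q : x₁ ∈ Q' := by
    rw [hx₁, show y * U * y⁻¹ * U⁻¹ = y * (U * y⁻¹ * U⁻¹) by group]
    exact Q'.mul_mem hyQ (hUQ _ (Q'.inv_mem hyQ))
  obtain ⟨j, hj⟩ := IsPGroup.iff_orderOf.1 (Q.2.map D.subtype) ⟨x₁ ^ m, Q'.pow_mem hx₁Q m⟩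
  rw [← Subgroup.orderOf_coe] at hj
  exact ⟨x₁ ^ m, U, j, hj, by rw [map_pow, hfx₁, hm], hU2, conj_pow_of_inv hx₁inv m⟩

/-- If no nontrivial element of odd order is inverted, the 2-elements form a subgroup. -/
theorem sylow_mem_of_no_real [Finite G]
    (h : ∀ w : G, Rl w → Odd (orderOf w) → w = 1) (S : Sylow 2 G) {g : G} (hg : TwoEl g) :
    g ∈ (S : Subgroup G) := by
  haveI : Fact (Nat.Prime 2) := ⟨Nat.prime_two⟩
  set R := Cfsg.pCore 2 G with hR
  haveI : R.Normal := Solvable.pCore_normal 2 G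
  have hodd : ¬ 2 ∣ Nat.card (G ⧸ R) := by
    intro hdvd
    obtain ⟨t, ht⟩ := exists_prime_orderOf_dvd_card' 2 hdvd
    obtain ⟨a, ha1, hao, hainv⟩ := Invol.exists_odd_inverted_of_notMem_normal_two ht (by
      intro N hN hNp htN
      have hp : IsPGroup 2 (N.comap (QuotientGroup.mk' R)) :=
        hNp.comap_of_ker_isPGroup _ (by rw [QuotientGroup.ker_mk']; exact Solvable.pCore_isPGroup 2 G)
      have hle : N.comap (QuotientGroup.mk' R) ≤ R := Solvable.le_pCore inferInstance hp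
      obtain ⟨t₀, rfl⟩ := QuotientGroup.mk'_surjective R t
      rw [show QuotientGroup.mk' R t₀ = 1 from (QuotientGroup.eq_one_iff t₀).2 (hle htN),
        orderOf_one] at ht
      norm_num at ht)
    obtain ⟨q, hq, hqd⟩ := Nat.exists_prime_and_dvd (orderOf_eq_one_iff.not.2 ha1)
    haveI : Fact q.Prime := ⟨hq⟩
    have hq2 : q ≠ 2 := fun e => Nat.not_even_iff_odd.2 hao (even_iff_two_dvd.2 (e ▸ hqd))
    obtain ⟨x, u, j, hxo, hxw, -, hux⟩ := exists_real_lift (QuotientGroup.mk' R)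
      (QuotientGroup.mk'_surjective R) hq2
      (orderOf_pow_orderOf_div (orderOf_pos a).ne' hqd) (conj_pow_of_inv hainv (orderOf a / q))
    have hx1 : x = 1 := h x (rl_iff.2 ⟨u, hux⟩) (hxo ▸ (hq.odd_of_ne_two hq2).pow)
    have h1 := orderOf_pow_orderOf_div (orderOf_pos a).ne' hqd
    rw [← hxw, hx1, map_one, orderOf_one] at h1
    exact hq.one_lt.ne h1
  have hgR : g ∈ R := by
    rw [← QuotientGroup.eq_one_iff]
    refine eq_one_of_twoEl_odd (hg.map (QuotientGroup.mk' R)) ?_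
    exact Nat.odd_iff.2 (Nat.two_dvd_ne_zero.1 fun h2 => hodd (h2.trans (orderOf_dvd_natCard _)))
  exact Solvable.pCore_le_sylow S hgR

end CfsgLib.RealClassDisc
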