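import Cfsg.Agent.Lib.RealClassDisc.Core

/-!
# Two non-commuting conjugates of a small element

The conjugates of the element are then a coset of an abelian normal subgroup of odd order which it
inverts.
-/

set_option autoImplicit false

namespace CfsgLib.RealClassDisc

variable {G : Type*} [Group G] [Finite G]

/-- Subgroups of coprime index factorise the group. -/
theorem exists_factor {C D : Subgroup G} (hco : C.index.Coprime D.index) (k : G) :
    ∃ c ∈ C, c⁻¹ * k ∈ D := by
  have hle := Subgroup.relIndex_le_of_le_right (H := D) (le_top : C ≤ ⊤)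
    (by rw [Subgroup.relIndex_top_right]; exact Subgroup.index_ne_zero_of_finite)
  rw [Subgroup.relIndex_top_right] at hle
  have h1 : D.relIndex C * C.index = (D ⊓ C).index := by
    rw [← Subgroup.inf_relIndex_right, Subgroup.relIndex_mul_index inf_le_right]
  have h2 : D.index ∣ D.relIndex C :=
    hco.symm.dvd_of_dvd_mul_right (h1.symm ▸ Subgroup.index_dvd_of_le inf_le_left)
  have heq : D.relIndex C = D.index := le_antisymm hle (Nat.le_of_dvd (Nat.pos_of_ne_zero
    (fun e => Nat.card_pos.ne' (zero_dvd_iff.1 (e ▸ Subgroup.relIndex_dvd_card D C)))) h2)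
  have hbij : Function.Bijective
      (Subgroup.quotientSubgroupOfEmbeddingOfLE D (le_top : C ≤ ⊤)) := by
    refine (Subgroup.quotientSubgroupOfEmbeddingOfLE D le_top).injective.bijective_of_nat_card_le ?_
    show D.relIndex ⊤ ≤ D.relIndex C
    rw [Subgroup.relIndex_top_right, heq]
  obtain ⟨⟨⟨c, hc⟩⟩, hck⟩ := hbij.2 (QuotientGroup.mk (⟨k, Subgroup.mem_top k⟩ : (⊤ : Subgroup G)))
  exact ⟨c, hc, Subgroup.mem_subgroupOf.1 (QuotientGroup.eq.1 hck)⟩

variable {A B : Set ℕ}

theorem caseA_core (h : Disc G A B) (h2 : 2 ∈ A) {t g₀ : G} (ht : Small B t)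
    (hg₀ : ¬ Commute (g₀ * t * g₀⁻¹) t) :
    ∃ (N : Subgroup G) (S : Sylow 2 G), N.Normal ∧ (∀ x ∈ N, ∀ y ∈ N, Commute x y) ∧
      twoGen G ≤ N ⊔ (S : Subgroup G) ∧
      ∀ q : ℕ, q.Prime → q ≠ 2 → q ∣ Nat.card N → q ∣ cl t := by
  classical
  have htt := mul_self_of_small h h2 ht
  have hti : t⁻¹ = t := inv_eq_of_mul_eq_one_right htt
  have hcc : ∀ c : G, (c * t * c⁻¹) * (c * t * c⁻¹) = 1 := fun c => by
    calc c * t * c⁻¹ * (c * t * c⁻¹) = c * (t * t) * c⁻¹ := by group
      _ = 1 := by rw [htt]; group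
  have hinvD : ∀ c : G, t * (t * (c * t * c⁻¹)) * t⁻¹ = (t * (c * t * c⁻¹))⁻¹ := fun c => by
    rw [← mul_assoc t t, htt, one_mul, mul_inv_rev, inv_eq_of_mul_eq_one_right (hcc c), hti]
  have key : ∀ c, (t * (c * t * c⁻¹)) * (t * (c * t * c⁻¹)) ≠ 1 → ∀ d : G,
      (d * t * d⁻¹) * (t * (c * t * c⁻¹)) * (d * t * d⁻¹)⁻¹ = (t * (c * t * c⁻¹))⁻¹ := by
    intro c hne d
    set x := t * (c * t * c⁻¹) with hx
    have hr : Rl x := rl_iff.2 ⟨t, hinvD c⟩
    have hco := coprime_of_even h h2 ht hr (even_cl_of_sq hr hne)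
    obtain ⟨b, hb, hbd⟩ := exists_factor
      (C := Subgroup.centralizer ({x} : Set G)) (D := Subgroup.centralizer {t}) hco d
    have hbx := mem_cz.1 hb
    have hbt := mem_cz.1 hbd
    have hd : d * t * d⁻¹ = b * t * b⁻¹ := by
      calc d * t * d⁻¹ = b * ((b⁻¹ * d) * t * (b⁻¹ * d)⁻¹) * b⁻¹ := by group
        _ = b * t * b⁻¹ := by rw [hbt.eq, mul_inv_cancel_right]
    have hbxi : b⁻¹ * x * b = x := by rw [hbx.inv_left.eq, inv_mul_cancel_right]
    calc d * t * d⁻¹ * x * (d * t * d⁻¹)⁻¹ = b * (t * (b⁻¹ * x * b) * t⁻¹) * b⁻¹ := by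
          rw [hd]; group
      _ = x⁻¹ := by rw [hbxi, hinvD c, hbx.inv_right.eq, mul_inv_cancel_right]
  -- products of two inverters centralise
  have comm2 : ∀ c c', (t * (c * t * c⁻¹)) * (t * (c * t * c⁻¹)) ≠ 1 →
      Commute (t * (c' * t * c'⁻¹)) (t * (c * t * c⁻¹)) := by
    intro c c' hne
    have h1 := key c hne c'
    have h0 := key c hne 1
    rw [one_mul, inv_one, mul_one] at h0
    set x := t * (c * t * c⁻¹)
    set s := c' * t * c'⁻¹
    show t * s * x = x * (t * s)
    calc t * s * x = t * (s * x * s⁻¹) * t⁻¹ * (t * s) := by group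
      _ = (t * x * t⁻¹)⁻¹ * (t * s) := by rw [h1]; group
      _ = x * (t * s) := by rw [h0, inv_inv]
  have commD : ∀ c c', Commute (t * (c * t * c⁻¹)) (t * (c' * t * c'⁻¹)) := by
    intro c c'
    by_cases hx : (t * (c * t * c⁻¹)) * (t * (c * t * c⁻¹)) = 1
    swap
    · exact (comm2 c c' hx).symm
    by_cases hy : (t * (c' * t * c'⁻¹)) * (t * (c' * t * c'⁻¹)) = 1
    swap
    · exact comm2 c' c hy
    set a := c * t * c⁻¹ with ha
    set b := c' * t * c'⁻¹ with hb
    have hta : Commute t a := by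
      have := inv_eq_of_mul_eq_one_right hx
      rw [mul_inv_rev, inv_eq_of_mul_eq_one_right (hcc c), hti] at this
      exact this.symm
    have htb : Commute t b := by
      have := inv_eq_of_mul_eq_one_right hy
      rw [mul_inv_rev, inv_eq_of_mul_eq_one_right (hcc c'), hti] at this
      exact this.symm
    -- `a * b` is inverted and centralised by `t`
    have hab : Commute a b := by
      by_contra hne
      have hne' : (a * b) * (a * b) ≠ 1 := by
        intro e
        apply hne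
        have := inv_eq_of_mul_eq_one_right e
        rw [mul_inv_rev, inv_eq_of_mul_eq_one_right (hcc c), inv_eq_of_mul_eq_one_right (hcc c')] at this
        exact this.symm
      -- conjugate the pair so that `a` becomes `t`
      have he : t * (c⁻¹ * b * c) = c⁻¹ * (a * b) * c := by rw [ha]; group
      have hne'' : (t * (c⁻¹ * c' * t * (c⁻¹ * c')⁻¹)) * (t * (c⁻¹ * c' * t * (c⁻¹ * c')⁻¹)) ≠ 1 := by
        rw [show c⁻¹ * c' * t * (c⁻¹ * c')⁻¹ = c⁻¹ * b * c by rw [hb]; group, he]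
        intro e
        apply hne'
        calc a * b * (a * b) = c * (c⁻¹ * (a * b) * c * (c⁻¹ * (a * b) * c)) * c⁻¹ := by group
          _ = 1 := by rw [e]; group
      have h3 := key (c⁻¹ * c') hne'' c⁻¹
      rw [show c⁻¹ * c' * t * (c⁻¹ * c')⁻¹ = c⁻¹ * b * c by rw [hb]; group, he] at h3
      have h4 : t * (a * b) * t⁻¹ = (a * b)⁻¹ := by
        calc t * (a * b) * t⁻¹
            = c * (c⁻¹ * t * (c⁻¹)⁻¹ * (c⁻¹ * (a * b) * c) * (c⁻¹ * t * (c⁻¹)⁻¹)⁻¹) * c⁻¹ := by group
          _ = (a * b)⁻¹ := by rw [h3]; group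
      rw [(hta.mul_right htb).eq, mul_inv_cancel_right] at h4
      apply hne'
      nth_rw 1 [h4]
      exact inv_mul_cancel _
    exact ((Commute.refl t).mul_right htb).mul_left (hta.symm.mul_right hab)
  let D : Set G := {x | ∃ c : G, t * (c * t * c⁻¹) = x}
  set N := Subgroup.closure D with hN
  have hNcomm : ∀ x ∈ N, ∀ y ∈ N, Commute x y := by
    intro x hx y hy
    induction hx using Subgroup.closure_induction with
    | mem z hz =>
      obtain ⟨c, rfl⟩ := hz
      induction hy using Subgroup.closure_induction with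
      | mem z' hz' => obtain ⟨c', rfl⟩ := hz'; exact commD c c'
      | one => exact Commute.one_right _
      | mul a b _ _ ha hb => exact ha.mul_right hb
      | inv a _ ha => exact ha.inv_right
    | one => exact Commute.one_left _
    | mul a b _ _ ha hb => exact ha.mul_left hb
    | inv a _ ha => exact ha.inv_left
  have hNinv : ∀ x ∈ N, t * x * t⁻¹ = x⁻¹ := by
    intro x hx
    induction hx using Subgroup.closure_induction with
    | mem z hz => obtain ⟨c, rfl⟩ := hz; exact hinvD c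
    | one => simp
    | mul a b ha' hb' ha hb =>
      rw [show t * (a * b) * t⁻¹ = (t * a * t⁻¹) * (t * b * t⁻¹) by group, ha, hb, mul_inv_rev]
      exact (hNcomm _ (inv_mem ha') _ (inv_mem hb')).eq
    | inv a _ ha => rw [show t * a⁻¹ * t⁻¹ = (t * a * t⁻¹)⁻¹ by group, ha]
  haveI hNn : N.Normal := by
    refine ⟨fun x hx k => ?_⟩
    induction hx using Subgroup.closure_induction with
    | mem z hz =>
      obtain ⟨c, rfl⟩ := hz
      have e : k * (t * (c * t * c⁻¹)) * k⁻¹ =
          (t * (k * t * k⁻¹))⁻¹ * (t * (k * c * t * (k * c)⁻¹)) := by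
        rw [mul_inv_rev, inv_eq_of_mul_eq_one_right (hcc k)]
        group
      rw [e]
      exact N.mul_mem (N.inv_mem (Subgroup.subset_closure ⟨k, rfl⟩))
        (Subgroup.subset_closure ⟨k * c, rfl⟩)
    | one => rw [mul_one, mul_inv_cancel]; exact one_mem _
    | mul a b _ _ ha hb =>
      rw [show k * (a * b) * k⁻¹ = (k * a * k⁻¹) * (k * b * k⁻¹) by group]
      exact mul_mem ha hb
    | inv a _ ha =>
      rw [show k * a⁻¹ * k⁻¹ = (k * a * k⁻¹)⁻¹ by group]
      exact inv_mem ha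
  let f : ↥N →* G :=
    { toFun := fun y => (y : G) * y
      map_one' := by simp
      map_mul' := fun y z => by
        show (y : G) * z * ((y : G) * z) = y * y * (z * z)
        exact (hNcomm _ z.2 _ y.2).mul_mul_mul_comm (y : G) z }
  set O := f.range with hO
  have hconjt : ∀ y ∈ N, y⁻¹ * t * y = t * (y * y) := by
    intro y hy
    have h1 := hNinv _ (N.inv_mem hy)
    rw [inv_inv] at h1
    calc y⁻¹ * t * y = t * (t⁻¹ * y⁻¹ * t) * y := by group
      _ = t * (y * y) := by
        nth_rw 1 [hti]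
        nth_rw 3 [← hti]
        rw [h1, mul_assoc]
  have hker : f.ker = (Subgroup.centralizer ({t} : Set G)).subgroupOf N := by
    ext y
    rw [MonoidHom.mem_ker, Subgroup.mem_subgroupOf, mem_cz]
    show (y : G) * y = 1 ↔ _
    constructor
    · intro e
      have := hconjt y y.2
      rw [e, mul_one, mul_assoc, inv_mul_eq_iff_eq_mul] at this
      exact this.symm
    · intro e
      have := hconjt y y.2
      rw [mul_assoc, ← e.eq, inv_mul_cancel_left] at this
      exact (mul_left_cancel (this.symm.trans (mul_one t).symm))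
  have hOdvd : Nat.card O ∣ cl t := by
    rw [← Subgroup.index_ker, hker]
    exact ClassGraph.relIndex_dvd_index _ N
  have hOodd : Odd (Nat.card O) := (odd_of_small h h2 ht).of_dvd_nat hOdvd
  set l := Nat.card O with hl
  have hpowO : ∀ y ∈ N, ∀ m : ℕ, Even m → y ^ m ∈ O := by
    rintro y hy m ⟨k, rfl⟩
    exact ⟨⟨y ^ k, N.pow_mem hy k⟩, (pow_add y k k).symm⟩
  -- the conjugates of `t` form the coset of `O`
  have hclass : ∀ c : G, ∃ y ∈ N, c * t * c⁻¹ = y⁻¹ * t * y := by
    intro c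
    set x := t * (c * t * c⁻¹) with hx
    have hxN : x ∈ N := Subgroup.subset_closure ⟨c, rfl⟩
    have hxc : t * x = c * t * c⁻¹ := by rw [hx, ← mul_assoc, htt, one_mul]
    by_cases hxO : x ∈ O
    · obtain ⟨⟨y, hy⟩, hyx⟩ := hxO
      exact ⟨y, hy, by rw [hconjt y hy, show y * y = x from hyx, hxc]⟩
    exfalso
    have hpow : ∀ y ∈ N, y ^ l * y ^ l = 1 := by
      intro y hy
      rw [← (Commute.refl y).mul_pow]
      have := congrArg Subtype.val (pow_card_eq_one' (G := ↥O) (x := ⟨y * y, ⟨⟨y, hy⟩, rfl⟩⟩))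
      rwa [Subgroup.coe_pow, Subgroup.coe_one] at this
    obtain ⟨x₁, hx₁N, hx₁t, hx₁sq, hx₁l⟩ : ∃ x₁ ∈ N, IsConj t (t * x₁) ∧ x₁ * x₁ ≠ 1 ∧
        x₁ ^ l = x ^ l := by
      by_cases hxx : x * x = 1
      swap
      · exact ⟨x, hxN, isConj_iff.2 ⟨c, hxc.symm⟩, hxx, rfl⟩
      set z := t * (g₀ * t * g₀⁻¹) with hz
      have hzN : z ∈ N := Subgroup.subset_closure ⟨g₀, rfl⟩
      have hz2 : z * z ≠ 1 := by
        intro e
        apply hg₀
        have := inv_eq_of_mul_eq_one_right e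
        rw [mul_inv_rev, inv_eq_of_mul_eq_one_right (hcc g₀), hti] at this
        exact this
      refine ⟨x * (z * z), N.mul_mem hxN (N.mul_mem hzN hzN), isConj_iff.2 ⟨z⁻¹ * c, ?_⟩, ?_, ?_⟩
      · calc z⁻¹ * c * t * (z⁻¹ * c)⁻¹ = z⁻¹ * (c * t * c⁻¹) * z := by group
          _ = z⁻¹ * (t * x) * z := by rw [hxc]
          _ = (z⁻¹ * t * z) * x := by
            rw [mul_assoc, mul_assoc t, (hNcomm x hxN z hzN).eq]; group
          _ = t * (x * (z * z)) := by
            rw [hconjt z hzN, mul_assoc, (hNcomm _ (N.mul_mem hzN hzN) x hxN).eq]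
      · rw [(hNcomm _ (N.mul_mem hzN hzN) x hxN).mul_mul_mul_comm x (z * z), hxx, one_mul]
        intro e
        apply hz2
        have hz4 : (z * z) * (z * z) = 1 := e
        have hodd : Odd (orderOf (z * z)) := by
          refine hOodd.of_dvd_nat ?_
          rw [← Subgroup.orderOf_mk (z * z) (show z * z ∈ O from ⟨⟨z, hzN⟩, rfl⟩)]
          exact orderOf_dvd_natCard _
        exact eq_one_of_mul_self_odd hz4 hodd
      · rw [(hNcomm x hxN _ (N.mul_mem hzN hzN)).mul_pow]
        have := congrArg Subtype.val (pow_card_eq_one' (G := ↥O) (x := ⟨z * z, ⟨⟨z, hzN⟩, rfl⟩⟩))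
        simp only [Subgroup.coe_pow, Subgroup.coe_one] at this
        rw [this, mul_one]
    obtain ⟨i, hi⟩ := hOodd
    have hsplit : x₁ ^ l = x₁ * x₁ ^ (2 * i) := by rw [hi, pow_succ']
    have hel : x₁ ^ l ≠ 1 := by
      intro e
      apply hxO
      rw [hx₁l, hi, pow_succ', mul_eq_one_iff_eq_inv] at e
      rw [e]
      exact O.inv_mem (hpowO x hxN _ (even_two_mul i))
    have hr₁ : Rl x₁ := rl_iff.2 ⟨t, hNinv x₁ hx₁N⟩
    have hco : (cl t).Coprime (cl (x₁ ^ l)) :=
      ((coprime_of_even h h2 ht hr₁ (even_cl_of_sq hr₁ hx₁sq)).of_dvd_left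
        (ClassSize.GraphSplit.index_dvd_of_mem_zpowers (pow_mem (Subgroup.mem_zpowers x₁) l))).symm
    have hte : IsConj t (t * x₁ ^ l) := by
      obtain ⟨⟨y, hy⟩, hyx⟩ := hpowO x₁ hx₁N (2 * i) (even_two_mul i)
      obtain ⟨k, hk⟩ := isConj_iff.1 hx₁t
      refine isConj_iff.2 ⟨y⁻¹ * k, ?_⟩
      calc y⁻¹ * k * t * (y⁻¹ * k)⁻¹ = y⁻¹ * (k * t * k⁻¹) * y := by group
        _ = y⁻¹ * t * (x₁ * y) := by rw [hk]; group
        _ = (y⁻¹ * t * y) * x₁ := by rw [(hNcomm x₁ hx₁N y hy).eq]; group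
        _ = t * x₁ ^ l := by
          rw [hconjt y hy, show y * y = x₁ ^ (2 * i) from hyx, mul_assoc, ← pow_succ, hi]
    have hX : Odd (conjSet t).ncard := by rw [ncard_conjSet]; exact odd_of_small h h2 ht
    refine Nat.not_even_iff_odd.2 hX (card_eq_of_even_free (fun a => a * x₁ ^ l) ?_ ?_ ?_)
    · intro a ha
      obtain ⟨k, rfl⟩ := isConj_iff.1 (show IsConj t a from ha)
      show IsConj t _
      have := ClassSize.GraphSplit.isConj_mul_of_coprime hco k 1
      rw [one_mul, inv_one, mul_one] at this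
      exact hte.trans this
    · intro a _
      rw [mul_assoc, hpow x₁ hx₁N, mul_one]
    · intro a _ e
      exact hel (mul_left_cancel (e.trans (mul_one a).symm))
  obtain ⟨S, hS1, hS2⟩ := exists_sylow h h2 ht
  haveI : Fact (Nat.Prime 2) := ⟨Nat.prime_two⟩
  set M := N ⊔ (S : Subgroup G) with hM
  have hle : twoGen G ≤ M := by
    rw [twoGen, Subgroup.closure_le]
    intro g hg
    obtain ⟨T, hT⟩ := IsPGroup.exists_le_sylow (p := 2) (P := Subgroup.zpowers g) (by
      obtain ⟨k, hk⟩ := hg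
      exact IsPGroup.of_card (by rw [Nat.card_zpowers, hk]))
    obtain ⟨k, hk⟩ := MulAction.exists_smul_eq G S T
    have hgT : g ∈ (T : Subgroup G) := hT (Subgroup.mem_zpowers g)
    rw [← hk, Sylow.coe_subgroup_smul, Subgroup.mem_pointwise_smul_iff_inv_smul_mem] at hgT
    simp only [MulAut.smul_def, MulAut.inv_def, MulAut.conj_symm_apply] at hgT
    -- move the conjugating element into `N`
    obtain ⟨y, hy, hky⟩ := hclass k
    set c := y * k with hc
    have hct : Commute c t := by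
      show c * t = t * c
      calc c * t = y * (k * t * k⁻¹) * k := by rw [hc]; group
        _ = t * c := by rw [hky, hc]; group
    have hs : c * (k⁻¹ * g * k) * c⁻¹ ∈ (S : Subgroup G) :=
      hS2 _ ((twoEl_of_mem_isPGroup S.isPGroup' hgT).conj c)
        ((hct.mul_left (hS1 _ hgT)).mul_left hct.inv_left)
    have : g = y⁻¹ * (c * (k⁻¹ * g * k) * c⁻¹) * y := by rw [hc]; group
    show g ∈ M
    rw [this]
    exact M.mul_mem (M.mul_mem (Subgroup.mem_sup_left (N.inv_mem hy)) (Subgroup.mem_sup_right hs))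
      (Subgroup.mem_sup_left hy)
  refine ⟨N, S, hNn, hNcomm, hle, fun q hq hq2 hqN => ?_⟩
  rw [← f.ker.card_mul_index, Subgroup.index_ker] at hqN
  have hqO : q ∣ Nat.card O := by
    refine ((Nat.Prime.dvd_mul hq).1 hqN).resolve_left fun hd => hq2 ?_
    haveI : Fact q.Prime := ⟨hq⟩
    obtain ⟨y, hy⟩ := exists_prime_orderOf_dvd_card' q hd
    have : orderOf y ∣ 2 := orderOf_dvd_of_pow_eq_one (Subtype.ext (Subtype.ext (by
      have e : (y : ↥N).1 * (y : ↥N).1 = 1 := y.2
      simpa [pow_two] using e)))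
    rw [hy] at this
    exact (Nat.prime_dvd_prime_iff_eq hq Nat.prime_two).1 this
  exact hqO.trans hOdvd

theorem caseA (h : Disc G A B) (h2 : 2 ∈ A) {t g₀ : G} (ht : Small B t)
    (hg₀ : ¬ Commute (g₀ * t * g₀⁻¹) t) {q : ℕ} (hq : q.Prime) (hq2 : q ≠ 2)
    (hqK : q ∣ Nat.card (twoGen G)) : q ∈ B := by
  obtain ⟨N, S, hNn, -, hle, hN⟩ := caseA_core h h2 ht hg₀
  haveI := hNn
  haveI : Fact (Nat.Prime 2) := ⟨Nat.prime_two⟩
  obtain ⟨-, b, hb, -, hbd⟩ := id ht
  refine (h.symm.mem_of_dvd ht.1 hb hbd hq (hN q hq hq2 ?_)).1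
  have hd := hqK.trans ((Subgroup.card_dvd_of_le hle).trans
    (Solvable.card_sup_dvd_mul N (S : Subgroup G)))
  refine ((Nat.Prime.dvd_mul hq).1 hd).resolve_right fun hd' => hq2 ?_
  obtain ⟨k, hk⟩ := S.isPGroup'.exists_card_eq
  rw [hk] at hd'
  exact (Nat.prime_dvd_prime_iff_eq hq Nat.prime_two).1 (hq.dvd_of_dvd_pow hd')

end CfsgLib.RealClassDisc
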