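import Cfsg.Agent.Lib.RealClassDisc.Geo
import Cfsg.Agent.Lib.Solvable.SmallOrder

/-!
# Commuting conjugates

When the conjugates of each small element commute, they generate an elementary abelian normal
subgroup, and the group acts on it as in the geometric situation.
-/

set_option autoImplicit false

namespace CfsgLib.RealClassDisc

open Subgroup

theorem isSolvable_sup {G : Type*} [Group G] [Finite G] {p : ℕ} [Fact p.Prime] {N S X : Subgroup G}
    [N.Normal] (hN : Group.IsSolvable N) (hS : IsPGroup p S) (hX : X ≤ N ⊔ S) :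
    Group.IsSolvable X := by
  haveI := hN
  set M := N ⊔ S
  haveI hSi : Group.IsSolvable (S.map (QuotientGroup.mk' N)) :=
    Solvable.isSolvable_of_isPGroup (hS.map _)
  have hsub : M.map (QuotientGroup.mk' N) ≤ S.map (QuotientGroup.mk' N) := by
    rw [Subgroup.map_sup, QuotientGroup.map_mk'_self, bot_sup_eq]
  let φ : M →* S.map (QuotientGroup.mk' N) :=
    ((QuotientGroup.mk' N).comp M.subtype).codRestrict _ fun m => hsub ⟨m, m.2, rfl⟩
  haveI : Group.IsSolvable M := Group.isSolvable_of_ker_le_range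
    (Subgroup.inclusion (le_sup_left : N ≤ M)) φ (by
      intro m hm
      exact ⟨⟨m, (QuotientGroup.eq_one_iff _).1 (congrArg Subtype.val hm)⟩, rfl⟩)
  exact Group.isSolvable_of_isSolvable_injective (Subgroup.inclusion_injective hX)

theorem exists_twoEl_lift {G H : Type*} [Group G] [Finite G] [Group H] (f : G →* H) (g : G)
    (h2 : TwoEl (f g)) : ∃ n : ℕ, TwoEl (g ^ n) ∧ f (g ^ n) = f g := by
  obtain ⟨k, o, ho, hko⟩ := Nat.exists_eq_two_pow_mul_odd (orderOf_pos g).ne'
  obtain ⟨i, hi⟩ := h2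
  obtain ⟨m, hm⟩ := exists_pow_eq_self_of_coprime (n := o) (x := f g)
    (by rw [hi]; exact (Nat.coprime_two_right.2 ho).pow_right i)
  refine ⟨o * m, ?_, by rw [map_pow, pow_mul, hm]⟩
  rw [pow_mul]
  refine TwoEl.pow ?_ m
  exact twoEl_of_pow (k := k) (by rw [← pow_mul, mul_comm, ← hko, pow_orderOf_eq_one])

universe u

variable {G : Type u} [Group G] [Finite G] {A B : Set ℕ}

omit [Finite G] in
theorem mem_center_of_cl {x : G} (h : cl x = 1) : x ∈ center G := by
  rw [mem_center_iff]
  intro g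
  have h1 : g ∈ centralizer ({x} : Set G) := by
    rw [index_eq_one.1 h]; exact mem_top g
  exact (mem_cz.1 h1).eq

theorem caseB_main (h : Disc G A B) (h2 : 2 ∈ A)
    (hcomm : ∀ t : G, Small B t → ∀ g : G, Commute (g * t * g⁻¹) t) :
    (∀ q : ℕ, q.Prime → q ≠ 2 → q ∣ Nat.card (twoGen G) → q ∈ B) ∧
      ((∀ (X : Type u) [Group X] [Finite X], Odd (Nat.card X) → Group.IsSolvable X) →
        Group.IsSolvable (twoGen G)) := by
  classical
  haveI : Fact (Nat.Prime 2) := ⟨Nat.prime_two⟩
  obtain ⟨t, b, htr, hb, hbp, hbd⟩ := h.witB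
  have ht : Small B t := ⟨htr, b, hb, hbp, hbd⟩
  have htt := mul_self_of_small h h2 ht
  set T := closure (conjSet t) with hTdef
  have htT : t ∈ T := subset_closure (IsConj.refl t)
  have hTn : T.Normal := by
    refine ⟨fun x hx c => ?_⟩
    induction hx using closure_induction with
    | mem y hy => exact subset_closure ((show IsConj t y from hy).trans (isConj_iff.2 ⟨c, rfl⟩))
    | one => rw [mul_one, mul_inv_cancel]; exact one_mem _
    | mul a b _ _ ha hb =>
      rw [show c * (a * b) * c⁻¹ = (c * a * c⁻¹) * (c * b * c⁻¹) by group]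
      exact mul_mem ha hb
    | inv a _ ha =>
      rw [show c * a⁻¹ * c⁻¹ = (c * a * c⁻¹)⁻¹ by group]
      exact inv_mem ha
  haveI := hTn
  have hTc : ∀ x ∈ T, ∀ y ∈ T, Commute x y := by
    intro x hx y hy
    induction hx using closure_induction with
    | mem z hz =>
      induction hy using closure_induction with
      | mem z' hz' =>
        obtain ⟨c, rfl⟩ := isConj_iff.1 (show IsConj t z from hz)
        obtain ⟨d, rfl⟩ := isConj_iff.1 (show IsConj t z' from hz')
        have h1 := hcomm _ (ht.conj c) (d * c⁻¹)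
        rw [show d * c⁻¹ * (c * t * c⁻¹) * (d * c⁻¹)⁻¹ = d * t * d⁻¹ by group] at h1
        exact h1.symm
      | one => exact Commute.one_right _
      | mul a b _ _ ha hb => exact ha.mul_right hb
      | inv a _ ha => exact ha.inv_right
    | one => exact Commute.one_left _
    | mul a b _ _ ha hb => exact ha.mul_left hb
    | inv a _ ha => exact ha.inv_left
  have hTe : ∀ x ∈ T, x * x = 1 := by
    intro x hx
    induction hx using closure_induction with
    | mem z hz =>
      obtain ⟨c, rfl⟩ := isConj_iff.1 (show IsConj t z from hz)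
      exact mul_self_of_small h h2 (ht.conj c)
    | one => exact one_mul 1
    | mul a b ha' hb' ha hb =>
      rw [(hTc b hb' a ha').mul_mul_mul_comm a b, ha, hb, one_mul]
    | inv a _ ha => rw [← mul_inv_rev, ha, inv_one]
  have hti : ∀ x ∈ T, x⁻¹ = x := fun x hx => inv_eq_of_mul_eq_one_right (hTe x hx)
  -- elements of `T` outside the centre are small
  have hsmall : ∀ v ∈ T, v ∉ center G → Small B v := by
    intro v hv hvc
    have hvr : Rl v := rl_iff.2 ⟨1, by rw [one_mul, inv_one, mul_one, hti v hv]⟩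
    have hv1 : cl v ≠ 1 := fun e => hvc (mem_center_of_cl e)
    by_contra hns
    obtain ⟨a, hap, had⟩ := Nat.exists_prime_and_dvd hv1
    have haA : a ∈ A := (h.cover v hvr a hap had).resolve_right fun haB =>
      hns ⟨hvr, a, haB, hap, had⟩
    have hco := h.coprime hvr htr haA had hb hbd
    have hc : Commute v t := hTc v hv t htT
    have hz : Rl (v * t) := rl_iff.2 ⟨1, by
      rw [one_mul, inv_one, mul_one, hti _ (T.mul_mem hv htT)]⟩
    have hvlt : 1 < cl v := by
      have := cl_ne_zero v; omega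
    rcases h.dvd_or_dvd hvr htr hz hc haA had hb hbd with hd | hd
    · have hk := Nat.le_of_dvd (Nat.pos_of_ne_zero (cl_ne_zero v)) hd
      let W : Subgroup G :=
        { carrier := {z | z ∈ T ∧ ∀ y ∈ conjSet v, y * z ∈ conjSet v}
          one_mem' := ⟨T.one_mem, fun y hy => by rwa [mul_one]⟩
          mul_mem' := fun {x y} hx hy => ⟨T.mul_mem hx.1 hy.1, fun z hz => by
            rw [← mul_assoc]; exact hy.2 _ (hx.2 z hz)⟩
          inv_mem' := fun {x} hx => by
            show x⁻¹ ∈ T ∧ _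
            rw [hti x hx.1]
            exact hx }
      have hW : ∀ x ∈ T, x ∈ W ∨ t * x ∈ W := by
        intro x hx
        induction hx using closure_induction with
        | mem z hz =>
          have hzT : z ∈ T := subset_closure hz
          exact Or.inr ⟨T.mul_mem htT hzT, fun y hy => by
            have := mul_ratio_mem hco hk (show IsConj t z from hz) hy
            rwa [hti z hzT] at this⟩
        | one => exact Or.inl W.one_mem
        | mul x y hx' hy' hx hy =>
          rcases hx with hx | hx <;> rcases hy with hy | hy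
          · exact Or.inl (W.mul_mem hx hy)
          · refine Or.inr ?_
            rw [show t * (x * y) = (t * x * t⁻¹) * (t * y) by group,
              (hTc t htT x hx').eq, mul_inv_cancel_right]
            exact W.mul_mem hx hy
          · refine Or.inr ?_
            rw [← mul_assoc]
            exact W.mul_mem hx hy
          · refine Or.inl ?_
            have h3 := W.mul_mem hx hy
            rwa [(hTc t htT x hx').eq, mul_assoc x t, ← mul_assoc t t, htt, one_mul] at h3
        | inv x hx' hx =>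
          rw [hti x hx']; exact hx
      rcases hW v hv with hvW | hvW
      · have h3 := hvW.2 v (IsConj.refl v)
        rw [hTe v hv] at h3
        refine hvc ?_
        rw [show v = 1 from isConj_one_left.1 (show IsConj v 1 from h3)]
        exact one_mem _
      · have h3 := hvW.2 v (IsConj.refl v)
        rw [← mul_assoc, hc.eq, mul_assoc, hTe v hv, mul_one] at h3
        obtain ⟨c, hc'⟩ := isConj_iff.1 (show IsConj v t from h3)
        rw [← hc', cl_conj, Nat.coprime_self] at hco
        exact hv1 hco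
    · rw [hc.eq] at hd
      refine Nat.not_even_iff_odd.2 (odd_of_small h h2 ht) (even_of_le hco.symm
        (Nat.le_of_dvd (Nat.pos_of_ne_zero (cl_ne_zero t)) hd) (hTe v hv) (fun v' hv' => ?_) hvlt)
      obtain ⟨c, rfl⟩ := isConj_iff.1 hv'
      exact hTc v hv _ (hTn.conj_mem v hv c)
  letI : CommGroup ↥T :=
    { (inferInstance : Group ↥T) with mul_comm := fun x y => Subtype.ext (hTc x x.2 y y.2).eq }
  let φ : G →* MulAut ↥T := MulAut.conjNormal
  let f : G →* φ.range := φ.rangeRestrict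
  have hf : Function.Surjective f := φ.rangeRestrict_surjective
  let ρ : φ.range →* MulAut ↥T := φ.range.subtype
  let F : Subgroup ↥T := (center G).subgroupOf T
  have hρ : ∀ (g : G) (v : ↥T), ρ (f g) v = v ↔ Commute g (v : G) := by
    intro g v
    constructor
    · intro e
      have e' := congrArg Subtype.val e
      change g * (v : G) * g⁻¹ = v at e'
      exact mul_inv_eq_iff_eq_mul.1 e'
    · intro hc
      refine Subtype.ext ?_
      show g * (v : G) * g⁻¹ = v
      rw [hc.eq, mul_inv_cancel_right]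
  have hker : ∀ g : G, g ∈ f.ker ↔ ∀ v ∈ T, Commute g v := by
    intro g
    constructor
    · intro hg v hv
      refine (hρ g ⟨v, hv⟩).1 ?_
      rw [show f g = 1 from hg, map_one]
      rfl
    · intro hg
      refine Subtype.ext (MulEquiv.ext fun v => ?_)
      show ρ (f g) v = v
      exact (hρ g v).2 (hg v v.2)
  have hF : ∀ v : ↥T, v ∉ F → Small B (v : G) := fun v hv => hsmall v v.2 hv
  have hidx : ∀ v : ↥T, (stb ρ v).index = cl (v : G) := by
    intro v
    rw [← index_comap_of_surjective (H := stb ρ v) hf, cl]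
    congr 1
    ext g
    exact (hρ g v).trans mem_cz.symm
  have hsyl : ∀ v : ↥T, v ∉ F → ∃ S : Sylow 2 G, (∀ g ∈ (S : Subgroup G), Commute g (v : G)) ∧
      ∀ g : G, TwoEl g → Commute g (v : G) → g ∈ (S : Subgroup G) :=
    fun v hv => exists_sylow h h2 (hF v hv)
  have hsyl' : ∀ v : ↥T, v ∉ F → ∃ S : Sylow 2 φ.range, ∀ x, TwoEl x →
      (ρ x v = v ↔ x ∈ (S : Subgroup φ.range)) := by
    intro v hv
    obtain ⟨S, hS1, hS2⟩ := hsyl v hv
    refine ⟨S.mapSurjective hf, fun x hx => ⟨fun e => ?_, ?_⟩⟩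
    · obtain ⟨g, rfl⟩ := hf x
      obtain ⟨n, hn, hfn⟩ := exists_twoEl_lift f g hx
      exact ⟨g ^ n, hS2 _ hn (((hρ g v).1 e).pow_left n), hfn⟩
    · rintro ⟨g, hg, rfl⟩
      exact (hρ g v).2 (hS1 g hg)
  have htF : (⟨t, htT⟩ : ↥T) ∉ F := fun hc => by
    have h1 := one_lt_of_small ht
    rw [cl] at h1
    rw [show centralizer ({t} : Set G) = ⊤ from (eq_top_iff' _).2 fun g =>
      mem_cz.2 (mem_center_iff.1 hc g), index_top] at h1
    exact lt_irrefl _ h1
  have hgeo : Geo ρ F := by
    refine ⟨φ.range.subtype_injective, fun x => Subtype.ext (hTe x x.2), ?_, ?_, hsyl', ?_, ?_, ?_⟩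
    · intro x v hv
      obtain ⟨g, rfl⟩ := hf x
      exact (hρ g v).2 (mem_center_iff.1 hv g)
    · intro e
      exact htF (e ▸ mem_top _)
    · intro S
      obtain ⟨S₀, hS₀⟩ := hsyl' _ htF
      obtain ⟨k, hk⟩ := MulAction.exists_smul_eq φ.range S₀ S
      refine ⟨ρ k ⟨t, htT⟩, ?_, ?_⟩
      · intro hc
        apply htF
        have h3 : ρ k⁻¹ (ρ k ⟨t, htT⟩) = ρ k ⟨t, htT⟩ := by
          obtain ⟨g, hg⟩ := hf k⁻¹
          rw [← hg]
          exact (hρ g _).2 (mem_center_iff.1 hc g)
        rw [← MulAut.mul_apply, ← map_mul, inv_mul_cancel, map_one] at h3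
        rw [show (⟨t, htT⟩ : ↥T) = ρ k ⟨t, htT⟩ from h3]
        exact hc
      · intro x hx
        rw [← hk, mem_smul_sylow] at hx
        have h3 := (hS₀ _ (twoEl_of_mem_isPGroup S₀.isPGroup' hx)).2 hx
        calc ρ x (ρ k ⟨t, htT⟩) = ρ k (ρ (k⁻¹ * x * k) ⟨t, htT⟩) := by
              simp only [← MulAut.mul_apply, ← map_mul]; congr 2; group
          _ = ρ k ⟨t, htT⟩ := by rw [h3]
    · intro w p hp hp2 hw hr v e
      by_contra hv
      haveI : Fact p.Prime := ⟨hp⟩
      obtain ⟨u', hu'⟩ := rl_iff.1 hr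
      obtain ⟨x, u, j, hxo, hxw, -, hux⟩ := exists_real_lift f hf hp2 hw hu'
      have hodd : Odd (orderOf x) := hxo ▸ (hp.odd_of_ne_two hp2).pow
      have hx1 : x ≠ 1 := fun e1 => by
        rw [← hxw, e1, map_one, orderOf_one] at hw; exact hp.one_lt.ne hw
      have hxr : Rl x := rl_iff.2 ⟨u, hux⟩
      have hxv : Commute x (v : G) := (hρ x v).1 (hxw.symm ▸ e)
      have hev : Even (cl x) := even_cl_of_sq hxr fun e1 => hx1 (eq_one_of_mul_self_odd e1 hodd)
      obtain ⟨c, hc, hd⟩ := exists_factor (C := centralizer ({x} : Set G))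
        (D := centralizer ({(v : G)} : Set G)) (coprime_of_even h h2 (hF v hv) hxr hev) u
      have hcx : Commute c x := mem_cz.1 hc
      refine hx1 (eq_one_of_inverted h h2 (hF v hv) hodd hxv (mem_cz.1 hd) ?_)
      calc c⁻¹ * u * x * (c⁻¹ * u)⁻¹ = c⁻¹ * (u * x * u⁻¹) * c := by group
        _ = x⁻¹ := by rw [hux, mul_assoc, hcx.inv_right.symm.eq, inv_mul_cancel_left]
    · intro w p hp hp2 hw hr v hv
      haveI : Fact p.Prime := ⟨hp⟩
      obtain ⟨u', hu'⟩ := rl_iff.1 hr
      obtain ⟨x, u, j, hxo, hxw, -, hux⟩ := exists_real_lift f hf hp2 hw hu'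
      have hodd : Odd (orderOf x) := hxo ▸ (hp.odd_of_ne_two hp2).pow
      have hx1 : x ≠ 1 := fun e1 => by
        rw [← hxw, e1, map_one, orderOf_one] at hw; exact hp.one_lt.ne hw
      have hxr : Rl x := rl_iff.2 ⟨u, hux⟩
      have hev : Even (cl x) := even_cl_of_sq hxr fun e1 => hx1 (eq_one_of_mul_self_odd e1 hodd)
      rw [hidx]
      refine (coprime_of_even h h2 (hF v hv) hxr hev).of_dvd_left ?_
      rw [← hxw]
      exact ClassGraph.classIndex_map_dvd f hf x
  have himg : (twoGen G).map f ≤ twoGen φ.range := by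
    rw [map_le_iff_le_comap, twoGen, closure_le]
    intro g hg
    exact mem_twoGen (TwoEl.map (show TwoEl g from hg) f)
  -- the 2-elements of the kernel lie in every Sylow subgroup
  have hgen : ∀ (S : Sylow 2 G) (g : G), g ∈ (S : Subgroup G) → ∀ l ∈ f.ker,
      g * l * g⁻¹ * l⁻¹ ∈ (S : Subgroup G) := by
    intro S g hg l hl
    obtain ⟨v, hv, hvS⟩ := hgeo.all (S.mapSurjective hf)
    obtain ⟨S', -, hS'2⟩ := hsyl v hv
    have hle : (S : Subgroup G) ≤ S' := fun x hx => hS'2 x (twoEl_of_mem_isPGroup S.isPGroup' hx)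
      ((hρ x v).1 (hvS _ ⟨x, hx, rfl⟩))
    have heq : (S' : Subgroup G) = S := S.3 S'.2 hle
    have hlv : Commute l (v : G) := (hker l).1 hl v v.2
    have h3 : l * g⁻¹ * l⁻¹ ∈ (S : Subgroup G) := heq ▸ hS'2 _
      (((twoEl_of_mem_isPGroup S.isPGroup' ((S : Subgroup G).inv_mem hg))).conj l)
      ((hlv.mul_left ((hρ g v).1 (hvS _ ⟨g, hg, rfl⟩)).inv_left).mul_left hlv.inv_left)
    rw [show g * l * g⁻¹ * l⁻¹ = g * (l * g⁻¹ * l⁻¹) by group]
    exact (S : Subgroup G).mul_mem hg h3
  set P := closure {g : G | g ∈ f.ker ∧ TwoEl g} with hP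
  have hPker : P ≤ f.ker := (closure_le _).2 fun g hg => hg.1
  have hPK : P ≤ twoGen G := (closure_le _).2 fun g hg => mem_twoGen hg.2
  have hPp : IsPGroup 2 P := by
    obtain ⟨S, hS1, hS2⟩ := hsyl _ htF
    refine S.isPGroup'.to_le ((closure_le _).2 fun g hg => hS2 g hg.2 ?_)
    exact (hker g).1 hg.1 t htT
  haveI hPn : P.Normal := by
    refine ⟨fun x hx c => ?_⟩
    induction hx using closure_induction with
    | mem y hy => exact subset_closure ⟨(inferInstance : f.ker.Normal).conj_mem y hy.1 c, hy.2.conj c⟩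
    | one => rw [mul_one, mul_inv_cancel]; exact one_mem _
    | mul a b _ _ ha hb =>
      rw [show c * (a * b) * c⁻¹ = (c * a * c⁻¹) * (c * b * c⁻¹) by group]
      exact mul_mem ha hb
    | inv a _ ha =>
      rw [show c * a⁻¹ * c⁻¹ = (c * a * c⁻¹)⁻¹ by group]
      exact inv_mem ha
  let K := twoGen G
  have hall : ∀ l : G, l ∈ f.ker → ∀ y ∈ K, y * l * y⁻¹ * l⁻¹ ∈ P := by
    intro l hlL
    intro y hy
    induction hy using closure_induction with
    | mem g hg =>
      obtain ⟨S, hS⟩ := exists_sylow_mem (show TwoEl g from hg)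
      refine subset_closure ⟨?_, twoEl_of_mem_isPGroup S.isPGroup' (hgen S g hS l hlL)⟩
      exact f.ker.mul_mem ((inferInstance : f.ker.Normal).conj_mem _ hlL g) (f.ker.inv_mem hlL)
    | one => simp [one_mem]
    | mul a b _ _ ha hb =>
      rw [show a * b * l * (a * b)⁻¹ * l⁻¹ =
        (a * (b * l * b⁻¹ * l⁻¹) * a⁻¹) * (a * l * a⁻¹ * l⁻¹) by group]
      exact mul_mem (hPn.conj_mem _ hb a) ha
    | inv a _ ha =>
      rw [show a⁻¹ * l * a⁻¹⁻¹ * l⁻¹ =
        a⁻¹ * (a * l * a⁻¹ * l⁻¹)⁻¹ * a⁻¹⁻¹ by group]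
      exact hPn.conj_mem _ (inv_mem ha) _
  let π := QuotientGroup.mk' (P.subgroupOf K)
  refine ⟨fun q hq hq2 hqK => ?_, fun hFT => ?_⟩
  swap
  · obtain ⟨N, S, hNn, hNodd, hle⟩ := hgeo.geo_main.2
    haveI := hNn
    haveI hIm : Group.IsSolvable (twoGen φ.range) := isSolvable_sup (hFT _ hNodd) S.isPGroup' hle
    let g : ↥K →* twoGen φ.range :=
      (f.comp K.subtype).codRestrict _ fun z => himg ⟨z, z.2, rfl⟩
    haveI : Group.IsSolvable P := Solvable.isSolvable_of_isPGroup hPp
    let i : ↥P →* g.ker :=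
      ((Subgroup.inclusion hPK).codRestrict g.ker fun p => Subtype.ext (hPker p.2))
    let ψ : g.ker →* ↥K ⧸ P.subgroupOf K := π.comp g.ker.subtype
    haveI : Group.IsSolvable ψ.range := Group.isSolvable_of_comm (by
      rintro ⟨_, a, rfl⟩ ⟨_, b, rfl⟩
      refine Subtype.ext ?_
      show π (a : ↥K) * π (b : ↥K) = π (b : ↥K) * π (a : ↥K)
      rw [← map_mul, ← map_mul]
      refine (QuotientGroup.eq_iff_div_mem).2 ?_
      show ((((a : ↥K) * b) / ((b : ↥K) * a) : ↥K) : G) ∈ P
      rw [div_eq_mul_inv, mul_inv_rev]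
      simpa [mul_assoc] using hall _ (congrArg Subtype.val b.2) _ (a : ↥K).2)
    haveI : Group.IsSolvable g.ker := Group.isSolvable_of_ker_le_range i ψ.rangeRestrict (by
      intro z hz
      have h3 : π (z : ↥K) = 1 := congrArg Subtype.val hz
      exact ⟨⟨((z : ↥K) : G), (QuotientGroup.eq_one_iff (N := P.subgroupOf K) (z : ↥K)).1 h3⟩, rfl⟩)
    exact Group.isSolvable_of_ker_le_range g.ker.subtype g (by rw [Subgroup.range_subtype])
  haveI : Fact q.Prime := ⟨hq⟩
  by_contra hqB
  have hnot : ¬ q ∣ Nat.card (twoGen φ.range) := by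
    intro hd
    obtain ⟨v, hv, hvd⟩ := hgeo.exists_index hq hq2 hd
    rw [hidx] at hvd
    obtain ⟨hvr, b', hb', -, hbd'⟩ := hF v hv
    exact hqB (h.symm.mem_of_dvd hvr hb' hbd' hq hvd).1
  obtain ⟨Q⟩ := (inferInstance : Nonempty (Sylow q ↥K))
  have hQL : ∀ l ∈ (Q : Subgroup ↥K), (l : G) ∈ f.ker := by
    intro l hl
    obtain ⟨j, hj⟩ := IsPGroup.iff_orderOf.1 Q.isPGroup' ⟨l, hl⟩
    rw [← orderOf_coe, ← orderOf_coe] at hj
    change orderOf (l : G) = q ^ j at hj
    show f (l : G) = 1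
    obtain ⟨i, -, hi⟩ := (Nat.dvd_prime_pow hq).1 (hj ▸ orderOf_map_dvd f (l : G))
    rcases i with _ | i
    · exact orderOf_eq_one_iff.1 (by rw [hi, pow_zero])
    · exfalso
      refine hnot (dvd_trans ?_ (card_dvd_of_le himg))
      refine dvd_trans (dvd_pow_self q (Nat.succ_ne_zero i)) ?_
      rw [← hi, ← orderOf_mk (f (l : G)) (mem_map_of_mem f l.2)]
      exact orderOf_dvd_natCard _
  have hcard : q ∣ Nat.card (↥K ⧸ P.subgroupOf K) := by
    have h3 : q ∣ Nat.card K := hqK
    rw [(P.subgroupOf K).card_eq_card_quotient_mul_card_subgroup] at h3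
    refine ((Nat.Prime.dvd_mul hq).1 h3).resolve_right fun hd => hq2 ?_
    rw [Nat.card_congr (subgroupOfEquivOfLe hPK).toEquiv] at hd
    obtain ⟨k, hk⟩ := hPp.exists_card_eq
    rw [hk] at hd
    exact (Nat.prime_dvd_prime_iff_eq hq Nat.prime_two).1 (hq.dvd_of_dvd_pow hd)
  refine not_dvd_of_central (X := π '' ((Subtype.val : K → G) ⁻¹' {g | ∃ k : ℕ, orderOf g = 2 ^ k}))
    ?_ ?_ (Q.mapSurjective (QuotientGroup.mk'_surjective _)) ?_ hcard
  · rw [← MonoidHom.map_closure]
    show (closure ((Subtype.val : ↥(closure {g : G | ∃ k : ℕ, orderOf g = 2 ^ k}) → G) ⁻¹' _)).map π = ⊤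
    rw [closure_closure_coe_preimage]
    exact map_top_of_surjective π (QuotientGroup.mk'_surjective _)
  · rintro _ ⟨g, hg, rfl⟩ hd
    obtain ⟨k, hk⟩ := (show TwoEl (g : G) from hg)
    rw [orderOf_coe] at hk
    have h3 := hd.trans (orderOf_map_dvd π g)
    rw [hk] at h3
    exact hq2 ((Nat.prime_dvd_prime_iff_eq hq Nat.prime_two).1 (hq.dvd_of_dvd_pow h3))
  · rintro _ ⟨l, hl, rfl⟩
    rw [mem_center_iff]
    intro z
    obtain ⟨z, rfl⟩ := QuotientGroup.mk'_surjective _ z
    have hlL := hQL l hl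
    rw [← map_mul, ← map_mul]
    refine (QuotientGroup.eq_iff_div_mem).2 ?_
    show ((z * l / (l * z) : ↥K) : G) ∈ P
    rw [div_eq_mul_inv, mul_inv_rev]
    simpa [mul_assoc] using hall (l : G) hlL z z.2

theorem caseB (h : Disc G A B) (h2 : 2 ∈ A)
    (hcomm : ∀ t : G, Small B t → ∀ g : G, Commute (g * t * g⁻¹) t)
    {q : ℕ} (hq : q.Prime) (hq2 : q ≠ 2) (hqK : q ∣ Nat.card (twoGen G)) : q ∈ B :=
  (caseB_main h h2 hcomm).1 q hq hq2 hqK

end CfsgLib.RealClassDisc
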