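import Cfsg.Agent.Lib.RealClassDisc.Basic

/-!
# Two separated sets of primes dividing real class sizes

If the primes dividing real class sizes split into two parts that never divide the same size, then
some real class has even size; elements with a size in the odd part are involutions with 2-closed
centralisers.
-/

set_option autoImplicit false

namespace CfsgLib.RealClassDisc

variable {G : Type*} [Group G] [Finite G]

/-- The real class sizes split. -/
structure Disc (G : Type*) [Group G] (A B : Set ℕ) : Prop where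
  cover : ∀ x : G, Rl x → ∀ q : ℕ, q.Prime → q ∣ cl x → q ∈ A ∨ q ∈ B
  pure : ∀ x : G, Rl x → ∀ a ∈ A, ∀ b ∈ B, ¬ (a ∣ cl x ∧ b ∣ cl x)
  witA : ∃ (x : G) (a : ℕ), Rl x ∧ a ∈ A ∧ a.Prime ∧ a ∣ cl x
  witB : ∃ (x : G) (b : ℕ), Rl x ∧ b ∈ B ∧ b.Prime ∧ b ∣ cl x

/-- A real element with a class size meeting `B`. -/
def Small (B : Set ℕ) (x : G) : Prop := Rl x ∧ ∃ b ∈ B, b.Prime ∧ b ∣ cl x

omit [Finite G] in
theorem Small.conj {B : Set ℕ} {x : G} (h : Small B x) (c : G) : Small B (c * x * c⁻¹) :=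
  ⟨h.1.conj c, by rw [cl_conj]; exact h.2⟩

theorem cl_ne_zero (x : G) : cl x ≠ 0 := Subgroup.index_ne_zero_of_finite

theorem mul_dvd_of_commute {x y : G} (_hc : Commute x y) (hco : (cl x).Coprime (cl y)) :
    cl (x * y) ∣ cl x * cl y := by
  have hle : Subgroup.centralizer ({x} : Set G) ⊓ Subgroup.centralizer {y} ≤
      Subgroup.centralizer {x * y} := fun g hg =>
    mem_cz.2 ((mem_cz.1 hg.1).mul_right (mem_cz.1 hg.2))
  refine (Subgroup.index_dvd_of_le hle).trans ?_
  have h1 := Subgroup.index_dvd_of_le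
    (inf_le_left : Subgroup.centralizer ({x} : Set G) ⊓ Subgroup.centralizer {y} ≤ _)
  have h2 := Subgroup.index_dvd_of_le
    (inf_le_right : Subgroup.centralizer ({x} : Set G) ⊓ Subgroup.centralizer {y} ≤ _)
  have h3 : (Subgroup.centralizer ({x} : Set G) ⊓ Subgroup.centralizer {y}).index ≤ cl x * cl y :=
    Subgroup.index_inf_le
  have h4 : cl x * cl y ∣
      (Subgroup.centralizer ({x} : Set G) ⊓ Subgroup.centralizer {y}).index :=
    hco.mul_dvd_of_dvd_of_dvd h1 h2
  exact dvd_of_eq (le_antisymm h3 (Nat.le_of_dvd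
    (Nat.pos_of_ne_zero Subgroup.index_ne_zero_of_finite) h4))

/-- Multiplying the class of `x` by a conjugate of `y`, when the product class is not larger. -/
theorem image_mul_eq {x y : G} (hco : (cl x).Coprime (cl y)) (hk : cl (x * y) ≤ cl x) {y' : G}
    (hy' : IsConj y y') : (fun a => a * y') '' conjSet x = conjSet (x * y) := by
  refine Set.eq_of_subset_of_ncard_le ?_ ?_ (Set.toFinite _)
  · rintro _ ⟨a, ha, rfl⟩
    obtain ⟨g, rfl⟩ := isConj_iff.1 (show IsConj x a from ha)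
    obtain ⟨h, rfl⟩ := isConj_iff.1 hy'
    exact ClassSize.GraphSplit.isConj_mul_of_coprime hco g h
  · rw [Set.ncard_image_of_injective _ (mul_left_injective y'), ncard_conjSet, ncard_conjSet]
    exact hk

theorem mul_ratio_mem {x y : G} (hco : (cl x).Coprime (cl y)) (hk : cl (x * y) ≤ cl x) {y' : G}
    (hy' : IsConj y y') {a : G} (ha : a ∈ conjSet x) : a * (y * y'⁻¹) ∈ conjSet x := by
  have h : a * y ∈ (fun a => a * y') '' conjSet x := by
    rw [image_mul_eq hco hk hy', ← image_mul_eq hco hk (IsConj.refl y)]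
    exact ⟨a, ha, rfl⟩
  obtain ⟨b, hb, e⟩ := h
  have : a * (y * y'⁻¹) = b := by
    rw [← mul_assoc, mul_inv_eq_iff_eq_mul]; exact e.symm
  rw [this]; exact hb

theorem even_of_le {x y : G} (hco : (cl x).Coprime (cl y)) (hk : cl (x * y) ≤ cl x)
    (hy : y * y = 1) (hcomm : ∀ y', IsConj y y' → Commute y y') (hy1 : 1 < cl y) :
    Even (cl x) := by
  rw [← ncard_conjSet] at hy1 ⊢
  obtain ⟨y', hy', hne⟩ := Set.exists_ne_of_one_lt_ncard hy1 y
  set z := y * y'⁻¹ with hz
  have hy'2 : y' * y' = 1 := by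
    obtain ⟨c, rfl⟩ := isConj_iff.1 (show IsConj y y' from hy')
    calc c * y * c⁻¹ * (c * y * c⁻¹) = c * (y * y) * c⁻¹ := by group
      _ = 1 := by rw [hy]; group
  have hzz : z * z = 1 := by
    rw [hz, inv_eq_of_mul_eq_one_right hy'2]
    calc y * y' * (y * y') = y * (y' * y) * y' := by group
      _ = 1 := by
        rw [← (hcomm y' hy').eq, ← mul_assoc, hy, one_mul, hy'2]
  have hz1 : z ≠ 1 := fun e => hne (mul_inv_eq_one.1 e).symm
  exact card_eq_of_even_free (fun a => a * z) (fun a ha => mul_ratio_mem hco hk hy' ha)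
    (fun a _ => by rw [mul_assoc, hzz, mul_one]) (fun a _ e => hz1 (mul_left_cancel (e.trans (mul_one a).symm)))

namespace Disc

variable {A B : Set ℕ}

theorem symm (h : Disc G A B) : Disc G B A where
  cover x hx q hq hd := (h.cover x hx q hq hd).symm
  pure x hx a ha b hb hd := h.pure x hx b hb a ha ⟨hd.2, hd.1⟩
  witA := h.witB
  witB := h.witA

theorem mem_of_dvd (h : Disc G A B) {x : G} (hx : Rl x) {a : ℕ} (ha : a ∈ A) (had : a ∣ cl x)
    {q : ℕ} (hq : q.Prime) (hqd : q ∣ cl x) : q ∈ A ∧ q ∉ B :=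
  have hnB : q ∉ B := fun hb => h.pure x hx a ha q hb ⟨had, hqd⟩
  ⟨(h.cover x hx q hq hqd).resolve_right hnB, hnB⟩

theorem coprime (h : Disc G A B) {x y : G} (hx : Rl x) (hy : Rl y) {a b : ℕ} (ha : a ∈ A)
    (had : a ∣ cl x) (hb : b ∈ B) (hbd : b ∣ cl y) : (cl x).Coprime (cl y) := by
  by_contra hn
  obtain ⟨q, hq, h1, h2⟩ := Nat.Prime.not_coprime_iff_dvd.1 hn
  exact (h.mem_of_dvd hx ha had hq h1).2 (h.symm.mem_of_dvd hy hb hbd hq h2).1

/-- A real product of elements with coprime sizes has size dividing one of them. -/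
theorem dvd_or_dvd (h : Disc G A B) {x y : G} (hx : Rl x) (hy : Rl y) (hz : Rl (x * y))
    (hc : Commute x y) {a b : ℕ} (ha : a ∈ A) (had : a ∣ cl x) (hb : b ∈ B) (hbd : b ∣ cl y) :
    cl (x * y) ∣ cl x ∨ cl (x * y) ∣ cl y := by
  have hco := h.coprime hx hy ha had hb hbd
  have hd := mul_dvd_of_commute hc hco
  by_cases hB : ∃ q, q.Prime ∧ q ∣ cl (x * y) ∧ q ∈ B
  · obtain ⟨q, hq, hqd, hqB⟩ := hB
    refine Or.inr ((Nat.coprime_of_dvd fun r hr h1 h2 => ?_).dvd_of_dvd_mul_left hd)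
    exact (h.mem_of_dvd hx ha had hr h2).2 (h.symm.mem_of_dvd hz hqB hqd hr h1).1
  · push Not at hB
    refine Or.inl ((Nat.coprime_of_dvd fun r hr h1 h2 => ?_).dvd_of_dvd_mul_right hd)
    exact hB r hr h1 (h.symm.mem_of_dvd hy hb hbd hr h2).1

/-- Some real class size is even. -/
theorem exists_even (h : Disc G A B) : ∃ x : G, Rl x ∧ Even (cl x) := by
  by_contra hne
  push Not at hne
  have hsq : ∀ x : G, Rl x → x * x = 1 := fun x hx =>
    sq_eq_one_of_odd hx (Nat.not_even_iff_odd.1 (hne x hx))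
  have hcomm : ∀ x y : G, x * x = 1 → y * y = 1 → Commute x y := by
    intro x y hx hy
    have hr : Rl (x * y) := rl_iff.2 ⟨x, by
      rw [mul_inv_rev, inv_eq_of_mul_eq_one_right hx, inv_eq_of_mul_eq_one_right hy, ← mul_assoc x,
        hx, one_mul]⟩
    have h1 := hsq _ hr
    show x * y = y * x
    have h2 := inv_eq_of_mul_eq_one_right h1
    rwa [mul_inv_rev, inv_eq_of_mul_eq_one_right hx, inv_eq_of_mul_eq_one_right hy, eq_comm] at h2
  obtain ⟨x, a, hx, ha, hap, had⟩ := h.witA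
  obtain ⟨y, b, hy, hb, hbp, hbd⟩ := h.witB
  have hc := hcomm x y (hsq x hx) (hsq y hy)
  have hz : Rl (x * y) := rl_iff.2 ⟨1, by
    rw [one_mul, inv_one, mul_one, eq_comm, inv_eq_iff_mul_eq_one]
    calc x * y * (x * y) = x * x * (y * y) := hc.symm.mul_mul_mul_comm x y
      _ = 1 := by rw [hsq x hx, hsq y hy, one_mul]⟩
  have hconj : ∀ {u v : G}, u * u = 1 → IsConj u v → v * v = 1 := by
    intro u v hu huv
    obtain ⟨c, rfl⟩ := isConj_iff.1 huv
    calc c * u * c⁻¹ * (c * u * c⁻¹) = c * (u * u) * c⁻¹ := by group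
      _ = 1 := by rw [hu]; group
  have hco := h.coprime hx hy ha had hb hbd
  rcases h.dvd_or_dvd hx hy hz hc ha had hb hbd with hd | hd
  · exact hne x hx (even_of_le hco (Nat.le_of_dvd (Nat.pos_of_ne_zero (cl_ne_zero x)) hd) (hsq y hy)
      (fun y' hy' => hcomm y y' (hsq y hy) (hconj (hsq y hy) hy'))
      (lt_of_lt_of_le hbp.one_lt (Nat.le_of_dvd (Nat.pos_of_ne_zero (cl_ne_zero y)) hbd)))
  · rw [hc.eq] at hd
    exact hne y hy (even_of_le hco.symm (Nat.le_of_dvd (Nat.pos_of_ne_zero (cl_ne_zero y)) hd)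
      (hsq x hx) (fun x' hx' => hcomm x x' (hsq x hx) (hconj (hsq x hx) hx'))
      (lt_of_lt_of_le hap.one_lt (Nat.le_of_dvd (Nat.pos_of_ne_zero (cl_ne_zero x)) had)))

end Disc

variable {A B : Set ℕ}

theorem odd_of_small (h : Disc G A B) (h2 : 2 ∈ A) {t : G} (ht : Small B t) : Odd (cl t) := by
  obtain ⟨hr, b, hb, -, hbd⟩ := ht
  rw [← Nat.not_even_iff_odd, even_iff_two_dvd]
  exact fun hd => h.pure t hr 2 h2 b hb ⟨hd, hbd⟩

theorem mul_self_of_small (h : Disc G A B) (h2 : 2 ∈ A) {t : G} (ht : Small B t) : t * t = 1 :=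
  sq_eq_one_of_odd ht.1 (odd_of_small h h2 ht)

omit [Finite G] in
theorem one_lt_of_small [Finite G] {t : G} (ht : Small B t) : 1 < cl t := by
  obtain ⟨-, b, -, hbp, hbd⟩ := ht
  exact lt_of_lt_of_le hbp.one_lt (Nat.le_of_dvd (Nat.pos_of_ne_zero (cl_ne_zero t)) hbd)

theorem coprime_of_even (h : Disc G A B) (h2 : 2 ∈ A) {t w : G} (ht : Small B t) (hw : Rl w)
    (he : Even (cl w)) : (cl w).Coprime (cl t) := by
  obtain ⟨hr, b, hb, -, hbd⟩ := ht
  exact h.coprime hw hr h2 (even_iff_two_dvd.1 he) hb hbd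

/-- A small element commutes with no nontrivial inverted element of odd order. -/
theorem eq_one_of_inverted (h : Disc G A B) (h2 : 2 ∈ A) {t : G} (ht : Small B t) {w u : G}
    (hw : Odd (orderOf w)) (hwt : Commute w t) (hut : Commute u t) (hu : u * w * u⁻¹ = w⁻¹) :
    w = 1 := by
  by_contra hne
  have ht2 := mul_self_of_small h h2 ht
  have hti : t⁻¹ = t := inv_eq_of_mul_eq_one_right ht2
  have hr : Rl (w * t) := rl_iff.2 ⟨u, by
    calc u * (w * t) * u⁻¹ = (u * w * u⁻¹) * (u * t * u⁻¹) := by group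
      _ = (w * t)⁻¹ := by
        rw [hu, hut.eq, mul_inv_cancel_right, hwt.eq, mul_inv_rev, hti]⟩
  have hsq : (w * t) * (w * t) ≠ 1 := by
    rw [hwt.symm.mul_mul_mul_comm w t, ht2, mul_one]
    exact fun e => hne (eq_one_of_mul_self_odd e hw)
  have ho : (orderOf w).Coprime (orderOf t) := by
    have : orderOf t ∣ 2 := orderOf_dvd_of_pow_eq_one (by rw [pow_two, ht2])
    exact ((Nat.coprime_two_right.2 hw)).of_dvd_right this
  obtain ⟨-, hd⟩ := ClassSize.GraphSplit.index_dvd_mul_coprime hwt ho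
  obtain ⟨-, b, hb, -, hbd⟩ := ht
  exact h.pure _ hr 2 h2 b hb ⟨even_iff_two_dvd.1 (even_cl_of_sq hr hsq), hbd.trans hd⟩

/-- The Sylow 2-subgroup of the centraliser of a small element. -/
theorem exists_sylow (h : Disc G A B) (h2 : 2 ∈ A) {t : G} (ht : Small B t) :
    ∃ S : Sylow 2 G, (∀ g ∈ (S : Subgroup G), Commute g t) ∧
      ∀ g : G, TwoEl g → Commute g t → g ∈ (S : Subgroup G) := by
  haveI : Fact (Nat.Prime 2) := ⟨Nat.prime_two⟩
  set C := Subgroup.centralizer ({t} : Set G) with hC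
  obtain ⟨S₀⟩ := (inferInstance : Nonempty (Sylow 2 ↥C))
  have hidx : ¬ 2 ∣ ((S₀ : Subgroup ↥C).map C.subtype).index := by
    rw [Subgroup.index_map_subtype]
    intro hd
    rcases (Nat.Prime.dvd_mul Nat.prime_two).1 hd with hd | hd
    · exact S₀.not_dvd_index hd
    · exact Nat.not_even_iff_odd.2 (odd_of_small h h2 ht) (even_iff_two_dvd.2 hd)
  refine ⟨(S₀.2.map C.subtype).toSylow hidx, ?_, ?_⟩
  · rintro _ ⟨c, -, rfl⟩
    exact mem_cz.1 c.2
  · intro g hg hgt
    refine ⟨⟨g, mem_cz.2 hgt⟩, sylow_mem_of_no_real (fun w hw hwo => ?_) S₀ (twoEl_coe_iff.1 hg), rfl⟩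
    obtain ⟨u, hu⟩ := rl_iff.1 hw
    exact Subtype.ext (eq_one_of_inverted h h2 ht (u := (u : G)) (by rwa [Subgroup.orderOf_coe])
      (mem_cz.1 w.2) (mem_cz.1 u.2) (by simpa using congrArg Subtype.val hu))

/-- The subgroup generated by the elements of 2-power order. -/
def twoGen (G : Type*) [Group G] : Subgroup G :=
  Subgroup.closure {g : G | ∃ k : ℕ, orderOf g = 2 ^ k}

omit [Finite G] in
theorem mem_twoGen {g : G} (h : TwoEl g) : g ∈ twoGen G := Subgroup.subset_closure h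

instance twoGen_normal : (twoGen G).Normal := by
  refine ⟨fun x hx c => ?_⟩
  induction hx using Subgroup.closure_induction with
  | mem y hy => exact mem_twoGen (TwoEl.conj hy c)
  | one => rw [mul_one, mul_inv_cancel]; exact one_mem _
  | mul a b _ _ ha hb =>
    rw [show c * (a * b) * c⁻¹ = (c * a * c⁻¹) * (c * b * c⁻¹) by group]
    exact mul_mem ha hb
  | inv a _ ha =>
    rw [show c * a⁻¹ * c⁻¹ = (c * a * c⁻¹)⁻¹ by group]
    exact inv_mem ha

end CfsgLib.RealClassDisc
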