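import Mathlib

/-!
# The centraliser of an irreducible abelian group of automorphisms

An abelian group acting irreducibly on a section of exponent two has cyclic centraliser of odd
order, and there no element of order seven is conjugate to its inverse.
-/

set_option autoImplicit false

namespace CfsgLib.RealClassDisc

/-- An abelian subgroup acting irreducibly and fixed-point-freely above `F`. -/
structure Irred {H T : Type*} [Group H] [CommGroup T] (ρ : H →* MulAut T) (F : Subgroup T)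
    (A : Subgroup H) : Prop where
  inj : Function.Injective ρ
  exp : ∀ x : T, x * x = 1
  fixF : ∀ (h : H), ∀ x ∈ F, ρ h x = x
  ne_top : F ≠ ⊤
  comm : ∀ a ∈ A, ∀ b ∈ A, a * b = b * a
  semi : ∀ a ∈ A, a ≠ 1 → ∀ x : T, ρ a x = x → x ∈ F
  sq : ∃ a ∈ A, a * a ≠ 1
  irr : ∀ W : Subgroup T, F ≤ W → (∀ a ∈ A, ∀ x ∈ W, ρ a x ∈ W) → W = F ∨ W = ⊤

/-- The subgroup fixed by an element. -/
def fixOf {H T : Type*} [Group H] [CommGroup T] (ρ : H →* MulAut T) (h : H) : Subgroup T where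
  carrier := {x | ρ h x = x}
  one_mem' := map_one (ρ h)
  mul_mem' := fun {a b} ha hb => by
    show ρ h (a * b) = a * b
    rw [map_mul, show ρ h a = a from ha, show ρ h b = b from hb]
  inv_mem' := fun {a} ha => by
    show ρ h a⁻¹ = a⁻¹
    rw [map_inv, show ρ h a = a from ha]

@[simp] theorem mem_fixOf {H T : Type*} [Group H] [CommGroup T] {ρ : H →* MulAut T} {h : H}
    {x : T} : x ∈ fixOf ρ h ↔ ρ h x = x := Iff.rfl

namespace Irred

variable {H T : Type*} [Group H] [CommGroup T] {ρ : H →* MulAut T} {F : Subgroup T}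
  {A : Subgroup H}

theorem ρ_mul (_P : Irred ρ F A) (g h : H) (x : T) : ρ (g * h) x = ρ g (ρ h x) := by
  rw [map_mul]; rfl

/-- A nontrivial element commuting with `A` fixes nothing outside `F`. -/
theorem semiregular (P : Irred ρ F A) {c : H} (hc : c ∈ Subgroup.centralizer (A : Set H))
    (hc1 : c ≠ 1) {x : T} (hx : ρ c x = x) : x ∈ F := by
  rcases P.irr (fixOf ρ c) (fun y hy => P.fixF c y hy) (fun a ha y hy => by
    show ρ c (ρ a y) = ρ a y
    rw [← P.ρ_mul, ← Subgroup.mem_centralizer_iff.1 hc a ha, P.ρ_mul,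
      show ρ c y = y from hy]) with h | h
  · rw [← h]; exact hx
  · refine absurd (P.inj ?_) hc1
    rw [map_one]
    exact MulEquiv.ext fun y => (show y ∈ fixOf ρ c from h ▸ Subgroup.mem_top y)

/-- No involution commutes with `A`. -/
theorem eq_one_of_mul_self (P : Irred ρ F A) {c : H} (hc : c ∈ Subgroup.centralizer (A : Set H))
    (hcc : c * c = 1) : c = 1 := by
  by_contra hc1
  obtain ⟨a, ha, ha2⟩ := P.sq
  obtain ⟨x, hx⟩ : ∃ x, x ∉ F := by
    by_contra hcon
    push Not at hcon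
    exact P.ne_top ((Subgroup.eq_top_iff' F).2 hcon)
  have hφ : ∀ y, ρ c (y * ρ c y) = y * ρ c y := fun y => by
    rw [map_mul, ← P.ρ_mul, hcc, map_one, MulAut.one_apply, mul_comm]
  have hφF : ∀ y, y * ρ c y ∈ F := fun y => P.semiregular hc hc1 (hφ y)
  have h1 : ρ a x * x⁻¹ ∈ F := by
    refine P.semiregular hc hc1 ?_
    have h2 : ρ a (x * ρ c x) = x * ρ c x := P.fixF a _ (hφF x)
    rw [map_mul, ← P.ρ_mul, Subgroup.mem_centralizer_iff.1 hc a ha, P.ρ_mul] at h2
    rw [map_mul, map_inv]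
    have e1 : ρ c (ρ a x) = (ρ a x)⁻¹ * (x * ρ c x) := by rw [eq_inv_mul_iff_mul_eq]; exact h2
    rw [e1, inv_eq_of_mul_eq_one_right (P.exp (ρ a x))]
    calc ρ a x * (x * ρ c x) * (ρ c x)⁻¹ = ρ a x * x := by group
      _ = ρ a x * x⁻¹ := by rw [inv_eq_of_mul_eq_one_right (P.exp x)]
  refine hx (P.semi (a * a) (A.mul_mem ha ha) ha2 x ?_)
  have h3 : ρ a (ρ a x * x⁻¹) = ρ a x * x⁻¹ := P.fixF a _ h1
  rw [map_mul, map_inv, mul_inv_eq_iff_eq_mul] at h3
  rw [P.ρ_mul, h3, mul_right_comm, P.exp, one_mul, inv_eq_of_mul_eq_one_right (P.exp x)]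

theorem odd_card (P : Irred ρ F A) [Finite H] :
    Odd (Nat.card (Subgroup.centralizer (A : Set H))) := by
  haveI : Fact (Nat.Prime 2) := ⟨Nat.prime_two⟩
  rw [Nat.odd_iff, ← Nat.two_dvd_ne_zero]
  intro h
  obtain ⟨c, hc⟩ := exists_prime_orderOf_dvd_card' 2 h
  have hcc : c * c = 1 := by rw [← pow_two, ← hc, pow_orderOf_eq_one]
  have := P.eq_one_of_mul_self c.2 (congrArg Subtype.val hcc)
  rw [show c = 1 from Subtype.ext this, orderOf_one] at hc
  norm_num at hc

/-- The action on the section above `F`. -/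
def quotAct (fixF : ∀ (h : H), ∀ x ∈ F, ρ h x = x) (h : H) : T ⧸ F →* T ⧸ F :=
  QuotientGroup.map F F (ρ h).toMonoidHom fun x hx => by
    show ρ h x ∈ F
    rw [fixF h x hx]; exact hx

/-- The action as additive endomorphisms. -/
def endAct (fixF : ∀ (h : H), ∀ x ∈ F, ρ h x = x) :
    H →* AddMonoid.End (Additive (T ⧸ F)) where
  toFun h := MonoidHom.toAdditive (quotAct fixF h)
  map_one' := by
    ext x
    induction x using Additive.rec with
    | ofMul y =>
      induction y using QuotientGroup.induction_on with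
      | H z =>
        show Additive.ofMul (QuotientGroup.mk (ρ 1 z)) = Additive.ofMul (QuotientGroup.mk z)
        rw [map_one]; rfl
  map_mul' g h := by
    ext x
    induction x using Additive.rec with
    | ofMul y =>
      induction y using QuotientGroup.induction_on with
      | H z =>
        show Additive.ofMul (QuotientGroup.mk (ρ (g * h) z)) =
          Additive.ofMul (QuotientGroup.mk (ρ g (ρ h z)))
        rw [map_mul]; rfl

theorem endAct_mk (fixF : ∀ (h : H), ∀ x ∈ F, ρ h x = x) (h : H) (z : T) :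
    endAct fixF h (Additive.ofMul (QuotientGroup.mk z : T ⧸ F)) =
      Additive.ofMul (QuotientGroup.mk (ρ h z) : T ⧸ F) := rfl

theorem eq_one_of_endAct (P : Irred ρ F A) {c : H} (hc : endAct P.fixF c = 1)
    (ho : Odd (orderOf c)) : c = 1 := by
  have hcc : c * c = 1 := P.inj (by
    rw [map_one]
    refine MulEquiv.ext fun z => ?_
    have h := congrArg (fun θ : AddMonoid.End (Additive (T ⧸ F)) =>
      θ (Additive.ofMul (QuotientGroup.mk z : T ⧸ F))) hc
    simp only [endAct_mk] at h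
    have h' : (QuotientGroup.mk (ρ c z) : T ⧸ F) = QuotientGroup.mk z := Additive.ofMul.injective h
    obtain ⟨f, hf, hfe⟩ : ∃ f ∈ F, ρ c z = z * f :=
      ⟨_, QuotientGroup.eq.1 h'.symm, by group⟩
    rw [P.ρ_mul, hfe, map_mul, P.fixF c f hf, hfe, mul_assoc, P.exp, mul_one]
    rfl)
  have h2 : orderOf c ∣ 2 := orderOf_dvd_of_pow_eq_one (by rw [pow_two, hcc])
  rcases (Nat.dvd_prime Nat.prime_two).1 h2 with h | h
  · exact orderOf_eq_one_iff.1 h
  · rw [h] at ho; exact absurd ho (by decide)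

/-- The ring generated by `A`, as a double centraliser. -/
def ring (P : Irred ρ F A) : Subring (AddMonoid.End (Additive (T ⧸ F))) :=
  Subring.centralizer (Subring.centralizer ((endAct P.fixF) '' (A : Set H)) : Set _)

theorem image_mem_ring (P : Irred ρ F A) {a : H} (ha : a ∈ A) : endAct P.fixF a ∈ P.ring :=
  Subring.mem_centralizer_iff.2 fun _θ hθ =>
    ((Subring.mem_centralizer_iff.1 hθ) _ ⟨a, ha, rfl⟩).symm

theorem ring_le (P : Irred ρ F A) :
    P.ring ≤ Subring.centralizer ((endAct P.fixF) '' (A : Set H)) := by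
  intro θ hθ
  rw [Subring.mem_centralizer_iff]
  rintro _ ⟨a, ha, rfl⟩
  refine (Subring.mem_centralizer_iff.1 hθ) _ (Subring.mem_centralizer_iff.2 ?_)
  rintro _ ⟨b, hb, rfl⟩
  rw [← map_mul, ← map_mul, P.comm b hb a ha]

theorem ring_comm (P : Irred ρ F A) {x y : AddMonoid.End (Additive (T ⧸ F))} (hx : x ∈ P.ring)
    (hy : y ∈ P.ring) : x * y = y * x :=
  ((Subring.mem_centralizer_iff.1 hx) y (P.ring_le hy)).symm

theorem orbit_all (P : Irred ρ F A) {v : Additive (T ⧸ F)} (hv : v ≠ 0) (x : Additive (T ⧸ F)) :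
    ∃ θ ∈ P.ring, θ v = x := by
  let W : Subgroup T :=
    { carrier := {z | ∃ θ ∈ P.ring, θ v = Additive.ofMul (QuotientGroup.mk z : T ⧸ F)}
      one_mem' := ⟨0, P.ring.zero_mem, rfl⟩
      mul_mem' := by
        rintro a b ⟨θ, hθ, ea⟩ ⟨η, hη, eb⟩
        exact ⟨θ + η, P.ring.add_mem hθ hη, by
          show θ v + η v = _
          rw [ea, eb]; rfl⟩
      inv_mem' := by
        rintro a ⟨θ, hθ, ea⟩
        exact ⟨-θ, P.ring.neg_mem hθ, by
          show -(θ v) = _
          rw [ea]; rfl⟩ }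
  have hW : W = ⊤ := by
    refine (P.irr W (fun f hf => ⟨0, P.ring.zero_mem, ?_⟩) ?_).resolve_left ?_
    · rw [(QuotientGroup.eq_one_iff f).2 hf]; rfl
    · rintro a ha z ⟨θ, hθ, e⟩
      refine ⟨endAct P.fixF a * θ, P.ring.mul_mem (P.image_mem_ring ha) hθ, ?_⟩
      show endAct P.fixF a (θ v) = _
      rw [e, endAct_mk]
    · intro hWF
      obtain ⟨z, hz⟩ := QuotientGroup.mk_surjective (s := F) (Additive.toMul v)
      have hzW : z ∈ W := ⟨1, P.ring.one_mem, by rw [hz]; rfl⟩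
      rw [hWF, ← QuotientGroup.eq_one_iff, hz] at hzW
      exact hv hzW
  obtain ⟨z, hz⟩ := QuotientGroup.mk_surjective (s := F) (Additive.toMul x)
  obtain ⟨θ, hθ, e⟩ : z ∈ W := hW ▸ Subgroup.mem_top z
  exact ⟨θ, hθ, by rw [e, hz]; rfl⟩

theorem exists_ne_zero (P : Irred ρ F A) : ∃ v : Additive (T ⧸ F), v ≠ 0 := by
  obtain ⟨x, hx⟩ : ∃ x, x ∉ F := by
    by_contra hcon
    push Not at hcon
    exact P.ne_top ((Subgroup.eq_top_iff' F).2 hcon)
  exact ⟨Additive.ofMul (QuotientGroup.mk x : T ⧸ F), fun e => hx ((QuotientGroup.eq_one_iff x).1 e)⟩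

theorem endAct_mem (P : Irred ρ F A) {c : H} (hc : c ∈ Subgroup.centralizer (A : Set H)) :
    endAct P.fixF c ∈ P.ring := by
  set γ := endAct P.fixF c with hγ
  have hγ1 : γ ∈ Subring.centralizer ((endAct P.fixF) '' (A : Set H)) := by
    rw [Subring.mem_centralizer_iff]
    rintro _ ⟨a, ha, rfl⟩
    rw [hγ, ← map_mul, ← map_mul, Subgroup.mem_centralizer_iff.1 hc a ha]
  rw [ring, Subring.mem_centralizer_iff]
  intro θ hθ
  obtain ⟨v, hv⟩ := P.exists_ne_zero
  refine AddMonoidHom.ext fun x => ?_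
  obtain ⟨ψ, hψ, rfl⟩ := P.orbit_all hv x
  obtain ⟨μ, hμ, hcv⟩ := P.orbit_all hv (γ v)
  obtain ⟨ν, hν, hθv⟩ := P.orbit_all hv (θ v)
  have key : ∀ {σ τ : AddMonoid.End (Additive (T ⧸ F))}, σ ∈ Subring.centralizer
      ((endAct P.fixF) '' (A : Set H)) → τ ∈ P.ring → ∀ z, σ (τ z) = τ (σ z) := fun hσ hτ z =>
    congrFun (congrArg DFunLike.coe ((Subring.mem_centralizer_iff.1 hτ) _ hσ)) z
  show θ (γ (ψ v)) = γ (θ (ψ v))
  rw [key hγ1 hψ, ← hcv, key hθ hψ, key hθ hμ, ← hθv, key hθ hψ, ← hθv, key hγ1 hψ, key hγ1 hν,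
    ← hcv]
  exact congrArg ψ (congrFun (congrArg DFunLike.coe (P.ring_comm hμ hν)) v)

theorem ring_noZeroDivisors (P : Irred ρ F A) : NoZeroDivisors P.ring := by
  refine ⟨fun {x y} hxy => ?_⟩
  by_contra hcon
  push Not at hcon
  obtain ⟨w, hw⟩ : ∃ w, (y : AddMonoid.End (Additive (T ⧸ F))) w ≠ 0 := by
    by_contra hc
    push Not at hc
    exact hcon.2 (Subtype.ext (AddMonoidHom.ext hc))
  refine hcon.1 (Subtype.ext (AddMonoidHom.ext fun z => ?_))
  obtain ⟨θ, hθ, rfl⟩ := P.orbit_all hw z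
  have h1 : (x : AddMonoid.End (Additive (T ⧸ F))) * θ = θ * x := P.ring_comm x.2 hθ
  show (x.1 * θ) (y.1 w) = 0
  rw [h1]
  show θ ((x.1 * y.1) w) = 0
  rw [show x.1 * y.1 = 0 from congrArg Subtype.val hxy]
  exact map_zero θ

theorem ring_nontrivial (P : Irred ρ F A) : Nontrivial P.ring := by
  obtain ⟨v, hv⟩ := P.exists_ne_zero
  exact ⟨⟨1, 0, fun e => hv (congrArg (fun θ : P.ring => θ.1 v) e)⟩⟩

theorem isCyclic (P : Irred ρ F A) [Finite H] :
    IsCyclic (Subgroup.centralizer (A : Set H)) := by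
  letI : CommRing P.ring :=
    { (inferInstance : Ring P.ring) with
      mul_comm := fun x y => Subtype.ext (P.ring_comm x.2 y.2) }
  haveI := P.ring_noZeroDivisors
  haveI := P.ring_nontrivial
  haveI : IsDomain P.ring := NoZeroDivisors.to_isDomain _
  let f : Subgroup.centralizer (A : Set H) →* P.ring :=
    { toFun := fun c => ⟨endAct P.fixF c, P.endAct_mem c.2⟩
      map_one' := Subtype.ext (map_one (endAct P.fixF))
      map_mul' := fun c d => Subtype.ext (map_mul (endAct P.fixF) (c : H) d) }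
  refine isCyclic_of_subgroup_isDomain f fun c d hcd => ?_
  have h1 : endAct P.fixF ((c : H) * (d : H)⁻¹) = 1 := by
    rw [map_mul, show endAct P.fixF (c : H) = endAct P.fixF (d : H) from congrArg Subtype.val hcd,
      ← map_mul, mul_inv_cancel, map_one]
  have h2 : Odd (orderOf ((c : H) * (d : H)⁻¹)) := by
    have h3 : (c : H) * (d : H)⁻¹ ∈ Subgroup.centralizer (A : Set H) := (c * d⁻¹).2
    exact P.odd_card.of_dvd_nat (Subgroup.orderOf_mk _ h3 ▸ orderOf_dvd_natCard _)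
  exact Subtype.ext (mul_inv_eq_one.1 (P.eq_one_of_endAct h1 h2))

/-- An element of order seven centralising `A` is not conjugate to its inverse. -/
theorem not_conj_inv_seven (P : Irred ρ F A) {y h : H}
    (hy : y ∈ Subgroup.centralizer (A : Set H)) (hy7 : orderOf y = 7)
    (hinv : h * y * h⁻¹ = y⁻¹) : False := by
  haveI := P.ring_noZeroDivisors
  haveI := P.ring_nontrivial
  haveI : IsDomain P.ring := NoZeroDivisors.to_isDomain _
  set Y : P.ring := ⟨endAct P.fixF y, P.endAct_mem hy⟩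
  set Z : P.ring := ⟨endAct P.fixF y⁻¹, P.endAct_mem (inv_mem hy)⟩
  have h2 : ∀ z : P.ring, z + z = 0 := fun z => by
    refine Subtype.ext (AddMonoidHom.ext fun w => ?_)
    show z.1 w + z.1 w = 0
    obtain ⟨u, hu⟩ := QuotientGroup.mk_surjective (s := F) (Additive.toMul (z.1 w))
    show Additive.ofMul (Additive.toMul (z.1 w) * Additive.toMul (z.1 w)) = 0
    rw [← hu, ← QuotientGroup.mk_mul, P.exp]
    rfl
  have hY7 : Y ^ 7 = 1 := Subtype.ext (by
    rw [SubmonoidClass.coe_pow]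
    show endAct P.fixF y ^ 7 = 1
    rw [← map_pow, ← hy7, pow_orderOf_eq_one, map_one])
  have hY1 : Y ≠ 1 := fun e => by
    have h1 := P.eq_one_of_endAct (c := y) (congrArg Subtype.val e) (hy7 ▸ by decide)
    rw [h1, orderOf_one] at hy7
    norm_num at hy7
  have hYZ : Y * Z = 1 := Subtype.ext (by
    show endAct P.fixF y * endAct P.fixF y⁻¹ = 1
    rw [← map_mul, mul_inv_cancel, map_one])
  -- conjugation transports a polynomial relation
  have htr : ∀ (i : ℕ), Y ^ 3 + Y ^ i + 1 = 0 → Z ^ 3 + Z ^ i + 1 = 0 := by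
    intro i e
    have e' : endAct P.fixF y ^ 3 + endAct P.fixF y ^ i + 1 = 0 := congrArg Subtype.val e
    refine Subtype.ext ?_
    show endAct P.fixF y⁻¹ ^ 3 + endAct P.fixF y⁻¹ ^ i + 1 = 0
    rw [← hinv, ← map_pow, ← map_pow, conj_pow, conj_pow, map_mul, map_mul, map_mul, map_mul,
      map_pow, map_pow, ← add_mul, ← mul_add,
      show (1 : AddMonoid.End (Additive (T ⧸ F))) = endAct P.fixF h * 1 * endAct P.fixF h⁻¹ by
        rw [mul_one, ← map_mul, mul_inv_cancel, map_one],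
      ← add_mul, ← mul_add, e', mul_zero, zero_mul]
  have hne : ∀ i, i = 1 ∨ i = 2 → Y ^ 3 + Y ^ i + 1 ≠ 0 := by
    intro i hi e
    have e2 := htr i e
    apply hY1
    have hY0 : Y ≠ 0 := fun e0 => by rw [e0, zero_mul] at hYZ; exact zero_ne_one hYZ
    have e3 : Y ^ 3 * (Z ^ 3 + Z ^ i + 1) = 0 := by rw [e2, mul_zero]
    have hk : ∀ j, j ≤ 3 → Y ^ 3 * Z ^ j = Y ^ (3 - j) := by
      intro j hj
      have hc : Commute Y Z := Subtype.ext (P.ring_comm Y.2 Z.2)
      rw [show (3 : ℕ) = (3 - j) + j by omega, pow_add, mul_assoc, ← hc.mul_pow, hYZ, one_pow,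
        mul_one, Nat.sub_add_cancel hj]
    rw [mul_add, mul_add, hk 3 le_rfl, hk i (by omega), mul_one, Nat.sub_self, pow_zero] at e3
    have e4 : Y ^ i + Y ^ (3 - i) = 0 := by
      have h5 : (Y ^ 3 + Y ^ i + 1) + (1 + Y ^ (3 - i) + Y ^ 3) = 0 := by rw [e, e3, add_zero]
      calc Y ^ i + Y ^ (3 - i) = (Y ^ 3 + Y ^ i + 1) + (1 + Y ^ (3 - i) + Y ^ 3)
            - (Y ^ 3 + Y ^ 3) - (1 + 1) := by abel
        _ = 0 := by rw [h5, h2, h2]; simp
    have e5 : Y * (1 + Y) = 0 := by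
      rcases hi with rfl | rfl
      · rw [mul_add, mul_one]; simpa [pow_two] using e4
      · rw [mul_add, mul_one, add_comm]; simpa [pow_two] using e4
    have e6 := (mul_eq_zero.1 e5).resolve_left hY0
    calc Y = (1 + Y) + 1 - (1 + 1) := by abel
      _ = 1 := by rw [e6, h2]; simp
  have hprod : (Y - 1) * ((Y ^ 3 + Y ^ 1 + 1) * (Y ^ 3 + Y ^ 2 + 1)) = 0 := by
    have : (Y - 1) * ((Y ^ 3 + Y ^ 1 + 1) * (Y ^ 3 + Y ^ 2 + 1)) =
        (Y ^ 7 - 1) + ((Y ^ 4 + Y ^ 4) - (Y ^ 3 + Y ^ 3)) := by noncomm_ring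
    rw [this, hY7, h2, h2, sub_self, sub_self, add_zero]
  rcases mul_eq_zero.1 hprod with e | e
  · exact hY1 (sub_eq_zero.1 e)
  · rcases mul_eq_zero.1 e with e | e
    · exact hne 1 (Or.inl rfl) e
    · exact hne 2 (Or.inr rfl) e

end Irred

end CfsgLib.RealClassDisc
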