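import Cfsg.Agent.Lib.RealClassDisc.Basic

/-!
# Factorisations by a cyclic centraliser

`R` has prime order, its centraliser `C` is cyclic of odd order, is a Hall subgroup and is transitive
on the Sylow 2-subgroups, every odd prime inverted in the group divides `|C|`, and `R` normalises no
2-subgroup. If the group has even order then `R` is normal.
-/

set_option autoImplicit false

namespace CfsgLib.RealClassDisc

open Subgroup
open scoped Pointwise

universe u

/-- The hypotheses. -/
structure Fac {H : Type u} [Group H] (R : Subgroup H) (r : ℕ) : Prop where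
  prime : r.Prime
  card : Nat.card R = r
  cyc : IsCyclic (centralizer (R : Set H))
  oddC : Odd (Nat.card (centralizer (R : Set H)))
  hall : (Nat.card (centralizer (R : Set H))).Coprime (centralizer (R : Set H)).index
  trans : ∀ (S : Sylow 2 H) (g : H), ∃ c ∈ centralizer (R : Set H), g • S = c • S
  real : ∀ (w : H) (q : ℕ), q.Prime → q ≠ 2 → orderOf w = q → Rl w →
    q ∣ Nat.card (centralizer (R : Set H))
  twoFree : ∀ Q : Subgroup H, IsPGroup 2 Q → R ≤ normalizer (Q : Set H) → Q = ⊥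

theorem cyc_comm {C : Type*} [Group C] [IsCyclic C] (a b : C) : a * b = b * a := by
  letI := IsCyclic.commGroup (α := C)
  exact mul_comm a b

theorem eq_of_card_cyclic {C : Type*} [Group C] [Finite C] [IsCyclic C] {X Y : Subgroup C}
    (h : Nat.card X = Nat.card Y) : X = Y := by
  classical
  haveI : Fintype C := Fintype.ofFinite C
  set m := Nat.card Y
  set U : Finset C := Finset.univ.filter fun x => x ^ m = 1
  have hU : U.card ≤ m := IsCyclic.card_pow_eq_one_le Nat.card_pos
  have key : ∀ L : Subgroup C, Nat.card L = m → (Finset.univ.filter fun x => x ∈ L) = U := by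
    intro L hL
    refine Finset.eq_of_subset_of_card_le (fun x hx => ?_) ?_
    · rw [Finset.mem_filter] at hx
      exact Finset.mem_filter.2 ⟨Finset.mem_univ x,
        orderOf_dvd_iff_pow_eq_one.1 (hL ▸ Subgroup.orderOf_dvd_natCard L hx.2)⟩
    · refine hU.trans (le_of_eq ?_)
      rw [← hL, Nat.card_eq_fintype_card, Fintype.card_subtype]
  ext x
  have h1 := Finset.ext_iff.1 ((key X h).trans (key Y rfl).symm) x
  simpa using h1

/-- A conjugate subgroup. -/
def cj {H : Type u} [Group H] (g : H) (X : Subgroup H) : Subgroup H :=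
  X.map (MulAut.conj g).toMonoidHom

theorem mem_cj {H : Type u} [Group H] {g : H} {X : Subgroup H} {x : H} :
    x ∈ cj g X ↔ g⁻¹ * x * g ∈ X := by
  constructor
  · rintro ⟨y, hy, rfl⟩
    simpa [mul_assoc] using hy
  · intro hx
    exact ⟨_, hx, by simp [mul_assoc]⟩

theorem card_cj {H : Type u} [Group H] (g : H) (X : Subgroup H) :
    Nat.card (cj g X) = Nat.card X :=
  card_map_of_injective (MulAut.conj g).injective

theorem mem_centralizer_cj {H : Type u} [Group H] {g : H} {X : Subgroup H} {c : H} :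
    c ∈ centralizer (cj g X : Set H) ↔ g⁻¹ * c * g ∈ centralizer (X : Set H) := by
  simp only [mem_centralizer_iff, SetLike.mem_coe]
  constructor
  · intro h x hx
    have := h (g * x * g⁻¹) ⟨x, hx, rfl⟩
    calc x * (g⁻¹ * c * g) = g⁻¹ * (g * x * g⁻¹ * c) * g := by group
      _ = g⁻¹ * c * g * x := by rw [this]; group
  · rintro h _ ⟨x, hx, rfl⟩
    show g * x * g⁻¹ * c = c * (g * x * g⁻¹)
    calc g * x * g⁻¹ * c = g * (x * (g⁻¹ * c * g)) * g⁻¹ := by group
      _ = c * (g * x * g⁻¹) := by rw [h x hx]; group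

theorem centralizer_cj {H : Type u} [Group H] (g : H) (X : Subgroup H) :
    centralizer (cj g X : Set H) = cj g (centralizer (X : Set H)) := by
  ext c; rw [mem_centralizer_cj, mem_cj]

/-- A `q`-element is conjugate into a subgroup of index prime to `q`. -/
theorem exists_conj_mem {H : Type u} [Group H] [Finite H] {C : Subgroup H} {q : ℕ} [Fact q.Prime]
    (hq : ¬ q ∣ C.index) {X : Subgroup H} (hX : IsPGroup q X) : ∃ g : H, X ≤ cj g C := by
  obtain ⟨P₀⟩ := (inferInstance : Nonempty (Sylow q ↥C))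
  let P : Sylow q H := (P₀.2.map C.subtype).toSylow (by
    rw [index_map_subtype]
    exact fun h => ((Nat.Prime.dvd_mul Fact.out).1 h).elim P₀.not_dvd_index hq)
  obtain ⟨T, hT⟩ := hX.exists_le_sylow
  obtain ⟨g, hg⟩ := MulAction.exists_smul_eq H P T
  refine ⟨g, fun x hx => mem_cj.2 ?_⟩
  have h1 : x ∈ (T : Subgroup H) := hT hx
  rw [← hg, Sylow.coe_subgroup_smul, mem_pointwise_smul_iff_inv_smul_mem] at h1
  simp only [MulAut.smul_def, MulAut.inv_def, MulAut.conj_symm_apply] at h1
  have hle : (P : Subgroup H) ≤ C := map_subtype_le _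
  exact hle h1

/-- An involution normalising a subgroup of odd order fixes one of its Sylow subgroups. -/
theorem exists_sylow_invariant {H : Type u} [Group H] [Finite H] {Y : Subgroup H}
    (hY : Odd (Nat.card Y)) {t : H} (htt : t * t = 1) (htY : ∀ y ∈ Y, t * y * t⁻¹ ∈ Y) (r : ℕ)
    [Fact r.Prime] : ∃ P : Sylow r ↥Y, ∀ y ∈ (P : Subgroup ↥Y).map Y.subtype,
      t * y * t⁻¹ ∈ (P : Subgroup ↥Y).map Y.subtype := by
  have hti : t⁻¹ = t := inv_eq_of_mul_eq_one_right htt
  let e : ↥Y →* ↥Y :=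
    { toFun := fun y => ⟨t * y * t⁻¹, htY y y.2⟩
      map_one' := Subtype.ext (by simp)
      map_mul' := fun a b => Subtype.ext (by simp [mul_assoc]) }
  have hee : ∀ y, e (e y) = y := fun y => Subtype.ext (by
    show t * (t * y * t⁻¹) * t⁻¹ = (y : H)
    calc t * (t * y * t⁻¹) * t⁻¹ = (t * t) * y * (t * t)⁻¹ := by group
      _ = y := by rw [htt, one_mul, inv_one, mul_one])
  have hsurj : Function.Surjective e := fun y => ⟨e y, hee y⟩
  let π : Sylow r ↥Y → Sylow r ↥Y := fun P => P.mapSurjective hsurj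
  have hππ : ∀ P, π (π P) = P := fun P => Sylow.ext (by
    show ((P : Subgroup ↥Y).map e).map e = _
    rw [map_map, show e.comp e = MonoidHom.id _ from MonoidHom.ext hee, map_id])
  have hodd : Odd (Nat.card (Sylow r ↥Y)) := by
    obtain ⟨P⟩ := (inferInstance : Nonempty (Sylow r ↥Y))
    exact hY.of_dvd_nat ((Sylow.card_dvd_index P).trans (index_dvd_card _))
  obtain ⟨P, hP⟩ : ∃ P, π P = P := by
    by_contra hcon
    push Not at hcon
    classical
    have := Fintype.ofFinite (Sylow r ↥Y)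
    have h0 : (∑ _P : Sylow r ↥Y, (1 : ZMod 2)) = 0 :=
      Finset.sum_involution (fun P _ => π P) (fun _ _ => by decide) (fun P _ _ => hcon P)
        (fun P _ => Finset.mem_univ _) (fun P _ => hππ P)
    rw [Finset.sum_const, nsmul_eq_mul, mul_one, Finset.card_univ, ← Nat.card_eq_fintype_card,
      ZMod.natCast_eq_zero_iff_even] at h0
    exact Nat.not_even_iff_odd.2 hodd h0
  refine ⟨P, ?_⟩
  rintro _ ⟨y, hy, rfl⟩
  exact ⟨e y, hP ▸ ⟨y, hy, rfl⟩, rfl⟩

namespace Fac

variable {H : Type u} [Group H] [Finite H] {R : Subgroup H} {r : ℕ}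

omit [Finite H] in
theorem le_cent (F : Fac R r) : R ≤ centralizer (R : Set H) := by
  haveI : Fact r.Prime := ⟨F.prime⟩
  haveI := isCyclic_of_prime_card F.card
  exact fun x hx => mem_centralizer_iff.2 fun y hy =>
    congrArg Subtype.val (cyc_comm (⟨y, hy⟩ : R) ⟨x, hx⟩)

omit [Finite H] in
theorem cent_comm (F : Fac R r) {a b : H} (ha : a ∈ centralizer (R : Set H))
    (hb : b ∈ centralizer (R : Set H)) : a * b = b * a := by
  haveI := F.cyc
  exact congrArg Subtype.val (cyc_comm (⟨a, ha⟩ : centralizer (R : Set H)) ⟨b, hb⟩)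

theorem eq_of_le_cent (F : Fac R r) {X : Subgroup H} (hX : X ≤ centralizer (R : Set H))
    (hc : Nat.card X = r) : X = R := by
  haveI := F.cyc
  have h : X.subgroupOf (centralizer (R : Set H)) = R.subgroupOf (centralizer (R : Set H)) :=
    eq_of_card_cyclic (by
      rw [Nat.card_congr (subgroupOfEquivOfLe hX).toEquiv,
        Nat.card_congr (subgroupOfEquivOfLe F.le_cent).toEquiv, hc, F.card])
  rw [← map_subgroupOf_eq_of_le hX, h, map_subgroupOf_eq_of_le F.le_cent]

theorem not_dvd_index (F : Fac R r) {q : ℕ} (hq : q.Prime)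
    (hd : q ∣ Nat.card (centralizer (R : Set H))) : ¬ q ∣ (centralizer (R : Set H)).index :=
  fun h => hq.ne_one (Nat.eq_one_of_dvd_coprimes F.hall hd h)

/-- All subgroups of order `r` are conjugate. -/
theorem exists_eq_cj (F : Fac R r) {X : Subgroup H} (hc : Nat.card X = r) :
    ∃ g : H, X = cj g R := by
  haveI : Fact r.Prime := ⟨F.prime⟩
  obtain ⟨g, hg⟩ := exists_conj_mem (F.not_dvd_index F.prime (F.card ▸ card_dvd_of_le F.le_cent))
    (IsPGroup.of_card (n := 1) (by rw [hc, pow_one]) : IsPGroup r X)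
  refine ⟨g, ?_⟩
  have h1 : cj g⁻¹ X = R := F.eq_of_le_cent (fun x hx => by
    have := mem_cj.1 hx
    rw [inv_inv] at this
    have h2 := mem_cj.1 (hg this)
    simpa [mul_assoc] using h2) (by rw [card_cj, hc])
  rw [← h1]
  ext x
  simp only [mem_cj, inv_inv]
  simp [mul_assoc]

theorem conj (F : Fac R r) (g : H) : Fac (cj g R) r := by
  have hC : centralizer (cj g R : Set H) = cj g (centralizer (R : Set H)) := centralizer_cj g R
  have hcardC : Nat.card (centralizer (cj g R : Set H)) = Nat.card (centralizer (R : Set H)) := by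
    rw [hC, card_cj]
  refine ⟨F.prime, by rw [card_cj, F.card], ?_, hcardC ▸ F.oddC, ?_, ?_, ?_, ?_⟩
  · rw [hC]
    haveI := F.cyc
    exact isCyclic_of_surjective _
      ((centralizer (R : Set H)).equivMapOfInjective _ (MulAut.conj g).injective).surjective
  · have h1 : (centralizer (cj g R : Set H)).index = (centralizer (R : Set H)).index := by
      have e1 := card_mul_index (centralizer (cj g R : Set H))
      rw [hcardC, ← card_mul_index (centralizer (R : Set H))] at e1
      exact Nat.eq_of_mul_eq_mul_left Nat.card_pos e1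
    rw [hcardC, h1]; exact F.hall
  · intro S k
    obtain ⟨c, hc, hcS⟩ := F.trans (g⁻¹ • S) (g⁻¹ * k * g)
    refine ⟨g * c * g⁻¹, mem_centralizer_cj.2 (by simpa [mul_assoc] using hc), ?_⟩
    calc k • S = g • ((g⁻¹ * k * g) • (g⁻¹ • S)) := by
          rw [smul_smul, smul_smul, show g * (g⁻¹ * k * g) * g⁻¹ = k by group]
      _ = g • (c • (g⁻¹ • S)) := by rw [hcS]
      _ = (g * c * g⁻¹) • S := by rw [smul_smul, smul_smul, mul_assoc]
  · intro w q hq hq2 hw hr
    rw [hcardC]; exact F.real w q hq hq2 hw hr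
  · intro Q hQ hn
    have hQ' : cj g⁻¹ Q = ⊥ := F.twoFree _ (hQ.map _) (fun x hx => by
      have h1 := hn ((mem_cj (x := g * x * g⁻¹)).2 (by simpa [mul_assoc] using hx))
      rw [mem_normalizer_iff] at h1 ⊢
      intro y
      have := h1 (g * y * g⁻¹)
      simp only [mem_cj, inv_inv]
      rw [this]
      group)
    exact (map_eq_bot_iff_of_injective _ (MulAut.conj g⁻¹).injective).1 hQ'

theorem inherit (F : Fac R r) {Y : Subgroup H} (hY : centralizer (R : Set H) ≤ Y) :
    Fac (R.subgroupOf Y) r := by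
  have hRY : R ≤ Y := F.le_cent.trans hY
  have hC : centralizer (R.subgroupOf Y : Set ↥Y) = (centralizer (R : Set H)).subgroupOf Y := by
    ext y
    rw [mem_subgroupOf, mem_centralizer_iff, mem_centralizer_iff]
    exact ⟨fun h x hx => congrArg Subtype.val (h ⟨x, hRY hx⟩ hx),
      fun h x hx => Subtype.ext (h x hx)⟩
  have hcardC : Nat.card (centralizer (R.subgroupOf Y : Set ↥Y)) =
      Nat.card (centralizer (R : Set H)) := by
    rw [hC]; exact Nat.card_congr (subgroupOfEquivOfLe hY).toEquiv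
  refine ⟨F.prime, by rw [Nat.card_congr (subgroupOfEquivOfLe hRY).toEquiv, F.card], ?_,
    hcardC ▸ F.oddC, ?_, ?_, ?_, ?_⟩
  · rw [hC]
    haveI := F.cyc
    exact isCyclic_of_surjective _ (subgroupOfEquivOfLe hY).symm.surjective
  · rw [hcardC]
    refine F.hall.of_dvd_right ?_
    rw [hC]
    exact ⟨Y.index, (relIndex_mul_index hY).symm⟩
  · intro P g
    obtain ⟨S, hS⟩ := (P.2.map Y.subtype).exists_le_sylow
    have hPS : (P : Subgroup ↥Y) = (S : Subgroup H).subgroupOf Y :=
      (P.3 (S.2.comap_subtype (K := Y)) (fun x hx => hS ⟨x, hx, rfl⟩)).symm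
    obtain ⟨c, hc, hcS⟩ := F.trans S g
    refine ⟨⟨c, hY hc⟩, hC ▸ hc, ?_⟩
    refine Sylow.ext (SetLike.ext fun x => ?_)
    have h1 := congrArg (fun T : Sylow 2 H => (x : H) ∈ (T : Subgroup H)) hcS
    simp only [Sylow.coe_subgroup_smul, mem_pointwise_smul_iff_inv_smul_mem, MulAut.smul_def,
      MulAut.inv_def, MulAut.conj_symm_apply] at h1 ⊢
    rw [hPS, mem_subgroupOf, mem_subgroupOf]
    exact Iff.of_eq h1
  · intro w q hq hq2 hw hr
    rw [hcardC]
    exact F.real w q hq hq2 (by rw [orderOf_coe, hw]) (hr.map Y.subtype)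
  · intro Q hQ hn
    refine (map_eq_bot_iff_of_injective _ Y.subtype_injective).1
      (F.twoFree _ (hQ.map Y.subtype) fun x hx => ?_)
    exact le_normalizer_map Y.subtype ⟨⟨x, hRY hx⟩, hn hx, rfl⟩

/-- An involution normalising `R` inverts it. -/
theorem inverts (F : Fac R r) {t : H} (htt : t * t = 1) (ht1 : t ≠ 1)
    (hn : ∀ x ∈ R, t * x * t⁻¹ ∈ R) : ∀ x ∈ R, t * x * t⁻¹ = x⁻¹ := by
  haveI : Fact r.Prime := ⟨F.prime⟩
  intro x hx
  by_contra hne
  have h2 : ∀ y, t * (t * y * t⁻¹) * t⁻¹ = y := fun y => by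
    calc t * (t * y * t⁻¹) * t⁻¹ = (t * t) * y * (t * t)⁻¹ := by group
      _ = y := by rw [htt, one_mul, inv_one, mul_one]
  set z := x * (t * x * t⁻¹) with hz
  have hzR : z ∈ R := R.mul_mem hx (hn x hx)
  have hz1 : z ≠ 1 := fun e => hne (inv_eq_of_mul_eq_one_right e).symm
  have hfix : t * z * t⁻¹ = z := by
    have hcomm : (t * x * t⁻¹) * x = x * (t * x * t⁻¹) := F.cent_comm (F.le_cent (hn x hx)) (F.le_cent hx)
    calc t * z * t⁻¹ = (t * x * t⁻¹) * (t * (t * x * t⁻¹) * t⁻¹) := by rw [hz]; group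
      _ = z := by rw [h2, hcomm, hz]
  have htC : t ∈ centralizer (R : Set H) := by
    rw [mem_centralizer_iff]
    intro y hy
    obtain ⟨k, hk⟩ := mem_zpowers_iff.1 (mem_zpowers_of_prime_card (g := (⟨z, hzR⟩ : R))
      (g' := ⟨y, hy⟩) F.card (fun e => hz1 (congrArg Subtype.val e)))
    have hk' : z ^ k = y := congrArg Subtype.val hk
    have h1 : Commute t z := by
      show t * z = z * t
      nth_rw 2 [← hfix]
      rw [inv_mul_cancel_right]
    rw [← hk']
    exact ((h1.zpow_right k).symm).eq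
  exact ht1 (eq_one_of_mul_self_odd htt (F.oddC.of_dvd_nat
    (by rw [← orderOf_mk t htC]; exact orderOf_dvd_natCard _)))

/-- Elements of order prime to 2 inverted by an involution are centralised by a conjugate of `C`. -/
theorem exists_cj_le_centralizer (F : Fac R r) {y t : H} {q : ℕ} (hq : q.Prime) (hq2 : q ≠ 2)
    (hy : orderOf y = q) (hinv : t * y * t⁻¹ = y⁻¹) :
    ∃ g : H, y ∈ centralizer (cj g R : Set H) ∧
      centralizer (cj g R : Set H) ≤ centralizer ({y} : Set H) := by
  haveI : Fact q.Prime := ⟨hq⟩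
  obtain ⟨g, hg⟩ := exists_conj_mem
    (F.not_dvd_index hq (F.real y q hq hq2 hy (rl_iff.2 ⟨t, hinv⟩)))
    (IsPGroup.of_card (n := 1) (by rw [Nat.card_zpowers, hy, pow_one]) : IsPGroup q (zpowers y))
  have hy' : y ∈ centralizer (cj g R : Set H) := by
    rw [centralizer_cj]; exact hg (mem_zpowers y)
  exact ⟨g, hy', fun c hc => mem_cz.2 ((F.conj g).cent_comm hc hy')⟩

theorem center_ne (y t : H) {q : ℕ} (hq : q.Prime) (hq2 : q ≠ 2) (hy : orderOf y = q)
    (hinv : t * y * t⁻¹ = y⁻¹) : centralizer ({y} : Set H) ≠ ⊤ := by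
  intro h
  have hc : Commute t y := mem_cz.1 (h ▸ mem_top t)
  rw [hc.eq, mul_inv_cancel_right] at hinv
  have h1 : y * y = 1 := by nth_rw 1 [hinv]; exact inv_mul_cancel y
  have h2 := eq_one_of_mul_self_odd h1 (hy ▸ hq.odd_of_ne_two hq2)
  rw [h2, orderOf_one] at hy
  exact hq.one_lt.ne hy

end Fac

/-- The induction hypothesis for proper subgroups. -/
def ProperCase (H : Type u) [Group H] : Prop :=
  ∀ (Y : Subgroup H), Y ≠ ⊤ → Even (Nat.card Y) → ∀ (R : Subgroup ↥Y) (r : ℕ), Fac R r → R.Normal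

namespace Fac

variable {H : Type u} [Group H] [Finite H] {R : Subgroup H} {r : ℕ}

/-- An involution normalising a proper subgroup over `C` normalises a conjugate of `R` there. -/
theorem exists_fixed (F : Fac R r) (ih : ProperCase H) {Y : Subgroup H}
    (hY : centralizer (R : Set H) ≤ Y) (hne : Y ≠ ⊤) {t : H} (htt : t * t = 1)
    (htY : ∀ y ∈ Y, t * y * t⁻¹ ∈ Y) :
    ∃ g : H, g ∈ Y ∧ ∀ x ∈ cj g R, t * x * t⁻¹ ∈ cj g R := by
  haveI : Fact r.Prime := ⟨F.prime⟩
  have hRY : R ≤ Y := F.le_cent.trans hY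
  rcases Nat.even_or_odd (Nat.card Y) with he | ho
  · refine ⟨1, Y.one_mem, fun x hx => ?_⟩
    have hn := ih Y hne he _ r (F.inherit hY)
    have h1 : cj 1 R = R := by ext z; simp [mem_cj]
    rw [h1] at hx ⊢
    have hcard : Nat.card ((cj t R).subgroupOf Y) = r := by
      rw [Nat.card_congr (subgroupOfEquivOfLe ?_).toEquiv, card_cj, F.card]
      rintro _ ⟨z, hz, rfl⟩
      exact htY z (hRY hz)
    obtain ⟨k, hk⟩ := (F.inherit hY).exists_eq_cj hcard
    have hk2 : cj k (R.subgroupOf Y) = R.subgroupOf Y := by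
      ext z
      rw [mem_cj]
      exact ⟨fun h => by simpa [mul_assoc] using hn.conj_mem _ h k,
        fun h => by simpa [mul_assoc] using hn.conj_mem _ h k⁻¹⟩
    rw [hk2] at hk
    have hx' : t * x * t⁻¹ ∈ cj t R := ⟨x, hx, rfl⟩
    have hmem : (⟨t * x * t⁻¹, htY x (hRY hx)⟩ : ↥Y) ∈ (cj t R).subgroupOf Y := hx'
    rw [hk] at hmem
    exact hmem
  · obtain ⟨P, hP⟩ := exists_sylow_invariant ho htt htY r
    have hrY : r ∣ Nat.card (P : Subgroup ↥Y) := P.dvd_card_of_dvd_card
      (F.card ▸ card_dvd_of_le hRY)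
    obtain ⟨x, hx⟩ := exists_prime_orderOf_dvd_card' r hrY
    set X : Subgroup ↥Y := zpowers (x : ↥Y) with hX
    have hXc : Nat.card X = r := by rw [hX, Nat.card_zpowers, orderOf_coe, hx]
    obtain ⟨k, hk⟩ := (F.inherit hY).exists_eq_cj hXc
    refine ⟨k, k.2, ?_⟩
    set P' := (P : Subgroup ↥Y).map Y.subtype with hP'
    haveI hPc : IsCyclic P' := by
      obtain ⟨g, hg⟩ := exists_conj_mem (F.not_dvd_index F.prime (F.card ▸ card_dvd_of_le F.le_cent))
        (P.2.map Y.subtype)
      haveI : IsCyclic (centralizer (cj g R : Set H)) := (F.conj g).cyc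
      rw [← centralizer_cj] at hg
      exact isCyclic_of_injective _ (inclusion_injective hg)
    have hle : cj (k : H) R ≤ P' := by
      intro z hz
      have h1 : (k : H)⁻¹ * z * k ∈ R := mem_cj.1 hz
      have hzY : z ∈ Y := by
        have := Y.mul_mem (Y.mul_mem k.2 (hRY h1)) (Y.inv_mem k.2)
        simpa [mul_assoc] using this
      have h2 : (⟨z, hzY⟩ : ↥Y) ∈ X := by rw [hk, mem_cj]; exact h1
      refine ⟨⟨z, hzY⟩, ?_, rfl⟩
      rw [hX] at h2
      exact (zpowers_le.2 x.2) h2
    intro z hz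
    have hle2 : cj t (cj (k : H) R) ≤ P' := by
      rintro _ ⟨w, hw, rfl⟩
      exact hP w (hle hw)
    have heq : (cj t (cj (k : H) R)).subgroupOf P' = (cj (k : H) R).subgroupOf P' :=
      eq_of_card_cyclic (by
        rw [Nat.card_congr (subgroupOfEquivOfLe hle2).toEquiv,
          Nat.card_congr (subgroupOfEquivOfLe hle).toEquiv, card_cj])
    have h3 : (⟨t * z * t⁻¹, hP z (hle hz)⟩ : P') ∈ (cj t (cj (k : H) R)).subgroupOf P' :=
      ⟨z, hz, rfl⟩
    rw [heq] at h3
    exact h3

/-- Two commuting involutions cannot act differently on an element of odd prime order. -/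
theorem false_of_split (F : Fac R r) (ih : ProperCase H) {x t y : H} {q : ℕ} (hq : q.Prime)
    (hq2 : q ≠ 2) (hy : orderOf y = q) (hxx : x * x = 1) (hx1 : x ≠ 1) (htt : t * t = 1)
    (ht1 : t ≠ 1) (hxy : Commute x y) (hty : t * y * t⁻¹ = y⁻¹) : False := by
  obtain ⟨g, hyC, hle⟩ := F.exists_cj_le_centralizer hq hq2 hy hty
  set Y := centralizer ({y} : Set H) with hY
  have hne : Y ≠ ⊤ := center_ne y t hq hq2 hy hty
  have htY : ∀ z ∈ Y, t * z * t⁻¹ ∈ Y := fun z hz => mem_cz.2 (by
    have h1 : Commute z y⁻¹ := (mem_cz.1 hz).inv_right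
    show t * z * t⁻¹ * y = y * (t * z * t⁻¹)
    have h2 : t * y⁻¹ * t⁻¹ = y := by rw [show t * y⁻¹ * t⁻¹ = (t * y * t⁻¹)⁻¹ by group, hty, inv_inv]
    calc t * z * t⁻¹ * y = t * z * t⁻¹ * (t * y⁻¹ * t⁻¹) := by rw [h2]
      _ = t * (z * y⁻¹) * t⁻¹ := by group
      _ = (t * y⁻¹ * t⁻¹) * (t * z * t⁻¹) := by rw [h1.eq]; group
      _ = y * (t * z * t⁻¹) := by rw [h2])
  have hxY : x ∈ Y := mem_cz.2 hxy
  have heven : Even (Nat.card Y) := by
    rw [even_iff_two_dvd, ← orderOf_eq_prime (p := 2) (by rw [pow_two, hxx]) hx1,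
      ← orderOf_mk x hxY]
    exact orderOf_dvd_natCard _
  obtain ⟨k, hk, htk⟩ := (F.conj g).exists_fixed ih hle hne htt htY
  have hn := ih Y hne heven _ r ((F.conj g).inherit hle)
  have hRY : cj g R ≤ Y := (F.conj g).le_cent.trans hle
  have hnorm : ∀ z ∈ Y, ∀ w ∈ cj g R, z * w * z⁻¹ ∈ cj g R := fun z hz w hw =>
    hn.conj_mem ⟨w, hRY hw⟩ hw ⟨z, hz⟩
  have hkR : cj k (cj g R) = cj g R := by
    ext w
    rw [mem_cj]
    exact ⟨fun h => by simpa [mul_assoc] using hnorm k hk _ h,
      fun h => by simpa [mul_assoc] using hnorm k⁻¹ (Y.inv_mem hk) w h⟩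
  rw [hkR] at htk
  have hit := (F.conj g).inverts htt ht1 htk
  have hix := (F.conj g).inverts hxx hx1 (hnorm x hxY)
  have hxt : x * t ∈ centralizer (cj g R : Set H) := by
    rw [mem_centralizer_iff]
    intro w hw
    have h1 : (x * t) * w * (x * t)⁻¹ = w := by
      calc x * t * w * (x * t)⁻¹ = x * (t * w * t⁻¹) * x⁻¹ := by group
        _ = w := by rw [hit w hw, hix _ (inv_mem hw), inv_inv]
    exact (mul_inv_eq_iff_eq_mul.1 h1).symm
  have hc := (F.conj g).cent_comm hxt hyC
  have h2 : x * t * y * (x * t)⁻¹ = y⁻¹ := by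
    calc x * t * y * (x * t)⁻¹ = x * (t * y * t⁻¹) * x⁻¹ := by group
      _ = y⁻¹ := by rw [hty, hxy.inv_right.eq, mul_inv_cancel_right]
  rw [hc, mul_inv_cancel_right] at h2
  have h3 := eq_one_of_mul_self_odd (g := y) (by nth_rw 1 [h2]; exact inv_mul_cancel y)
    (hy ▸ hq.odd_of_ne_two hq2)
  rw [h3, orderOf_one] at hy
  exact hq.one_lt.ne hy

/-- The inductive step. -/
theorem normal_step (F : Fac R r) (heven : Even (Nat.card H)) (ih : ProperCase H) : R.Normal := by
  classical
  haveI : Fact r.Prime := ⟨F.prime⟩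
  haveI : Fact (Nat.Prime 2) := ⟨Nat.prime_two⟩
  have hoddc : ∀ {c : H}, c ∈ centralizer (R : Set H) → Odd (orderOf c) := fun {c} hc =>
    F.oddC.of_dvd_nat (by rw [← orderOf_mk c hc]; exact orderOf_dvd_natCard _)
  have hbs : ∀ t : H, t * t = 1 → t ≠ 1 → ∃ (y : H) (q : ℕ), q.Prime ∧ q ≠ 2 ∧ orderOf y = q ∧
      t * y * t⁻¹ = y⁻¹ := by
    intro t htt ht1
    obtain ⟨a, ha1, hao, hainv⟩ := Invol.exists_odd_inverted_of_notMem_normal_two
      (orderOf_eq_prime (p := 2) (by rw [pow_two, htt]) ht1) (fun N hN hNp htN => by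
        have := F.twoFree N hNp (by rw [normalizer_eq_top_iff.2 hN]; exact le_top)
        rw [this, mem_bot] at htN; exact ht1 htN)
    obtain ⟨q, hq, hqd⟩ := Nat.exists_prime_and_dvd (orderOf_eq_one_iff.not.2 ha1)
    exact ⟨_, q, hq, fun e => Nat.not_even_iff_odd.2 hao (even_iff_two_dvd.2 (e ▸ hqd)),
      orderOf_pow_orderOf_div (orderOf_pos a).ne' hqd, conj_pow_of_inv hainv _⟩
  -- every involution inverts a conjugate of `R`
  have hinvc : ∀ t : H, t * t = 1 → t ≠ 1 → ∃ g : H, ∀ x ∈ cj g R, t * x * t⁻¹ = x⁻¹ := by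
    intro t htt ht1
    obtain ⟨y, q, hq, hq2, hy, hty⟩ := hbs t htt ht1
    obtain ⟨g, -, hle⟩ := F.exists_cj_le_centralizer hq hq2 hy hty
    obtain ⟨k, -, hk⟩ := (F.conj g).exists_fixed ih hle (center_ne y t hq hq2 hy hty) htt
      (fun z hz => mem_cz.2 (by
        have h1 : Commute z y⁻¹ := (mem_cz.1 hz).inv_right
        have h2 : t * y⁻¹ * t⁻¹ = y := by
          rw [show t * y⁻¹ * t⁻¹ = (t * y * t⁻¹)⁻¹ by group, hty, inv_inv]
        show t * z * t⁻¹ * y = y * (t * z * t⁻¹)
        calc t * z * t⁻¹ * y = t * z * t⁻¹ * (t * y⁻¹ * t⁻¹) := by rw [h2]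
          _ = t * (z * y⁻¹) * t⁻¹ := by group
          _ = (t * y⁻¹ * t⁻¹) * (t * z * t⁻¹) := by rw [h1.eq]; group
          _ = y * (t * z * t⁻¹) := by rw [h2]))
    have hkg : cj k (cj g R) = cj (k * g) R := by
      ext z; simp only [mem_cj]; simp [mul_assoc]
    exact ⟨k * g, (F.conj (k * g)).inverts htt ht1 (hkg ▸ hk)⟩
  obtain ⟨t₀, ht₀⟩ := exists_prime_orderOf_dvd_card' 2 (even_iff_two_dvd.1 heven)
  obtain ⟨s, hss, hs1, hsR⟩ : ∃ s : H, s * s = 1 ∧ s ≠ 1 ∧ ∀ x ∈ R, s * x * s⁻¹ = x⁻¹ := by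
    have htt : t₀ * t₀ = 1 := by rw [← pow_two, ← ht₀, pow_orderOf_eq_one]
    have ht1 : t₀ ≠ 1 := fun e => by rw [e, orderOf_one] at ht₀; norm_num at ht₀
    obtain ⟨g, hg⟩ := hinvc t₀ htt ht1
    refine ⟨g⁻¹ * t₀ * g, ?_, fun e => ht1 ?_, fun x hx => ?_⟩
    · calc g⁻¹ * t₀ * g * (g⁻¹ * t₀ * g) = g⁻¹ * (t₀ * t₀) * g := by group
        _ = 1 := by rw [htt]; group
    · calc t₀ = g * (g⁻¹ * t₀ * g) * g⁻¹ := by group
        _ = 1 := by rw [e]; group
    · have := hg (g * x * g⁻¹) ⟨x, hx, rfl⟩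
      calc g⁻¹ * t₀ * g * x * (g⁻¹ * t₀ * g)⁻¹ = g⁻¹ * (t₀ * (g * x * g⁻¹) * t₀⁻¹) * g := by group
        _ = x⁻¹ := by rw [this]; group
  have hsi : s⁻¹ = s := inv_eq_of_mul_eq_one_right hss
  set I : Set H := {x | x * x = 1 ∧ x ≠ 1} with hI
  -- the involutions inverting `R` are conjugate to `s`
  have hconj : ∀ x ∈ I, IsConj s x := by
    rintro x ⟨hxx, hx1⟩
    obtain ⟨g, hg⟩ := hinvc x hxx hx1
    set x' := g⁻¹ * x * g with hx'
    have hx'' : ∀ y ∈ R, x' * y * x'⁻¹ = y⁻¹ := fun y hy => by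
      have := hg (g * y * g⁻¹) ⟨y, hy, rfl⟩
      calc x' * y * x'⁻¹ = g⁻¹ * (x * (g * y * g⁻¹) * x⁻¹) * g := by rw [hx']; group
        _ = y⁻¹ := by rw [this]; group
    have hx'2 : x' * x' = 1 := by
      calc g⁻¹ * x * g * (g⁻¹ * x * g) = g⁻¹ * (x * x) * g := by group
        _ = 1 := by rw [hxx]; group
    have hc : s * x' ∈ centralizer (R : Set H) := by
      rw [mem_centralizer_iff]
      intro y hy
      refine (mul_inv_eq_iff_eq_mul.1 ?_).symm
      calc s * x' * y * (s * x')⁻¹ = s * (x' * y * x'⁻¹) * s⁻¹ := by group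
        _ = y := by rw [hx'' y hy, hsR _ (inv_mem hy), inv_inv]
    obtain ⟨m, hm⟩ := hoddc hc
    refine isConj_iff.2 ⟨g * (s * x') ^ m, ?_⟩
    have hsc : s * (s * x') ^ m * s⁻¹ = ((s * x') ^ m)⁻¹ := by
      refine conj_pow_of_inv ?_ m
      rw [mul_inv_rev, hsi, inv_eq_of_mul_eq_one_right hx'2, ← mul_assoc, hss, one_mul]
    have hpow : (s * x') ^ m * (s * x') ^ m * (s * x') = 1 := by
      rw [← pow_add, ← pow_succ, show m + m + 1 = 2 * m + 1 by ring, ← hm, pow_orderOf_eq_one]
    set a := (s * x') ^ m with ha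
    have e1 : a * s * a⁻¹ = x' := by
      have h8 : a * a = x' * s := by
        rw [eq_inv_of_mul_eq_one_left hpow, mul_inv_rev, hsi, inv_eq_of_mul_eq_one_right hx'2]
      calc a * s * a⁻¹ = a * (s * a * s⁻¹)⁻¹ * s := by group
        _ = a * a * s := by rw [hsc, inv_inv]
        _ = x' := by rw [h8, mul_assoc, hss, mul_one]
    calc g * a * s * (g * a)⁻¹ = g * (a * s * a⁻¹) * g⁻¹ := by group
      _ = x := by rw [e1, hx']; group
  have hconjI : ∀ x y, x ∈ I → IsConj x y → y ∈ I := by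
    rintro x y ⟨hxx, hx1⟩ hxy
    obtain ⟨c, rfl⟩ := isConj_iff.1 hxy
    refine ⟨?_, fun e => hx1 ?_⟩
    · calc c * x * c⁻¹ * (c * x * c⁻¹) = c * (x * x) * c⁻¹ := by group
        _ = 1 := by rw [hxx]; group
    · calc x = c⁻¹ * (c * x * c⁻¹) * c := by group
        _ = 1 := by rw [e]; group
  have hsI : s ∈ I := ⟨hss, hs1⟩
  -- `s` is central in every Sylow subgroup containing it
  obtain ⟨S₀, hS₀s, hS₀⟩ : ∃ S₀ : Sylow 2 H, s ∈ (S₀ : Subgroup H) ∧
      ∀ g ∈ (S₀ : Subgroup H), Commute g s := by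
    obtain ⟨S⟩ := (inferInstance : Nonempty (Sylow 2 H))
    haveI : Nontrivial (S : Subgroup H) := by
      rw [← Finite.one_lt_card_iff_nontrivial]
      exact lt_of_lt_of_le one_lt_two (Nat.le_of_dvd Nat.card_pos
        (S.dvd_card_of_dvd_card (even_iff_two_dvd.1 heven)))
    haveI := S.isPGroup'.center_nontrivial
    obtain ⟨k, hk⟩ := (S.isPGroup'.to_subgroup (center (S : Subgroup H))).exists_card_eq
    obtain ⟨z, hz⟩ := exists_prime_orderOf_dvd_card' 2
      (G := center (S : Subgroup H)) (by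
        rw [hk]; refine dvd_pow_self 2 ?_
        rintro rfl
        have := Finite.one_lt_card (α := center (S : Subgroup H))
        omega)
    set z' : H := ((z : (S : Subgroup H)) : H) with hz'
    have hzI : z' ∈ I := by
      have : orderOf z' = 2 := by rw [hz', orderOf_coe, orderOf_coe, hz]
      exact ⟨by rw [← pow_two, ← this, pow_orderOf_eq_one], fun e => by
        rw [e, orderOf_one] at this; norm_num at this⟩
    obtain ⟨g, hg⟩ := isConj_iff.1 (hconj z' hzI).symm
    refine ⟨g • S, ?_, fun a ha => ?_⟩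
    · rw [Sylow.coe_subgroup_smul, mem_pointwise_smul_iff_inv_smul_mem]
      simp only [MulAut.smul_def, MulAut.inv_def, MulAut.conj_symm_apply]
      rw [← hg, show g⁻¹ * (g * z' * g⁻¹) * g = z' by group]
      exact (z : (S : Subgroup H)).2
    · rw [Sylow.coe_subgroup_smul, mem_pointwise_smul_iff_inv_smul_mem] at ha
      simp only [MulAut.smul_def, MulAut.inv_def, MulAut.conj_symm_apply] at ha
      have hc : g⁻¹ * a * g * z' = z' * (g⁻¹ * a * g) :=
        congrArg Subtype.val (mem_center_iff.1 z.2 ⟨_, ha⟩)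
      show a * s = s * a
      rw [← hg]
      calc a * (g * z' * g⁻¹) = g * (g⁻¹ * a * g * z') * g⁻¹ := by group
        _ = g * z' * g⁻¹ * a := by rw [hc]; group
  have hcomS : ∀ c ∈ centralizer (R : Set H), TwoEl (s * (c * s * c⁻¹)) → Commute c s := by
    intro c hc h2
    have h3 : s * (c * s * c⁻¹) ∈ centralizer (R : Set H) := by
      rw [show s * (c * s * c⁻¹) = (s * c * s) * c⁻¹ by group]
      refine mul_mem ?_ (inv_mem hc)
      rw [mem_centralizer_iff] at hc ⊢
      intro y hy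
      have e1 : s * y * s = y⁻¹ := by
        have := hsR y hy; rwa [hsi] at this
      have e2 := hc _ (inv_mem hy)
      calc y * (s * c * s) = s * ((s * y * s) * c) * s := by
            calc y * (s * c * s) = (s * s) * y * (s * c * s) := by rw [hss, one_mul]
              _ = _ := by group
        _ = s * (c * (s * y * s)) * s := by rw [e1, e2]
        _ = s * c * s * y * (s * s) := by group
        _ = s * c * s * y := by rw [hss, mul_one]
    have h4 := eq_one_of_twoEl_odd h2 (hoddc h3)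
    show c * s = s * c
    have h5 : c * s * c⁻¹ = s := by
      rw [← hsi]; exact (inv_eq_of_mul_eq_one_right (by rwa [hsi])).symm
    calc c * s = c * s * c⁻¹ * c := by group
      _ = s * c := by rw [h5]
  have hcentral : ∀ x ∈ I, ∀ S : Sylow 2 H, x ∈ (S : Subgroup H) →
      ∀ g ∈ (S : Subgroup H), Commute g x := by
    intro x hx S hxS g hg
    obtain ⟨d, rfl⟩ := isConj_iff.1 (hconj x hx)
    obtain ⟨e, he⟩ := MulAction.exists_smul_eq H S₀ (d⁻¹ • S)
    obtain ⟨c, hc, hcS⟩ := F.trans S₀ e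
    rw [hcS] at he
    have hmem : ∀ a, a ∈ ((c • S₀ : Sylow 2 H) : Subgroup H) → c⁻¹ * a * c ∈ (S₀ : Subgroup H) := by
      intro a ha
      rw [Sylow.coe_subgroup_smul, mem_pointwise_smul_iff_inv_smul_mem] at ha
      simpa using ha
    have hmem2 : ∀ a, d * a * d⁻¹ ∈ (S : Subgroup H) → a ∈ ((c • S₀ : Sylow 2 H) : Subgroup H) := by
      intro a ha
      rw [he, Sylow.coe_subgroup_smul, mem_pointwise_smul_iff_inv_smul_mem]
      simpa [mul_assoc] using ha
    have hsS := hmem2 s hxS
    have hcs : c * s * c⁻¹ ∈ ((c • S₀ : Sylow 2 H) : Subgroup H) := by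
      rw [Sylow.coe_subgroup_smul, mem_pointwise_smul_iff_inv_smul_mem]
      simpa [mul_assoc] using hS₀s
    have hct : Commute c s :=
      hcomS c hc (twoEl_of_mem_isPGroup (c • S₀).isPGroup' (mul_mem hsS hcs))
    have h6 : Commute (c⁻¹ * (d⁻¹ * g * d) * c) s :=
      hS₀ _ (hmem _ (hmem2 _ (by simpa [mul_assoc] using hg)))
    have h7 : Commute (d⁻¹ * g * d) s := by
      have := (hct.mul_left h6).mul_left hct.inv_left
      simpa [mul_assoc] using this
    show g * (d * s * d⁻¹) = d * s * d⁻¹ * g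
    calc g * (d * s * d⁻¹) = d * (d⁻¹ * g * d * s) * d⁻¹ := by group
      _ = d * s * d⁻¹ * g := by rw [h7.eq]; group
  -- commuting involutions lie in the same Sylow subgroups
  have hsame : ∀ x ∈ I, ∀ y ∈ I, Commute x y → ∀ S : Sylow 2 H,
      x ∈ (S : Subgroup H) → y ∈ (S : Subgroup H) := by
    intro x hx y hy hxy S hxS
    set K := centralizer ({x} : Set H) with hK
    have hSK : (S : Subgroup H) ≤ K := fun g hg => mem_cz.2 (hcentral x hx S hxS g hg)
    have hyK : y ∈ K := mem_cz.2 hxy.symm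
    by_contra hyS
    have hy2 : orderOf (⟨y, hyK⟩ : K) = 2 := by
      rw [orderOf_mk]; exact orderOf_eq_prime (p := 2) (by rw [pow_two, hy.1]) hy.2
    obtain ⟨a, ha1, hao, hainv⟩ := Invol.exists_odd_inverted_of_notMem_normal_two hy2 (by
      intro N hN hNp hyN
      exact hyS ((hNp.le_sylow_of_normal (S.subtype hSK)) hyN))
    obtain ⟨q, hq, hqd⟩ := Nat.exists_prime_and_dvd (orderOf_eq_one_iff.not.2 ha1)
    exact F.false_of_split ih (y := ((a ^ (orderOf a / q) : K) : H)) hq
      (fun e => Nat.not_even_iff_odd.2 hao (even_iff_two_dvd.2 (e ▸ hqd)))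
      (by rw [orderOf_coe]; exact orderOf_pow_orderOf_div (orderOf_pos a).ne' hqd)
      hx.1 hx.2 hy.1 hy.2 (mem_cz.1 (a ^ (orderOf a / q) : K).2).symm
      (congrArg Subtype.val (conj_pow_of_inv hainv (orderOf a / q)))
  have hSmem : ∀ x ∈ I, ∃ S : Sylow 2 H, x ∈ (S : Subgroup H) := fun x hx => by
    obtain ⟨S, hS⟩ := IsPGroup.exists_le_sylow (p := 2) (P := zpowers x)
      (IsPGroup.of_card (n := 1) (by
        rw [Nat.card_zpowers, pow_one, orderOf_eq_prime (p := 2) (by rw [pow_two, hx.1]) hx.2]))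
    exact ⟨S, hS (mem_zpowers x)⟩
  have htransC : ∀ x ∈ I, ∀ y ∈ I, ∀ z ∈ I, Commute x y → Commute y z → Commute x z := by
    intro x hx y hy z hz hxy hyz
    obtain ⟨S, hS⟩ := hSmem y hy
    exact hcentral z hz S (hsame y hy z hz hyz S hS) x (hsame y hy x hx hxy.symm S hS)
  have hblock : ∀ x ∈ I, ∃ c ∈ centralizer (R : Set H), Commute x (c * s * c⁻¹) := by
    intro x hx
    obtain ⟨S, hS⟩ := hSmem x hx
    obtain ⟨e, he⟩ := MulAction.exists_smul_eq H S₀ S
    obtain ⟨c, hc, hcS⟩ := F.trans S₀ e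
    refine ⟨c, hc, (hcentral x hx S hS _ ?_).symm⟩
    rw [← he, hcS, Sylow.coe_subgroup_smul, mem_pointwise_smul_iff_inv_smul_mem]
    simpa [mul_assoc] using hS₀s
  have hIconj : ∀ g : H, g * s * g⁻¹ ∈ I := fun g => hconjI s _ hsI (isConj_iff.2 ⟨g, rfl⟩)
  let M : Subgroup H :=
    { carrier := {g | Commute s (g * s * g⁻¹)}
      one_mem' := by simp
      mul_mem' := fun {a b} ha hb => by
        show Commute s _
        refine htransC s hsI _ (hIconj a) _ (hIconj (a * b)) ha ?_
        show Commute (a * s * a⁻¹) (a * b * s * (a * b)⁻¹)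
        rw [show a * b * s * (a * b)⁻¹ = a * (b * s * b⁻¹) * a⁻¹ by group]
        exact (hb : Commute s (b * s * b⁻¹)).map (MulAut.conj a).toMonoidHom
      inv_mem' := fun {a} ha => by
        show Commute s _
        have h1 := (ha : Commute s (a * s * a⁻¹)).map (MulAut.conj a⁻¹).toMonoidHom
        simp only [MulEquiv.coe_toMonoidHom, MulAut.conj_apply] at h1
        rw [show a⁻¹ * (a * s * a⁻¹) * a⁻¹⁻¹ = s by group] at h1
        exact h1.symm }
  -- every coset of `M` other than `M` contains at most one involution not commuting with `s`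
  have huniq : ∀ t ∈ I, ∀ t' ∈ I, ¬ Commute s t → ¬ Commute s t' → t' * t ∈ M → t = t' := by
    intro t ht t' ht' hnt hnt' hm
    by_contra hne
    set m := t' * t with hmdef
    have hti : t⁻¹ = t := inv_eq_of_mul_eq_one_right ht.1
    have htm : t * m * t⁻¹ = m⁻¹ := by
      rw [hmdef, mul_inv_rev, inv_eq_of_mul_eq_one_right ht'.1, hti, ← mul_assoc,
        mul_assoc _ t t, ht.1, mul_one]
    obtain ⟨k, o, ho, hko⟩ := Nat.exists_eq_two_pow_mul_odd (orderOf_pos m).ne'
    rcases k with _ | k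
    · rw [pow_zero, one_mul] at hko
      obtain ⟨q, hq, hqd⟩ := Nat.exists_prime_and_dvd (orderOf_eq_one_iff.not.2
        (fun e : m = 1 => hne (by
          rw [hmdef, mul_eq_one_iff_eq_inv, hti] at e
          exact e.symm)))
      have hq2 : q ≠ 2 := fun e => Nat.not_even_iff_odd.2 (hko ▸ ho) (even_iff_two_dvd.2 (e ▸ hqd))
      set z := m ^ (orderOf m / q) with hz
      have hzo : orderOf z = q := orderOf_pow_orderOf_div (orderOf_pos m).ne' hqd
      have hzM : z ∈ M := M.pow_mem hm _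
      have hzinv : t * z * t⁻¹ = z⁻¹ := conj_pow_of_inv htm _
      -- `C` contains a Sylow subgroup of `M`
      haveI : Fact q.Prime := ⟨hq⟩
      have hqC := F.real z q hq hq2 hzo (rl_iff.2 ⟨t, hzinv⟩)
      have hq1 : ¬ q ∣ ((centralizer (R : Set H) ⊓ M).subgroupOf M).index := by
        intro hd
        refine F.not_dvd_index hq hqC (hd.trans ?_)
        -- `|M : C ∩ M| = |H : C|`
        have hcov : ∀ g : H, ∃ c ∈ centralizer (R : Set H), c⁻¹ * g ∈ M := by
          intro g
          obtain ⟨c, hc, hcom⟩ := hblock _ (hIconj g)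
          refine ⟨c, hc, ?_⟩
          show Commute s _
          have h1 := hcom.symm.map (MulAut.conj c⁻¹).toMonoidHom
          simp only [MulEquiv.coe_toMonoidHom, MulAut.conj_apply] at h1
          rw [show c⁻¹ * (c * s * c⁻¹) * c⁻¹⁻¹ = s by group] at h1
          rwa [show c⁻¹ * g * s * (c⁻¹ * g)⁻¹ = c⁻¹ * (g * s * g⁻¹) * c⁻¹⁻¹ by group]
        rw [inf_subgroupOf_right]
        refine dvd_of_eq ?_
        refine le_antisymm ?_ ?_
        · rw [← relIndex_top_right (centralizer (R : Set H))]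
          exact relIndex_le_of_le_right le_top (by rw [relIndex_top_right]; exact index_ne_zero_of_finite)
        · refine Nat.card_le_card_of_surjective
            (fun x : ↥M ⧸ (centralizer (R : Set H)).subgroupOf M => Quotient.liftOn' x
              (fun g => (QuotientGroup.mk (g : H) : H ⧸ centralizer (R : Set H)))
              (fun a b h => QuotientGroup.eq.2
                (mem_subgroupOf.1 (QuotientGroup.leftRel_apply.1 h)))) ?_
          intro x
          induction x using QuotientGroup.induction_on with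
          | H g =>
            obtain ⟨c, hc, hcg⟩ := hcov g⁻¹
            refine ⟨QuotientGroup.mk ⟨(c⁻¹ * g⁻¹)⁻¹, M.inv_mem hcg⟩, ?_⟩
            refine QuotientGroup.eq.2 ?_
            show ((c⁻¹ * g⁻¹)⁻¹)⁻¹ * g ∈ _
            rw [inv_inv, inv_mul_cancel_right]
            exact inv_mem hc
      obtain ⟨g, hg⟩ := exists_conj_mem hq1
        (IsPGroup.of_card (n := 1) (by rw [Nat.card_zpowers, orderOf_mk, hzo, pow_one]) :
          IsPGroup q (zpowers (⟨z, hzM⟩ : M)))
      have hmem := mem_cj.1 (hg (mem_zpowers _))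
      rw [mem_subgroupOf] at hmem
      have hc₁ : (g : H)⁻¹ * z * g ∈ centralizer (R : Set H) := hmem.1
      have hc₂ : Commute ((g : H)⁻¹ * z * g) s := by
        refine hcomS _ hc₁ ?_
        have hcs : Commute s (((g : H)⁻¹ * z * g) * s * ((g : H)⁻¹ * z * g)⁻¹) := hmem.2
        refine twoEl_of_mul_self ?_
        rw [hcs.symm.mul_mul_mul_comm, hss, (hIconj _).1, mul_one]
      have hzx : Commute ((g : H) * s * (g : H)⁻¹) z := by
        have := hc₂.symm.map (MulAut.conj (g : H)).toMonoidHom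
        simpa [mul_assoc] using this
      have hxI := hIconj (g : H)
      exact F.false_of_split ih hq hq2 hzo hxI.1 hxI.2 ht.1 ht.2 hzx hzinv
    · -- `m` has even order: an involution of `M` commutes with `t`
      set n := 2 ^ k * o with hn
      have hm2 : orderOf m = n * 2 := by rw [hko, hn, pow_succ]; ring
      set m₀ := m ^ n with hm₀
      have hm₀m : m₀ * m₀ = 1 := by rw [hm₀, ← pow_add, ← mul_two, ← hm2, pow_orderOf_eq_one]
      have hm₀1 : m₀ ≠ 1 := fun e => by
        have h1 := orderOf_dvd_of_pow_eq_one e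
        rw [hm2] at h1
        have h2 : 0 < n := by
          rw [hn]; exact Nat.mul_pos (Nat.two_pow_pos k) ho.pos
        have := Nat.le_of_dvd h2 h1
        omega
      have hm₀M : m₀ ∈ M := M.pow_mem hm _
      have hS₀M : (S₀ : Subgroup H) ≤ M := fun g hg => by
        show Commute s _
        rw [(hS₀ g hg).eq, mul_inv_cancel_right]
      obtain ⟨T, hT⟩ := IsPGroup.exists_le_sylow (p := 2) (P := zpowers (⟨m₀, hm₀M⟩ : M))
        (IsPGroup.of_card (n := 1) (by
          rw [Nat.card_zpowers, orderOf_mk, pow_one,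
            orderOf_eq_prime (p := 2) (by rw [pow_two, hm₀m]) hm₀1]))
      obtain ⟨g, hg⟩ := MulAction.exists_smul_eq M (S₀.subtype hS₀M) T
      have h1 : (⟨m₀, hm₀M⟩ : M) ∈ ((T : Sylow 2 M) : Subgroup M) := hT (mem_zpowers _)
      rw [← hg, Sylow.coe_subgroup_smul, mem_pointwise_smul_iff_inv_smul_mem] at h1
      simp only [MulAut.smul_def, MulAut.inv_def, MulAut.conj_symm_apply] at h1
      have h2 : Commute ((g : H)⁻¹ * m₀ * g) s := hS₀ _ h1
      have h3 : Commute m₀ ((g : H) * s * (g : H)⁻¹) := by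
        have := h2.map (MulAut.conj (g : H)).toMonoidHom
        simpa [mul_assoc] using this
      have hsm : Commute s m₀ :=
        htransC s hsI _ (hIconj g) m₀ ⟨hm₀m, hm₀1⟩ g.2 h3.symm
      have htm₀ : Commute t m₀ := by
        have h4 := conj_pow_of_inv htm n
        rw [← hm₀, inv_eq_of_mul_eq_one_right hm₀m, mul_inv_eq_iff_eq_mul] at h4
        exact h4
      exact hnt (htransC s hsI m₀ ⟨hm₀m, hm₀1⟩ t ht hsm htm₀.symm)
  -- hence `s` commutes with no other involution
  have hs_only : ∀ x ∈ I, Commute s x → x = s := by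
    by_contra hcon
    push Not at hcon
    obtain ⟨x, hxI, hxs, hxne⟩ := hcon
    -- a conjugate of `s` which does not commute with `s`
    obtain ⟨ρ₀, hρ₀⟩ := exists_prime_orderOf_dvd_card' (G := R) r (dvd_of_eq F.card.symm)
    have hρ : orderOf (ρ₀ : H) = r := by rw [orderOf_coe, hρ₀]
    have hρC := F.le_cent ρ₀.2
    have hρnc : ¬ Commute s ((ρ₀ : H) * s * (ρ₀ : H)⁻¹) := by
      intro hc
      have h1 : Commute (ρ₀ : H) s := hcomS _ hρC (twoEl_of_mul_self (by
        rw [hc.symm.mul_mul_mul_comm, hss, (hIconj _).1, mul_one]))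
      have h2 := hsR _ ρ₀.2
      rw [← h1.eq, mul_inv_cancel_right] at h2
      have h3 := eq_one_of_mul_self_odd (g := (ρ₀ : H))
        (by nth_rw 1 [h2]; exact inv_mul_cancel _) (hoddc hρC)
      rw [h3, orderOf_one] at hρ
      exact F.prime.one_lt.ne hρ
    set s' := (ρ₀ : H) * s * (ρ₀ : H)⁻¹ with hs'
    have hs'I : s' ∈ I := hIconj _
    have hx'I : (ρ₀ : H) * x * (ρ₀ : H)⁻¹ ∈ I := hconjI x _ hxI (isConj_iff.2 ⟨_, rfl⟩)
    set x' := (ρ₀ : H) * x * (ρ₀ : H)⁻¹ with hx'
    have hx's' : Commute x' s' := by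
      have := hxs.symm.map (MulAut.conj (ρ₀ : H)).toMonoidHom
      simpa [hx', hs', mul_assoc] using this
    have hne' : x' ≠ s' := fun e => hxne (mul_left_cancel (mul_right_cancel e))
    -- count the involutions not commuting with `s` against the cosets of `M`
    let J := {t : H // t ∈ I ∧ ¬ Commute s t}
    let f : J → H ⧸ M := fun t => QuotientGroup.mk t.1
    have hf : Function.Injective f := by
      rintro ⟨t, ht, hnt⟩ ⟨t', ht', hnt'⟩ h
      refine Subtype.ext (huniq t' ht' t ht hnt' hnt ?_).symm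
      have := QuotientGroup.eq.1 h
      rwa [inv_eq_of_mul_eq_one_right ht.1] at this
    -- the involutions form `|H : M|` classes of commuting ones, of equal size at least two
    let K := {c : H ⧸ M // c ≠ QuotientGroup.mk 1}
    have hJK : ∀ t : J, f t ≠ QuotientGroup.mk 1 := by
      rintro ⟨t, ht, hnt⟩ e
      have h1 : t⁻¹ * 1 ∈ M := QuotientGroup.eq.1 e
      rw [mul_one, inv_eq_of_mul_eq_one_right ht.1] at h1
      -- an involution of `M` commutes with `s`
      have hS₀M : (S₀ : Subgroup H) ≤ M := fun g hg => by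
        show Commute s _
        rw [(hS₀ g hg).eq, mul_inv_cancel_right]
      obtain ⟨T, hT⟩ := IsPGroup.exists_le_sylow (p := 2) (P := zpowers (⟨t, h1⟩ : M))
        (IsPGroup.of_card (n := 1) (by
          rw [Nat.card_zpowers, orderOf_mk, pow_one,
            orderOf_eq_prime (p := 2) (by rw [pow_two, ht.1]) ht.2]))
      obtain ⟨g, hg⟩ := MulAction.exists_smul_eq M (S₀.subtype hS₀M) T
      have h2 : (⟨t, h1⟩ : M) ∈ ((T : Sylow 2 M) : Subgroup M) := hT (mem_zpowers _)
      rw [← hg, Sylow.coe_subgroup_smul, mem_pointwise_smul_iff_inv_smul_mem] at h2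
      simp only [MulAut.smul_def, MulAut.inv_def, MulAut.conj_symm_apply] at h2
      have h3 : Commute t ((g : H) * s * (g : H)⁻¹) := by
        have := (hS₀ _ h2).map (MulAut.conj (g : H)).toMonoidHom
        simpa [mul_assoc] using this
      exact hnt (htransC s hsI _ (hIconj g) t ht g.2 h3.symm)
    -- two involutions for every coset
    have hK : ∀ c : K, ∃ g : H, QuotientGroup.mk g = c.1 ∧ ¬ Commute s (g * s * g⁻¹) := by
      rintro ⟨c, hc⟩
      obtain ⟨g, rfl⟩ := QuotientGroup.mk_surjective c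
      exact ⟨g, rfl, fun h => hc (QuotientGroup.eq.2 (by simpa using M.inv_mem h))⟩
    choose gK hgK hgK' using hK
    let Φ : K × Bool → J := fun p =>
      ⟨gK p.1 * (if p.2 then x else s) * (gK p.1)⁻¹,
        ⟨hconjI _ _ (by split_ifs <;> assumption) (isConj_iff.2 ⟨_, rfl⟩), fun hc => hgK' p.1 (by
          rcases Bool.eq_false_or_eq_true p.2 with hb | hb
          · simp only [hb, if_true] at hc
            refine htransC s hsI _ (hconjI x _ hxI (isConj_iff.2 ⟨_, rfl⟩)) _ (hIconj _) hc ?_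
            have := hxs.symm.map (MulAut.conj (gK p.1)).toMonoidHom
            simpa [mul_assoc] using this
          · simpa [hb] using hc)⟩⟩
    have hΦ : Function.Injective Φ := by
      rintro ⟨c, b⟩ ⟨c', b'⟩ h
      have h1 : gK c * (if b then x else s) * (gK c)⁻¹ = gK c' * (if b' then x else s) * (gK c')⁻¹ :=
        congrArg Subtype.val h
      have hcomm : ∀ (d : K) (e : Bool), Commute (gK d * s * (gK d)⁻¹)
          (gK d * (if e then x else s) * (gK d)⁻¹) := fun d e => by
        have : Commute s (if e then x else s) := by split_ifs <;> [exact hxs; exact Commute.refl s]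
        simpa [mul_assoc] using this.map (MulAut.conj (gK d)).toMonoidHom
      have hmemI : ∀ (d : K) (e : Bool), gK d * (if e then x else s) * (gK d)⁻¹ ∈ I := fun d e =>
        hconjI _ _ (by split_ifs <;> assumption) (isConj_iff.2 ⟨_, rfl⟩)
      have h2 : Commute (gK c * s * (gK c)⁻¹) (gK c' * s * (gK c')⁻¹) :=
        htransC _ (hIconj _) _ (hmemI c b) _ (hIconj _) (hcomm c b) (h1 ▸ (hcomm c' b').symm)
      have h3 : (gK c)⁻¹ * gK c' ∈ M := by
        show Commute s _
        have h4 := h2.map (MulAut.conj (gK c)⁻¹).toMonoidHom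
        simpa [mul_assoc] using h4
      have hcc : c = c' := Subtype.ext (by rw [← hgK c, ← hgK c']; exact QuotientGroup.eq.2 h3)
      subst hcc
      have h5 := mul_left_cancel (mul_right_cancel h1)
      rcases b with _ | _ <;> rcases b' with _ | _ <;> simp at h5 ⊢
      · exact hxne h5.symm
      · exact hxne h5
    have hle1 : Nat.card J ≤ Nat.card K :=
      Nat.card_le_card_of_injective (fun t => (⟨f t, hJK t⟩ : K))
        fun a b h => hf (congrArg Subtype.val h)
    have hle2 := Nat.card_le_card_of_injective Φ hΦ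
    have hpos : 0 < Nat.card K := by
      haveI : Nonempty K := ⟨⟨QuotientGroup.mk (ρ₀ : H), fun e => hρnc (by
        have h1 := QuotientGroup.eq.1 e
        rw [mul_one] at h1
        have h := M.inv_mem h1
        rw [inv_inv] at h
        exact h)⟩⟩
      exact Nat.card_pos
    rw [Nat.card_prod, Nat.card_eq_fintype_card (α := Bool), Fintype.card_bool] at hle2
    omega
  -- so all involutions are `c s c⁻¹` with `c ∈ C`
  have hall : ∀ x ∈ I, ∃ c ∈ centralizer (R : Set H), x = c * s * c⁻¹ := by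
    intro x hx
    obtain ⟨c, hc, hcom⟩ := hblock x hx
    refine ⟨c, hc, ?_⟩
    have h1 : Commute s (c⁻¹ * x * c) := by
      have := hcom.symm.map (MulAut.conj c⁻¹).toMonoidHom
      simpa [mul_assoc] using this
    have h2 := hs_only _ (hconjI x _ hx (isConj_iff.2 ⟨c⁻¹, by group⟩)) h1
    rw [← h2]; group
  set Z := closure {z : H | ∃ x ∈ I, z = s * x} with hZ
  have hZC : Z ≤ centralizer (R : Set H) := by
    rw [hZ, closure_le]
    rintro _ ⟨x, hx, rfl⟩
    obtain ⟨c, hc, rfl⟩ := hall x hx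
    show s * (c * s * c⁻¹) ∈ centralizer (R : Set H)
    rw [show s * (c * s * c⁻¹) = (s * c * s) * c⁻¹ by group]
    refine mul_mem ?_ (inv_mem hc)
    rw [mem_centralizer_iff] at hc ⊢
    intro y hy
    have e1 : s * y * s = y⁻¹ := by have := hsR y hy; rwa [hsi] at this
    calc y * (s * c * s) = (s * s) * y * (s * c * s) := by rw [hss, one_mul]
      _ = s * ((s * y * s) * c) * s := by group
      _ = s * (c * (s * y * s)) * s := by rw [e1, hc _ (inv_mem hy)]
      _ = s * c * s * y * (s * s) := by group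
      _ = s * c * s * y := by rw [hss, mul_one]
  have hZn : Z.Normal := by
    refine ⟨fun z hz g => ?_⟩
    induction hz using closure_induction with
    | mem w hw =>
      obtain ⟨x, hx, rfl⟩ := hw
      have e : g * (s * x) * g⁻¹ = (s * (g * s * g⁻¹))⁻¹ * (s * (g * x * g⁻¹)) := by
        have h1 : (g * s * g⁻¹)⁻¹ = g * s * g⁻¹ := inv_eq_of_mul_eq_one_right (hIconj g).1
        rw [mul_inv_rev, h1, hsi]
        calc g * (s * x) * g⁻¹ = (g * s * g⁻¹) * (g * x * g⁻¹) := by group
          _ = _ := by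
            rw [mul_assoc (g * s * g⁻¹) s, ← mul_assoc s s, hss, one_mul]
      rw [e]
      exact Z.mul_mem (Z.inv_mem (subset_closure ⟨_, hIconj g, rfl⟩))
        (subset_closure ⟨_, hconjI x _ hx (isConj_iff.2 ⟨g, rfl⟩), rfl⟩)
    | one => rw [mul_one, mul_inv_cancel]; exact one_mem _
    | mul a b _ _ ha hb =>
      rw [show g * (a * b) * g⁻¹ = (g * a * g⁻¹) * (g * b * g⁻¹) by group]
      exact mul_mem ha hb
    | inv a _ ha =>
      rw [show g * a⁻¹ * g⁻¹ = (g * a * g⁻¹)⁻¹ by group]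
      exact inv_mem ha
  have hRZ : R ≤ Z := by
    intro x hx
    obtain ⟨m, hm⟩ := hoddc (F.le_cent hx)
    -- `x = (x ^ (m + 1)) ^ 2`
    set y := x ^ (m + 1) with hy
    have hyR : y ∈ R := R.pow_mem hx _
    have h1 : x = s * (y⁻¹ * s * (y⁻¹)⁻¹) := by
      have h2 := hsR _ (inv_mem hyR)
      rw [inv_inv] at h2 ⊢
      calc x = x ^ (2 * m + 1) * x := by rw [← hm, pow_orderOf_eq_one, one_mul]
        _ = y * y := by rw [hy, ← pow_succ, ← pow_add]; congr 1; ring
        _ = (s * y⁻¹ * s⁻¹) * y := by rw [h2]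
        _ = s * (y⁻¹ * s * y) := by rw [hsi]; group
    rw [h1]
    exact subset_closure ⟨_, hIconj _, rfl⟩
  refine ⟨fun x hx g => ?_⟩
  have hle : cj g R ≤ centralizer (R : Set H) := by
    rintro _ ⟨y, hy, rfl⟩
    exact hZC (hZn.conj_mem y (hRZ hy) g)
  rw [← F.eq_of_le_cent hle (by rw [card_cj, F.card])]
  exact ⟨x, hx, rfl⟩

end Fac

/-- With these hypotheses `R` is normal. -/
theorem fac_normal : ∀ (n : ℕ) {H : Type u} [Group H] [Finite H], Nat.card H = n →
    ∀ {R : Subgroup H} {r : ℕ}, Fac R r → Even (Nat.card H) → R.Normal := by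
  intro n
  induction n using Nat.strong_induction_on with
  | _ n ih =>
    intro H _ _ hn R r F he
    refine F.normal_step he fun Y hY heY R' r' F' => ih _ ?_ rfl F' heY
    rw [← hn]
    exact lt_of_le_of_ne (Subgroup.card_le_card_group Y) fun e => hY (Subgroup.eq_top_of_card_eq Y e)

end CfsgLib.RealClassDisc
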