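import Cfsg.Agent.Lib.RealClassDisc.GeoTools
import Cfsg.Agent.Lib.RealClassDisc.Normal

/-!
# Sixty-three Sylow subgroups on a section of order 64

This configuration is impossible: an element of order 21 acts irreducibly, so elements of order
seven are not inverted, and an involution centralises both an element of order seven and, as a
consequence, an element of order three with odd centraliser.
-/

set_option autoImplicit false

namespace CfsgLib.RealClassDisc

open Subgroup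
open scoped Pointwise

theorem dim_mem {d : ℕ} (hd : d ≤ 6) (h7 : 7 ∣ 2 ^ d - 1) (h3 : 3 ∣ 2 ^ (6 - d) - 1) :
    d = 0 ∨ d = 6 := by
  interval_cases d <;> omega

theorem dim_mem' {d : ℕ} (hd : d ≤ 6) (h3 : 3 ∣ 2 ^ d - 1) (h7 : 7 ∣ 2 ^ (6 - d) - 1) :
    d = 0 ∨ d = 6 := by
  interval_cases d <;> omega

theorem dim_mem'' {d : ℕ} (hd : d ≤ 6) (h3 : 3 ∣ 2 ^ d - 1) (h7 : 7 ∣ 2 ^ d - 1) :
    d = 0 ∨ d = 6 := by
  interval_cases d <;> omega

theorem prime_of_dvd_63 {p : ℕ} (hp : p.Prime) (h : p ∣ 63) : p = 3 ∨ p = 7 := by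
  rw [show (63 : ℕ) = 3 ^ 2 * 7 by norm_num] at h
  rcases (Nat.Prime.dvd_mul hp).1 h with h | h
  · exact Or.inl ((Nat.prime_dvd_prime_iff_eq hp Nat.prime_three).1 (hp.dvd_of_dvd_pow h))
  · exact Or.inr ((Nat.prime_dvd_prime_iff_eq hp (by norm_num)).1 h)

/-- The identity behind averaging over the four lines of a plane. -/
theorem nine_identity {T : Type*} [CommGroup T] (hexp : ∀ x : T, x * x = 1)
    (a b c d e f g h i : T) :
    a = (a * e * i) * ((a * b * c) * (a * d * g) *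
      ((a * d * g) * (b * e * h) * (c * f * i))) * (a * h * f) := by
  have h2 : ∀ x y : T, x * (x * y) = y := fun x y => by rw [← mul_assoc, hexp, one_mul]
  simp only [mul_assoc, mul_comm, mul_left_comm, hexp, h2, mul_one, one_mul]

namespace Geo

variable {H T : Type*} [Group H] [CommGroup T] [Finite H] [Finite T]
variable {ρ : H →* MulAut T} {F : Subgroup T} (P : Geo ρ F)

include P

/-- The fixed space of an element of prime order, with the exponent of its complement. -/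
theorem fix_exp {f : ℕ} (hf : Nat.card F = 2 ^ f) (hT : Nat.card T = 2 ^ (6 + f)) {g : H} {r : ℕ}
    (hr : r.Prime) (hr2 : r ≠ 2) (hg : orderOf g = r) :
    ∃ d, d ≤ 6 ∧ Nat.card (fixOf ρ g) = 2 ^ (d + f) ∧ (d = 0 → fixOf ρ g = F) ∧
      (d = 6 → fixOf ρ g = ⊤) ∧ r ∣ 2 ^ (6 - d) - 1 := by
  obtain ⟨d, hd, hd2, hd0, hd6⟩ := P.exists_exp hf hT (P.le_fixOf g)
  obtain ⟨d', m, hd', hm, hdvd⟩ := P.exists_fixed_exp hr hr2 hg (W := ⊤) (fun x _ => mem_top _)
  rw [top_inf_eq] at hd'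
  rw [card_top, hT] at hm
  have h1 := Nat.pow_right_injective le_rfl hm
  have h2 : d + f = d' := Nat.pow_right_injective le_rfl (hd2.symm.trans hd')
  exact ⟨d, hd, hd2, hd0, hd6, by rwa [show 6 - d = m by omega]⟩

theorem real_prime_cases {f : ℕ} (hf : Nat.card F = 2 ^ f) (hT : Nat.card T = 2 ^ (6 + f)) {w : H}
    {p : ℕ} (hp : p.Prime) (hp2 : p ≠ 2) (hw : orderOf w = p) (hr : Rl w) : p = 3 ∨ p = 7 :=
  prime_of_dvd_63 hp (P.dvd_of_free hp hp2 hw (W := ⊤) (fun x _ => mem_top _) le_top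
    (fun x _ => P.fpf w p hp hp2 hw hr x) hf (by rw [card_top, hT]))

theorem irred21 {f : ℕ} (hf : Nat.card F = 2 ^ f) (hT : Nat.card T = 2 ^ (6 + f)) {z y : H}
    (hz : orderOf z = 3) (hy : orderOf y = 7) (hc : Commute z y) (hr : Rl z ∨ Rl y) :
    Irred ρ F (zpowers (z * y)) := by
  have h7 : Nat.Prime 7 := by norm_num
  have h3 := Nat.prime_three
  obtain ⟨dz, hdz, hdz2, hdz0, hdz6, hdz3⟩ := P.fix_exp hf hT h3 (by norm_num) hz
  obtain ⟨dy, hdy, hdy2, hdy0, hdy6, hdy7⟩ := P.fix_exp hf hT h7 (by norm_num) hy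
  have hfree : (∀ x, ρ z x = x → x ∈ F) ∧ ∀ x, ρ y x = x → x ∈ F := by
    rcases hr with hr | hr
    · have hz' := P.fpf z 3 h3 (by norm_num) hz hr
      refine ⟨hz', fun x hx => ?_⟩
      have h3d : 3 ∣ 2 ^ dy - 1 := P.dvd_of_free h3 (by norm_num) hz
        (P.fixOf_invariant hc) (P.le_fixOf y) (fun u _ => hz' u) hf hdy2
      rcases dim_mem' hdy h3d hdy7 with e | e
      · exact hdy0 e ▸ (show x ∈ fixOf ρ y from hx)
      · rw [P.eq_one_of_fixOf_top (hdy6 e), orderOf_one] at hy; norm_num at hy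
    · have hy' := P.fpf y 7 h7 (by norm_num) hy hr
      refine ⟨fun x hx => ?_, hy'⟩
      have h7d : 7 ∣ 2 ^ dz - 1 := P.dvd_of_free h7 (by norm_num) hy
        (P.fixOf_invariant hc.symm) (P.le_fixOf z) (fun u _ => hy' u) hf hdz2
      rcases dim_mem hdz h7d hdz3 with e | e
      · exact hdz0 e ▸ (show x ∈ fixOf ρ z from hx)
      · rw [P.eq_one_of_fixOf_top (hdz6 e), orderOf_one] at hz; norm_num at hz
  set g := z * y with hg
  have hgo : orderOf g = 21 := by
    rw [hg, hc.orderOf_mul_eq_mul_orderOf_of_coprime (by rw [hz, hy]; norm_num), hz, hy]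
  have hzA : z ∈ zpowers g := by
    refine mem_of_pow_mem h3 hz (k := 7) (by norm_num) ?_
    have : g ^ 7 = z ^ 7 := by rw [hg, hc.mul_pow, ← hy, pow_orderOf_eq_one, mul_one]
    rw [← this]; exact pow_mem (mem_zpowers g) 7
  have hyA : y ∈ zpowers g := by
    refine mem_of_pow_mem h7 hy (k := 3) (by norm_num) ?_
    have : g ^ 3 = y ^ 3 := by rw [hg, hc.mul_pow, ← hz, pow_orderOf_eq_one, one_mul]
    rw [← this]; exact pow_mem (mem_zpowers g) 3
  refine ⟨P.inj, P.exp, P.fixF, P.ne_top, ?_, ?_, ⟨g, mem_zpowers g, fun e => ?_⟩, ?_⟩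
  · intro a ha b hb
    obtain ⟨i, rfl⟩ := mem_zpowers_iff.1 ha
    obtain ⟨j, rfl⟩ := mem_zpowers_iff.1 hb
    exact ((Commute.refl g).zpow_zpow i j).eq
  · intro a ha ha1 x hx
    obtain ⟨i, rfl⟩ := mem_powers_iff_mem_zpowers.2 ha
    by_cases hi3 : 3 ∣ i
    · have hi7 : ¬ 7 ∣ i := fun h => ha1 (orderOf_dvd_iff_pow_eq_one.1 (by
        rw [hgo]; exact Nat.Coprime.mul_dvd_of_dvd_of_dvd (m := 3) (n := 7) (by norm_num) hi3 h))
      have hgy : g ^ i = y ^ i := by
        rw [hg, hc.mul_pow, orderOf_dvd_iff_pow_eq_one.1 (hz.symm ▸ hi3 : orderOf z ∣ i), one_mul]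
      exact hfree.2 x (mem_of_pow_mem (K := stb ρ x) h7 hy hi7 (hgy ▸ hx : y ^ i ∈ stb ρ x))
    · have h21 : (g ^ i) ^ 7 = z ^ (i * 7) := by
        rw [← pow_mul, hg, hc.mul_pow,
          orderOf_dvd_iff_pow_eq_one.1 (hy.symm ▸ dvd_mul_left 7 i : orderOf y ∣ i * 7), mul_one]
      have hmem : z ^ (i * 7) ∈ stb ρ x := h21 ▸ (stb ρ x).pow_mem hx 7
      refine hfree.1 x (mem_of_pow_mem (K := stb ρ x) h3 hz (fun h => ?_) hmem)
      exact ((Nat.Prime.dvd_mul h3).1 h).elim hi3 (by norm_num)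
  · have h1 := orderOf_dvd_of_pow_eq_one (show g ^ 2 = 1 by rw [pow_two, e])
    rw [hgo] at h1
    norm_num at h1
  · intro W hFW hW
    obtain ⟨m, hm, hm2, hm0, hm6⟩ := P.exists_exp hf hT hFW
    rcases dim_mem'' hm
      (P.dvd_of_free h3 (by norm_num) hz (fun x hx => hW z hzA x hx) hFW (fun x _ => hfree.1 x) hf hm2)
      (P.dvd_of_free h7 (by norm_num) hy (fun x hx => hW y hyA x hx) hFW (fun x _ => hfree.2 x) hf hm2)
      with e | e
    · exact Or.inl (hm0 e)
    · exact Or.inr (hm6 e)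

theorem six {f : ℕ} (he : Even (Nat.card H)) (hf : Nat.card F = 2 ^ f)
    (hT : Nat.card T = 2 ^ (6 + f))
    (hU : ∀ S : Sylow 2 H, Nat.card (fixS ρ (S : Subgroup H)) = 2 ^ (1 + f))
    (hN : Nat.card (Sylow 2 H) = 63) : False := by
  haveI : Fact (Nat.Prime 2) := ⟨Nat.prime_two⟩
  haveI : Fact (Nat.Prime 3) := ⟨Nat.prime_three⟩
  have h7 : Nat.Prime 7 := by norm_num
  haveI : Fact (Nat.Prime 7) := ⟨h7⟩
  obtain ⟨S⟩ := (inferInstance : Nonempty (Sylow 2 H))
  obtain ⟨v, hv, -⟩ := P.all S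
  have hdvdC : ∀ (w : H) (p : ℕ), p.Prime → p ≠ 2 → orderOf w = p → Rl w → ∀ r, r.Prime → r ∣ 63 →
      ∃ c : H, orderOf c = r ∧ Commute c w := by
    intro w p hp hp2 hw hr r hr' hr63
    haveI : Fact r.Prime := ⟨hr'⟩
    have hri : r ∣ (stb ρ v).index := (hN ▸ hr63 : r ∣ Nat.card (Sylow 2 H)).trans (P.card_sylow_dvd hv)
    have hrH : r ∣ Nat.card H := hri.trans (index_dvd_card _)
    rw [← (centralizer ({w} : Set H)).card_mul_index] at hrH
    have hrC := ((Nat.Prime.dvd_mul hr').1 hrH).resolve_right fun hd => hr'.ne_one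
      (Nat.eq_one_of_dvd_coprimes (P.cop w p hp hp2 hw hr v hv) hd hri)
    obtain ⟨c, hc⟩ := exists_prime_orderOf_dvd_card' r hrC
    exact ⟨c, by rw [orderOf_coe, hc], mem_cz.1 c.2⟩
  have hreal : ∀ (w : H) (p : ℕ), p.Prime → p ≠ 2 → orderOf w = p → Rl w → p = 3 := by
    intro w p hp hp2 hw hr
    refine (P.real_prime_cases hf hT hp hp2 hw hr).resolve_right fun e => ?_
    subst e
    obtain ⟨z, hz, hzw⟩ := hdvdC w 7 h7 (by norm_num) hw hr 3 Nat.prime_three (by norm_num)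
    obtain ⟨u, hu⟩ := rl_iff.1 hr
    refine (P.irred21 hf hT hz hw hzw (Or.inr hr)).not_conj_inv_seven ?_ hw hu
    rw [mem_centralizer_iff]
    intro a ha
    obtain ⟨i, rfl⟩ := mem_zpowers_iff.1 ha
    exact ((hzw.mul_left (Commute.refl w)).zpow_left i).eq
  have hoddC : ∀ w : H, orderOf w = 3 → Rl w → Odd (Nat.card (centralizer ({w} : Set H))) := by
    intro w hw hr
    rw [Nat.odd_iff, ← Nat.two_dvd_ne_zero]
    intro h2
    set D := centralizer ({w} : Set H) with hD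
    obtain ⟨u, hu⟩ := exists_prime_orderOf_dvd_card' 2 h2
    obtain ⟨y, hy, hyw⟩ := hdvdC w 3 Nat.prime_three (by norm_num) hw hr 7 h7 (by norm_num)
    have hirr := P.irred21 hf hT hw hy hyw.symm (Or.inl hr)
    obtain ⟨a, ha1, hao, hainv⟩ := Invol.exists_odd_inverted_of_notMem_normal_two hu (by
      intro N hN hNp huN
      have hQ := P.fixS_eq_top (K := N.map D.subtype) ((hirr.irr _ (P.le_fixS _) fun c hc => ?_
        ).resolve_left (P.fixS_ne (hNp.map _)))
      · have h4 : (u : H) ∈ N.map D.subtype := ⟨u, huN, rfl⟩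
        rw [hQ, mem_bot] at h4
        rw [show u = 1 from Subtype.ext h4, orderOf_one] at hu
        norm_num at hu
      · have hcD : c ∈ D := by
          obtain ⟨i, rfl⟩ := mem_zpowers_iff.1 hc
          exact mem_cz.2 (((Commute.refl w).mul_left hyw).zpow_left i)
        refine P.fixS_invariant ?_
        rintro _ ⟨n, hn, rfl⟩
        exact ⟨(⟨c, hcD⟩ : D)⁻¹ * n * ⟨c, hcD⟩, by simpa using hN.conj_mem n hn (⟨c, hcD⟩ : D)⁻¹, rfl⟩)
    obtain ⟨p, hp, hpd⟩ := Nat.exists_prime_and_dvd (orderOf_eq_one_iff.not.2 ha1)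
    have hp2 : p ≠ 2 := fun e => Nat.not_even_iff_odd.2 hao (even_iff_two_dvd.2 (e ▸ hpd))
    set z : H := ((a ^ (orderOf a / p) : D) : H) with hz
    have hzo : orderOf z = p := by
      rw [hz, orderOf_coe]; exact orderOf_pow_orderOf_div (orderOf_pos a).ne' hpd
    have hzinv : (u : H) * z * (u : H)⁻¹ = z⁻¹ :=
      congrArg Subtype.val (conj_pow_of_inv hainv (orderOf a / p))
    have hzr : Rl z := rl_iff.2 ⟨_, hzinv⟩
    obtain rfl := hreal z p hp hp2 hzo hzr
    have hzw : Commute z w := mem_cz.1 (a ^ (orderOf a / 3) : D).2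
    have huw : Commute (u : H) w := mem_cz.1 u.2
    have hzfree := P.fpf z 3 hp hp2 hzo hzr
    have hwfree := P.fpf w 3 hp hp2 hw hr
    have hz3 : z ^ 3 = 1 := hzo ▸ pow_orderOf_eq_one z
    have hw3 : w ^ 3 = 1 := hw ▸ pow_orderOf_eq_one w
    set g₁ := z * w with hg₁
    set g₂ := z * w ^ 2 with hg₂
    have hc12 : Commute g₁ g₂ :=
      ((Commute.refl z).mul_right (hzw.pow_right 2)).mul_left
        (hzw.symm.mul_right ((Commute.refl w).pow_right 2))
    have hg₁3 : g₁ ^ 3 = 1 := by rw [hg₁, hzw.mul_pow, hz3, hw3, one_mul]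
    have hg₂3 : g₂ ^ 3 = 1 := by
      rw [hg₂, (hzw.pow_right 2).mul_pow, hz3, ← pow_mul, mul_comm, pow_mul, hw3, one_pow, one_mul]
    have hmeet : ∀ x, ρ g₁ x = x → ρ g₂ x = x → x ∈ F := by
      intro x h1 h2'
      refine hzfree x (mem_of_pow_mem (K := stb ρ x) hp hzo (k := 2) (by norm_num) ?_)
      have e : g₁ * g₂ = z ^ 2 := by
        rw [hg₁, hg₂, hzw.symm.mul_mul_mul_comm, ← pow_two, ← pow_succ', hw3, mul_one]
      rw [← e]
      exact (stb ρ x).mul_mem h1 h2'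
    let D₁ := fixOf ρ g₁
    let D₂ := fixOf ρ g₂
    -- the two fixed spaces span
    have hspan : ∀ a : T, ∃ x ∈ D₁, ∃ y ∈ D₂, x * y = a := by
      intro a
      have hF1 : avg ρ z 3 a ∈ F := hzfree _ (avg_fixed ρ hz3 a)
      have hF2 : avg ρ w 3 a ∈ F := hwfree _ (avg_fixed ρ hw3 a)
      have hF3 : avg ρ z 3 (avg ρ w 3 a) ∈ F := hzfree _ (avg_fixed ρ hz3 _)
      refine ⟨avg ρ g₁ 3 a * (avg ρ z 3 a * avg ρ w 3 a * avg ρ z 3 (avg ρ w 3 a)),
        D₁.mul_mem (avg_fixed ρ hg₁3 a) (P.le_fixOf _ (F.mul_mem (F.mul_mem hF1 hF2) hF3)),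
        avg ρ g₂ 3 a, avg_fixed ρ hg₂3 a, ?_⟩
      have e21 : g₁ ^ 2 = z ^ 2 * w ^ 2 := by rw [hg₁, hzw.mul_pow]
      have e22 : g₂ ^ 2 = z ^ 2 * w := by
        rw [hg₂, (hzw.pow_right 2).mul_pow, ← pow_mul, show 2 * 2 = 3 + 1 by norm_num, pow_add, hw3,
          one_mul, pow_one]
      have expand : ∀ (g : H) (x : T), avg ρ g 3 x = x * ρ g x * ρ (g ^ 2) x := fun g x => by
        simp [avg_apply, Finset.prod_range_succ]
      rw [expand g₁ a, expand g₂ a, expand w a, expand z a, expand z (a * ρ w a * ρ (w ^ 2) a), e21, e22, map_mul (ρ z),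
        map_mul (ρ z), map_mul (ρ (z ^ 2)), map_mul (ρ (z ^ 2)), ← P.act_mul z w,
        ← P.act_mul z (w ^ 2), ← P.act_mul (z ^ 2) w, ← P.act_mul (z ^ 2) (w ^ 2), hg₁, hg₂]
      exact (nine_identity P.exp a (ρ z a) (ρ (z ^ 2) a) (ρ w a) (ρ (z * w) a)
        (ρ (z ^ 2 * w) a) (ρ (w ^ 2) a) (ρ (z * w ^ 2) a) (ρ (z ^ 2 * w ^ 2) a)).symm
    have hker : Nat.card D₁ * Nat.card D₂ = Nat.card T * Nat.card F := by
      let μ : ↥D₁ × ↥D₂ →* T :=
        { toFun := fun p => (p.1 : T) * p.2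
          map_one' := by simp
          map_mul' := fun p q => mul_mul_mul_comm (p.1 : T) q.1 p.2 q.2 }
      have hμ : μ.range = ⊤ := by
        rw [eq_top_iff']
        intro a
        obtain ⟨x, hx, y, hy, hxy⟩ := hspan a
        exact ⟨(⟨x, hx⟩, ⟨y, hy⟩), hxy⟩
      rw [← Nat.card_prod, ← μ.ker.card_mul_index, index_ker, hμ, card_top, mul_comm]
      congr 1
      refine Nat.card_congr
        { toFun := fun p => ⟨p.1.1.1, ?_⟩
          invFun := fun x => ⟨(⟨x.1, P.le_fixOf _ x.2⟩, ⟨x.1, P.le_fixOf _ x.2⟩), P.exp x.1⟩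
          left_inv := fun p => ?_
          right_inv := fun x => rfl }
      · have e : (p.1.2 : T) = p.1.1 := by
          have := inv_eq_of_mul_eq_one_right (show (p.1.1 : T) * p.1.2 = 1 from p.2)
          rw [P.inv_eq] at this
          exact this.symm
        exact hmeet _ p.1.1.2 (e ▸ p.1.2.2 : (p.1.1 : T) ∈ D₂)
      · refine Subtype.ext (Prod.ext rfl (Subtype.ext ?_))
        have := inv_eq_of_mul_eq_one_right (show (p.1.1 : T) * p.1.2 = 1 from p.2)
        rw [P.inv_eq] at this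
        exact this
    have hD12 : Nat.card D₂ = Nat.card D₁ := by
      have hu1 : (u : H) * g₁ * (u : H)⁻¹ = g₂⁻¹ := by
        calc (u : H) * (z * w) * (u : H)⁻¹ = ((u : H) * z * (u : H)⁻¹) * ((u : H) * w * (u : H)⁻¹) := by
              group
          _ = z⁻¹ * w := by rw [hzinv, huw.eq, mul_inv_cancel_right]
          _ = g₂⁻¹ := by
            rw [hg₂, mul_inv_rev, ((hzw.inv_left).eq), inv_eq_of_mul_eq_one_left
              (show w * w ^ 2 = 1 by rw [← pow_succ', hw3])]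
      have hD2' : D₂ = fixOf ρ g₂⁻¹ := by
        ext x
        exact ⟨fun h => (stb ρ x).inv_mem h, fun h => (stb ρ x).inv_mem_iff.1 h⟩
      have hmap : D₂ = D₁.map (ρ (u : H)).toMonoidHom := by
        rw [hD2']
        ext x
        rw [← hu1, mem_fixOf]
        constructor
        · intro hx
          refine ⟨ρ (u : H)⁻¹ x, ?_, ?_⟩
          · show ρ g₁ (ρ (u : H)⁻¹ x) = ρ (u : H)⁻¹ x
            conv_rhs => rw [← hx]
            simp only [← P.act_mul]
            congr 2; group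
          · show ρ (u : H) (ρ (u : H)⁻¹ x) = x
            rw [← P.act_mul, mul_inv_cancel, map_one]; rfl
        · rintro ⟨y, hy', rfl⟩
          show ρ _ (ρ (u : H) y) = ρ (u : H) y
          conv_rhs => rw [← (show ρ g₁ y = y from hy')]
          simp only [← P.act_mul]
          congr 2; group
      rw [hmap]
      exact card_map_of_injective (ρ (u : H)).injective
    obtain ⟨d, hd, hd2, -, -⟩ := P.exists_exp hf hT (P.le_fixOf g₁)
    have h3d : 3 ∣ 2 ^ d - 1 := P.dvd_of_free hp hp2 hzo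
      (P.fixOf_invariant ((Commute.refl z).mul_right hzw)) (P.le_fixOf g₁)
      (fun x _ => hzfree x) hf hd2
    rw [hD12, hd2, hT, hf, ← pow_add, ← pow_add] at hker
    have := Nat.pow_right_injective le_rfl hker
    rw [show d = 3 by omega] at h3d
    norm_num at h3d
  obtain ⟨t, htS, htt, ht1, htc⟩ := two_el_centre S he
  obtain ⟨w, p, hp, hp2, hw, hwinv⟩ := P.exists_inverted htt ht1
  have hwr : Rl w := rl_iff.2 ⟨t, hwinv⟩
  obtain rfl := hreal w p hp hp2 hw hwr
  set D := centralizer ({w} : Set H) with hD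
  have htD : ∀ y ∈ D, t * y * t⁻¹ ∈ D := fun y hy => mem_cz.2 (by
    have h2 := ((mem_cz.1 hy).inv_right).map (MulAut.conj t).toMonoidHom
    simp only [MulEquiv.coe_toMonoidHom, MulAut.conj_apply] at h2
    rw [show t * w⁻¹ * t⁻¹ = (t * w * t⁻¹)⁻¹ by group, hwinv, inv_inv] at h2
    exact h2)
  obtain ⟨Q, hQ⟩ := exists_sylow_invariant (hoddC w hw hwr) htt htD 7
  set Q' := (Q : Subgroup ↥D).map D.subtype with hQ'
  obtain ⟨y, hy, hyw⟩ := hdvdC w 3 hp hp2 hw hwr 7 h7 (by norm_num)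
  have h7D : 7 ∣ Nat.card D := by
    rw [← hy, ← orderOf_mk y (mem_cz.2 hyw)]; exact orderOf_dvd_natCard _
  haveI : Nontrivial (Q : Subgroup ↥D) := by
    rw [← Finite.one_lt_card_iff_nontrivial]
    exact lt_of_lt_of_le h7.one_lt (Nat.le_of_dvd Nat.card_pos (Q.dvd_card_of_dvd_card h7D))
  haveI := Q.isPGroup'.center_nontrivial
  obtain ⟨y₀, hy₀⟩ := exists_prime_orderOf_dvd_card' 7 (G := center (Q : Subgroup ↥D)) (by
    obtain ⟨k, hk⟩ := (Q.isPGroup'.to_subgroup (center (Q : Subgroup ↥D))).exists_card_eq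
    rw [hk]; refine dvd_pow_self 7 ?_
    rintro rfl
    have := Finite.one_lt_card (α := center (Q : Subgroup ↥D))
    rw [pow_zero] at hk
    omega)
  set y' : H := (((y₀ : (Q : Subgroup ↥D)) : ↥D) : H) with hy'def
  have hy' : orderOf y' = 7 := by rw [hy'def, orderOf_coe, orderOf_coe, orderOf_coe, hy₀]
  have hy'w : Commute y' w := mem_cz.1 ((y₀ : (Q : Subgroup ↥D)) : ↥D).2
  have hirr := P.irred21 hf hT hw hy' hy'w.symm (Or.inl hwr)
  have hmemA : ∀ {c : H}, Commute c w → Commute c y' →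
      c ∈ centralizer (zpowers (w * y') : Set H) := fun {c} h1 h2 => by
    rw [mem_centralizer_iff]
    intro a ha
    obtain ⟨i, rfl⟩ := mem_zpowers_iff.1 ha
    exact (((h1.mul_right h2).zpow_right i).symm).eq
  have hQc : Q' ≤ centralizer (zpowers (w * y') : Set H) := by
    rintro _ ⟨a, ha, rfl⟩
    exact hmemA (mem_cz.1 a.2) (congrArg (fun z : (Q : Subgroup ↥D) => ((z : ↥D) : H))
      (mem_center_iff.1 y₀.2 ⟨a, ha⟩))
  haveI : IsCyclic (centralizer (zpowers (w * y') : Set H)) := hirr.isCyclic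
  haveI hQcyc : IsCyclic Q' := isCyclic_of_injective _ (inclusion_injective hQc)
  have hy'Q : y' ∈ Q' := ⟨_, (y₀ : (Q : Subgroup ↥D)).2, rfl⟩
  have hty : Commute t y' := by
    have hmem : t * y' * t⁻¹ ∈ zpowers y' := by
      have hy'' := hQ y' hy'Q
      have heq := eq_of_card_cyclic (X := (zpowers (t * y' * t⁻¹)).subgroupOf Q')
        (Y := (zpowers y').subgroupOf Q') (by
          rw [Nat.card_congr (subgroupOfEquivOfLe (zpowers_le.2 hy'')).toEquiv,
            Nat.card_congr (subgroupOfEquivOfLe (zpowers_le.2 hy'Q)).toEquiv, Nat.card_zpowers,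
            Nat.card_zpowers, ← MulAut.conj_apply, MulEquiv.orderOf_eq])
      have h2 : (⟨_, hy''⟩ : Q') ∈ (zpowers (t * y' * t⁻¹)).subgroupOf Q' := mem_zpowers _
      rw [heq] at h2
      exact h2
    have htt' : t * (t * y' * t⁻¹) * t⁻¹ = y' := by
      calc t * (t * y' * t⁻¹) * t⁻¹ = (t * t) * y' * (t * t)⁻¹ := by group
        _ = y' := by rw [htt, one_mul, inv_one, mul_one]
    exact (conj_eq_or_inv h7 hy' hmem htt').resolve_left fun hinv =>
      hirr.not_conj_inv_seven (hmemA hy'w (Commute.refl y')) hy' hinv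
  -- `y'` moves `S`, so the centraliser of `t` is not 2-closed
  have hyS : y' • S ≠ S := by
    intro e
    have hn := Sylow.smul_eq_iff_mem_normalizer.1 e
    have hy'fix : ∀ x, ρ y' x = x → x ∈ F := fun x hx => by
      refine hirr.semi y' ?_ (fun e' => by rw [e', orderOf_one] at hy'; norm_num at hy') x hx
      refine mem_of_pow_mem h7 hy' (k := 3) (by norm_num) ?_
      have : (w * y') ^ 3 = y' ^ 3 := by
        rw [hy'w.symm.mul_pow, ← hw, pow_orderOf_eq_one, one_mul]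
      rw [← this]
      exact pow_mem (mem_zpowers _) 3
    have h1 := P.dvd_of_free h7 (by norm_num) hy' (W := fixS ρ (S : Subgroup H))
      (P.fixS_invariant fun h hh => by
        simpa using (mem_normalizer_iff.1 (inv_mem hn) h).1 hh)
      (P.le_fixS _) (fun x _ => hy'fix x) hf (hU S)
    norm_num at h1
  set K := centralizer ({t} : Set H) with hK
  have hSK : (S : Subgroup H) ≤ K := fun g hg => mem_cz.2 (htc g hg)
  have hle : ((y' • S : Sylow 2 H) : Subgroup H) ≤ S := by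
    intro g hg
    have h2 := twoEl_of_mem_isPGroup (y' • S).isPGroup' hg
    rw [mem_smul_sylow] at hg
    have hgK : g ∈ K := mem_cz.2 (by
      have := (htc _ hg).map (MulAut.conj y').toMonoidHom
      simpa [mul_assoc, hty.symm.eq] using this)
    refine sylow_mem_of_no_real (G := K) (fun a ha hao => ?_) (S.subtype hSK)
      ((twoEl_coe_iff (g := (⟨g, hgK⟩ : K))).1 h2)
    by_contra ha1
    obtain ⟨p, hp', hpd⟩ := Nat.exists_prime_and_dvd (orderOf_eq_one_iff.not.2 ha1)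
    set b : H := ((a ^ (orderOf a / p) : K) : H) with hb
    have hbo : orderOf b = p := by
      rw [hb, orderOf_coe]; exact orderOf_pow_orderOf_div (orderOf_pos a).ne' hpd
    have hbr : Rl b := (ha.pow _).map K.subtype
    obtain rfl := hreal b p hp'
      (fun e => Nat.not_even_iff_odd.2 hao (even_iff_two_dvd.2 (e ▸ hpd))) hbo hbr
    have htb : t ∈ centralizer ({b} : Set H) := mem_cz.2 (mem_cz.1 (a ^ (orderOf a / 3) : K).2).symm
    exact ht1 (eq_one_of_mul_self_odd htt ((hoddC b hbo hbr).of_dvd_nat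
      (by rw [← orderOf_mk t htb]; exact orderOf_dvd_natCard _)))
  exact hyS (Sylow.ext ((y' • S).3 S.2 hle).symm)

end Geo

end CfsgLib.RealClassDisc
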