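import Cfsg.Agent.Lib.RealClassDisc.GeoTools

/-!
# Three or nine Sylow subgroups with disjoint involutions

Each Sylow subgroup has one involution, every involution inverts every real element of odd prime
order, and those have order three; the odd part of the subgroup generated by 2-elements is then a
3-group modulo what transfer removes.
-/

set_option autoImplicit false

namespace CfsgLib.RealClassDisc

open Subgroup
open scoped Pointwise

/-- A permutation of `p`-power order without fixed points. -/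
theorem dvd_card_of_free {X : Type*} [Finite X] {p n : ℕ} [Fact p.Prime] (σ : Equiv.Perm X)
    (hσ : σ ^ p ^ n = 1) (hfree : ∀ x, σ x ≠ x) : p ∣ Nat.card X := by
  classical
  haveI := Fintype.ofFinite X
  have h := Equiv.Perm.card_compl_support_modEq hσ
  rw [Finset.card_eq_zero.2 (Finset.eq_empty_of_forall_notMem fun x hx =>
    hfree x (Equiv.Perm.notMem_support.1 (Finset.mem_compl.1 hx)))] at h
  rw [Nat.card_eq_fintype_card]
  exact (Nat.modEq_zero_iff_dvd).1 h.symm

/-- A `q`-permutation commuting with a fixed-point-free one of order three on few points. -/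
theorem perm_eq_one_of_comm {X : Type*} [Finite X] {q j : ℕ} [Fact q.Prime] (hq : 3 < q)
    (σ τ : Equiv.Perm X) (hσ : σ ^ 3 = 1) (hfree : ∀ x, σ x ≠ x) (hτ : τ ^ q ^ j = 1)
    (hc : Commute σ τ) (hX : Nat.card X ≤ 9) : ∀ x, τ x = x := by
  classical
  haveI : Fact (Nat.Prime 3) := ⟨Nat.prime_three⟩
  haveI := Fintype.ofFinite X
  have h := Equiv.Perm.card_compl_support_modEq hτ
  have h3 : 3 ∣ Nat.card X := dvd_card_of_free (n := 1) σ (by rwa [pow_one]) hfree
  let F := {x : X // τ x = x}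
  let σ' : Equiv.Perm F := σ.subtypePerm (p := fun x => τ x = x) fun x => by
    have e : ∀ y, τ (σ y) = σ (τ y) := fun y => (Equiv.Perm.congr_fun hc.eq y).symm
    rw [e]
    exact σ.apply_eq_iff_eq
  have h3' : 3 ∣ Nat.card F := dvd_card_of_free (n := 1) σ'
    (by
      have hpow : ∀ (n : ℕ) (x : F), ((σ' ^ n) x).1 = (σ ^ n) x.1 := by
        intro n
        induction n with
        | zero => intro x; simp
        | succ n ih =>
          intro x
          rw [pow_succ', pow_succ', Equiv.Perm.mul_apply, Equiv.Perm.mul_apply, ← ih]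
          rfl
      rw [pow_one]
      ext x
      rw [hpow, hσ]
      rfl)
    fun x e => hfree x.1 (congrArg Subtype.val e)
  have hcF : τ.supportᶜ.card = Nat.card F := by
    rw [← Nat.card_eq_finsetCard]
    exact Nat.card_congr (Equiv.subtypeEquivRight fun x => by simp)
  rw [hcF, ← Nat.card_eq_fintype_card] at h
  have hle : Nat.card F ≤ Nat.card X :=
    Nat.card_le_card_of_injective (fun x : F => x.1) Subtype.val_injective
  have hq' : q ∣ Nat.card X - Nat.card F := (Nat.modEq_iff_dvd' hle).1 h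
  have h5 : 5 ≤ q := by
    have : q ≠ 4 := fun e => absurd (e ▸ (Fact.out : q.Prime)) (by norm_num)
    omega
  have heq : Nat.card F = Nat.card X := by
    by_contra hne
    have hpos : 0 < Nat.card X - Nat.card F := by omega
    have hd : 3 * q ∣ Nat.card X - Nat.card F :=
      Nat.Coprime.mul_dvd_of_dvd_of_dvd
        ((Nat.coprime_primes Nat.prime_three (Fact.out : q.Prime)).2 (by omega))
        (Nat.dvd_sub h3 h3') hq'
    have := Nat.le_of_dvd hpos hd
    omega
  intro x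
  obtain ⟨⟨y, hy⟩, rfl⟩ := ((Subtype.val_injective (p := fun x : X => τ x = x)).bijective_of_nat_card_le
    heq.ge).2 x
  exact hy

namespace Geo

variable {H T : Type*} [Group H] [CommGroup T] [Finite H] [Finite T]
variable {ρ : H →* MulAut T} {F : Subgroup T} (P : Geo ρ F)

include P

theorem ti (he : Even (Nat.card H))
    (huniq : ∀ s : H, s * s = 1 → s ≠ 1 → ∀ S S' : Sylow 2 H,
      s ∈ (S : Subgroup H) → s ∈ (S' : Subgroup H) → S = S')
    (hN : Nat.card (Sylow 2 H) = 3 ∨ Nat.card (Sylow 2 H) = 9)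
    {v : T} (hv : v ∉ F) :
    (∀ q : ℕ, q.Prime → q ≠ 2 → q ∣ Nat.card (twoGen H) → q ∣ (stb ρ v).index) ∧
      ∃ (N : Subgroup H) (S : Sylow 2 H), N.Normal ∧ Odd (Nat.card N) ∧
        twoGen H ≤ N ⊔ (S : Subgroup H) := by
  haveI : Fact (Nat.Prime 2) := ⟨Nat.prime_two⟩
  let I := {s : H // s * s = 1 ∧ s ≠ 1}
  have hone : ∀ S : Sylow 2 H, ∃ x : I, x.1 ∈ (S : Subgroup H) := fun S =>
    let ⟨t, ht, htt, ht1, _⟩ := two_el_centre S he; ⟨⟨t, htt, ht1⟩, ht⟩
  have hnS : ∀ (x : I) (S : Sylow 2 H) (y : H), x.1 ∈ (S : Subgroup H) →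
      Commute y x.1 → y ∈ normalizer ((S : Subgroup H) : Set H) := fun x S y hx hc => by
    refine Sylow.smul_eq_iff_mem_normalizer.1 (huniq x.1 x.2.1 x.2.2 _ _ ?_ hx)
    rw [mem_smul_sylow, mul_assoc, hc.symm.eq, inv_mul_cancel_left]
    exact hx
  have hsame : ∀ (x y : I) (S : Sylow 2 H), x.1 ∈ (S : Subgroup H) → Commute y.1 x.1 →
      y.1 ∈ (S : Subgroup H) := fun x y S hx hc =>
    twoEl_mem_of_normalizer (twoEl_of_mul_self y.2.1) (hnS x S y.1 hx hc)
  -- two involutions in a coset of a normaliser coincide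
  have hcoset : ∀ (S : Sylow 2 H) (a b : I), a.1 ∉ (S : Subgroup H) →
      b.1 * a.1 ∈ normalizer ((S : Subgroup H) : Set H) → a = b := by
    intro S a b ha hm
    by_contra hne
    set m := b.1 * a.1 with hmdef
    have hai : a.1⁻¹ = a.1 := inv_eq_of_mul_eq_one_right a.2.1
    have hinv : a.1 * m * a.1⁻¹ = m⁻¹ := by
      rw [hmdef, mul_inv_rev, inv_eq_of_mul_eq_one_right b.2.1, hai, ← mul_assoc,
        mul_assoc _ a.1 a.1, a.2.1, mul_one]
    have hm1 : m ≠ 1 := fun e => hne (Subtype.ext (by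
      rw [hmdef, mul_eq_one_iff_eq_inv, hai] at e; exact e.symm))
    by_cases h2 : TwoEl m
    · obtain ⟨k, hk⟩ := h2
      have hmS : m ∈ (S : Subgroup H) := twoEl_mem_of_normalizer ⟨k, hk⟩ hm
      rcases k with _ | k
      · exact hm1 (orderOf_eq_one_iff.1 (by rw [hk, pow_zero]))
      have hm0 : m ^ 2 ^ k * m ^ 2 ^ k = 1 := by
        rw [← pow_add, ← two_mul, ← pow_succ', ← hk, pow_orderOf_eq_one]
      have hm01 : m ^ 2 ^ k ≠ 1 := fun e => by
        have h3 := orderOf_dvd_of_pow_eq_one e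
        rw [hk, Nat.pow_dvd_pow_iff_le_right Nat.one_lt_two] at h3
        omega
      refine ha (hsame ⟨_, hm0, hm01⟩ a S ((S : Subgroup H).pow_mem hmS _) ?_)
      have h4 := conj_pow_of_inv hinv (2 ^ k)
      rw [inv_eq_of_mul_eq_one_right hm0] at h4
      exact mul_inv_eq_iff_eq_mul.1 h4
    · obtain ⟨k, o, ho, hko⟩ := Nat.exists_eq_two_pow_mul_odd (orderOf_pos m).ne'
      have ho1 : o ≠ 1 := fun e => h2 ⟨k, by rw [hko, e, mul_one]⟩
      obtain ⟨p, hp, hpd⟩ := Nat.exists_prime_and_dvd ho1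
      exact P.not_normalizes hp (fun e => Nat.not_even_iff_odd.2 ho (even_iff_two_dvd.2 (e ▸ hpd)))
        (orderOf_pow_orderOf_div (orderOf_pos m).ne' (hko ▸ hpd.mul_left (2 ^ k)))
        (rl_iff.2 ⟨a.1, conj_pow_of_inv hinv _⟩) (pow_mem hm (orderOf m / p))
  -- every Sylow subgroup has exactly one involution
  have hsingle : ∀ (S : Sylow 2 H) (x y : I), x.1 ∈ (S : Subgroup H) → y.1 ∈ (S : Subgroup H) →
      x = y := by
    intro S x y hx hy
    classical
    obtain ⟨S₀, hS₀⟩ : ∃ S₀ : Sylow 2 H, S₀ ≠ S := by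
      by_contra hcon
      push Not at hcon
      haveI : Subsingleton (Sylow 2 H) := ⟨fun a b => (hcon a).trans (hcon b).symm⟩
      have := Finite.card_le_one_iff_subsingleton.2 (inferInstance : Subsingleton (Sylow 2 H))
      omega
    let J := {a : I // a.1 ∉ (S₀ : Subgroup H)}
    choose f hf using fun a : J => exists_sylow_mem (twoEl_of_mul_self a.1.2.1)
    let N₀ := normalizer ((S₀ : Subgroup H) : Set H)
    let g : Option J → Sylow 2 H := fun o => o.elim S₀ f
    let e : Option J → H ⧸ N₀ := fun o => o.elim (QuotientGroup.mk 1) fun a => QuotientGroup.mk a.1.1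
    have hJN : ∀ a : J, a.1.1 ∉ N₀ := fun a h =>
      a.2 (twoEl_mem_of_normalizer (twoEl_of_mul_self a.1.2.1) h)
    have heinj : Function.Injective e := by
      rintro (_ | a) (_ | b) h
      · rfl
      · exact absurd (by simpa [e, QuotientGroup.eq] using h) (hJN b)
      · exact absurd (by simpa [e, QuotientGroup.eq] using h) (hJN a)
      · have h1 : a.1.1⁻¹ * b.1.1 ∈ N₀ := QuotientGroup.eq.1 h
        rw [inv_eq_of_mul_eq_one_right a.1.2.1] at h1
        exact congrArg some (Subtype.ext (hcoset S₀ b.1 a.1 b.2 h1).symm)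
    have hgsurj : Function.Surjective g := by
      intro S'
      by_cases h : S' = S₀
      · exact ⟨none, h.symm⟩
      obtain ⟨a, ha⟩ := hone S'
      have haJ : a.1 ∉ (S₀ : Subgroup H) := fun h' => h (huniq a.1 a.2.1 a.2.2 _ _ ha h')
      exact ⟨some ⟨a, haJ⟩, huniq a.1 a.2.1 a.2.2 _ _ (hf ⟨a, haJ⟩) ha⟩
    have hginj : Function.Injective g := (hgsurj.bijective_of_nat_card_le (by
      rw [Sylow.card_eq_index_normalizer S₀]
      exact Nat.card_le_card_of_injective e heinj)).1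
    have hxJ : x.1 ∉ (S₀ : Subgroup H) := fun h => hS₀ (huniq x.1 x.2.1 x.2.2 _ _ h hx)
    have hyJ : y.1 ∉ (S₀ : Subgroup H) := fun h => hS₀ (huniq y.1 y.2.1 y.2.2 _ _ h hy)
    have h1 : g (some ⟨x, hxJ⟩) = g (some ⟨y, hyJ⟩) :=
      (huniq x.1 x.2.1 x.2.2 _ _ (hf ⟨x, hxJ⟩) hx).trans
        (huniq y.1 y.2.1 y.2.2 _ _ (hf ⟨y, hyJ⟩) hy).symm
    exact congrArg Subtype.val (Option.some.inj (hginj h1))
  have hcardI : Nat.card I = Nat.card (Sylow 2 H) := by
    choose f hf using fun a : I => exists_sylow_mem (twoEl_of_mul_self a.2.1)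
    refine Nat.card_eq_of_bijective f ⟨fun a b h => hsingle (f b) a b (h ▸ hf a) (hf b), fun S => ?_⟩
    obtain ⟨a, ha⟩ := hone S
    exact ⟨a, huniq a.1 a.2.1 a.2.2 _ _ (hf a) ha⟩
  have hcomm_eq : ∀ x y : I, Commute y.1 x.1 → x = y := fun x y hc => by
    obtain ⟨S, hS⟩ := exists_sylow_mem (twoEl_of_mul_self x.2.1)
    exact hsingle S x y hS (hsame x y S hS hc)
  -- every involution inverts every real element of odd prime order
  have hinvall : ∀ (x : I) (w : H) (p : ℕ), p.Prime → p ≠ 2 → orderOf w = p → Rl w →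
      x.1 * w * x.1⁻¹ = w⁻¹ := by
    intro x w p hp hp2 hw hr
    obtain ⟨S, hS⟩ := exists_sylow_mem (twoEl_of_mul_self x.2.1)
    obtain ⟨u, hu, ⟨k, hk⟩, hinv⟩ := P.inverter_mem hp hp2 hw hr S
    rcases k with _ | _ | k
    · exfalso
      rw [show u = 1 from orderOf_eq_one_iff.1 (by rw [hk, pow_zero]), one_mul, inv_one, mul_one] at hinv
      have h3 := eq_one_of_mul_self_odd (g := w) (by nth_rw 1 [hinv]; exact inv_mul_cancel w)
        (hw ▸ hp.odd_of_ne_two hp2)
      rw [h3, orderOf_one] at hw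
      exact hp.one_lt.ne hw
    · have huu : u * u = 1 := by
        rw [← pow_two]; exact orderOf_dvd_iff_pow_eq_one.1 (by rw [hk, pow_one])
      have hu1 : u ≠ 1 := fun e => by rw [e, orderOf_one] at hk; norm_num at hk
      obtain rfl := hsingle S x ⟨u, huu, hu1⟩ hS hu
      exact hinv
    · exfalso
      set s := u ^ 2 ^ (k + 1) with hs
      have hss : s * s = 1 := by
        rw [hs, ← pow_add, ← two_mul, ← pow_succ', ← hk, pow_orderOf_eq_one]
      have hs1 : s ≠ 1 := fun e => by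
        have h3 := orderOf_dvd_of_pow_eq_one e
        rw [hk, Nat.pow_dvd_pow_iff_le_right Nat.one_lt_two] at h3
        omega
      have hc : Commute (u * u) w := by
        have h4 : u * w⁻¹ * u⁻¹ = w := by
          rw [show u * w⁻¹ * u⁻¹ = (u * w * u⁻¹)⁻¹ by group, hinv, inv_inv]
        refine mul_inv_eq_iff_eq_mul.1 ?_
        calc u * u * w * (u * u)⁻¹ = u * (u * w * u⁻¹) * u⁻¹ := by group
          _ = w := by rw [hinv, h4]
      have hcs : Commute s w := by
        rw [hs, pow_succ' 2 k, pow_mul, pow_two]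
        exact hc.pow_left _
      exact P.not_normalizes hp hp2 hw hr
        (hnS ⟨s, hss, hs1⟩ S w ((S : Subgroup H).pow_mem hu _) hcs.symm)
  -- conjugation on involutions
  have hcI : ∀ (g : H) (x : I), (g * x.1 * g⁻¹) * (g * x.1 * g⁻¹) = 1 ∧ g * x.1 * g⁻¹ ≠ 1 := by
    intro g x
    refine ⟨?_, fun e => x.2.2 ?_⟩
    · calc g * x.1 * g⁻¹ * (g * x.1 * g⁻¹) = g * (x.1 * x.1) * g⁻¹ := by group
        _ = 1 := by rw [x.2.1]; group
    · calc x.1 = g⁻¹ * (g * x.1 * g⁻¹) * g := by group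
        _ = 1 := by rw [e]; group
  let cI : H →* Equiv.Perm I :=
    { toFun := fun g =>
        { toFun := fun x => ⟨g * x.1 * g⁻¹, hcI g x⟩
          invFun := fun x => ⟨g⁻¹ * x.1 * g, by simpa using hcI g⁻¹ x⟩
          left_inv := fun x => Subtype.ext (by group)
          right_inv := fun x => Subtype.ext (by group) }
      map_one' := Equiv.ext fun x => Subtype.ext (by simp)
      map_mul' := fun g h => Equiv.ext fun x => Subtype.ext (by simp [mul_assoc]) }
  have hfree : ∀ (w : H) (p : ℕ), p.Prime → p ≠ 2 → orderOf w = p → Rl w →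
      ∀ x : I, cI w x ≠ x := by
    intro w p hp hp2 hw hr x e
    have hc : w * x.1 * w⁻¹ = x.1 := congrArg Subtype.val e
    have h1 := hinvall x w p hp hp2 hw hr
    rw [← (mul_inv_eq_iff_eq_mul.1 hc), mul_inv_cancel_right] at h1
    have h3 := eq_one_of_mul_self_odd (g := w) (by nth_rw 1 [h1]; exact inv_mul_cancel w)
      (hw ▸ hp.odd_of_ne_two hp2)
    rw [h3, orderOf_one] at hw
    exact hp.one_lt.ne hw
  have hreal : ∀ (w : H) (p : ℕ), p.Prime → p ≠ 2 → orderOf w = p → Rl w → p = 3 := by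
    intro w p hp hp2 hw hr
    haveI : Fact p.Prime := ⟨hp⟩
    have hd := dvd_card_of_free (p := p) (n := 1) (cI w)
      (by rw [← map_pow, pow_one, ← hw, pow_orderOf_eq_one, map_one]) (hfree w p hp hp2 hw hr)
    rw [hcardI] at hd
    have hd9 : p ∣ 3 ^ 2 := by
      rcases hN with e | e <;> rw [e] at hd
      · exact hd.trans (by norm_num)
      · simpa using hd
    exact (Nat.prime_dvd_prime_iff_eq hp Nat.prime_three).1 (hp.dvd_of_dvd_pow hd9)
  have hprodinv : ∀ x y : I, x.1 * (x.1 * y.1) * x.1⁻¹ = (x.1 * y.1)⁻¹ := fun x y => by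
    rw [← mul_assoc, x.2.1, one_mul, mul_inv_rev, inv_eq_of_mul_eq_one_right y.2.1]
  -- products of two involutions have 3-power order
  have hprime : ∀ x y : I, ∀ p : ℕ, p.Prime → p ∣ orderOf (x.1 * y.1) → p = 3 := by
    intro x y p hp hpd
    set m := x.1 * y.1 with hm
    have hmo := orderOf_pow_orderOf_div (orderOf_pos m).ne' hpd
    have hz := conj_pow_of_inv (hprodinv x y) (orderOf m / p)
    rw [← hm] at hz
    rcases eq_or_ne p 2 with rfl | hp2
    · exfalso
      set m₀ := m ^ (orderOf m / 2) with hm₀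
      have hmm : m₀ * m₀ = 1 := by
        rw [← pow_two]; exact orderOf_dvd_iff_pow_eq_one.1 (dvd_of_eq hmo)
      have hm1 : m₀ ≠ 1 := fun e => by rw [e, orderOf_one] at hmo; norm_num at hmo
      rw [inv_eq_of_mul_eq_one_right hmm] at hz
      have hcx : Commute x.1 m₀ := mul_inv_eq_iff_eq_mul.1 hz
      have hcy : Commute y.1 m₀ := by
        have hcm : Commute m m₀ := (Commute.refl m).pow_right _
        have hy : y.1 = x.1 * m := by rw [hm, ← mul_assoc, x.2.1, one_mul]
        rw [hy]; exact hcx.mul_left hcm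
      have hx0 := hcomm_eq ⟨m₀, hmm, hm1⟩ x hcx
      have hy0 := hcomm_eq ⟨m₀, hmm, hm1⟩ y hcy
      rw [← hy0, ← hx0] at hm
      rw [hm] at hpd
      simp [hmm] at hpd
    · exact hreal _ p hp hp2 hmo (rl_iff.2 ⟨x.1, hz⟩)
  obtain ⟨S⟩ := (inferInstance : Nonempty (Sylow 2 H))
  obtain ⟨x₀, hx₀⟩ := hone S
  obtain ⟨w, p₀, hp₀, hp₀2, hw, hwinv⟩ := P.exists_inverted x₀.2.1 x₀.2.2
  have hwr : Rl w := rl_iff.2 ⟨_, hwinv⟩
  obtain rfl := hreal w p₀ hp₀ hp₀2 hw hwr
  set X : Set H := {m | ∃ x y : I, m = x.1 * y.1} with hX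
  set D := closure X with hD
  haveI hDn : D.Normal := by
    refine ⟨fun z hz g => ?_⟩
    induction hz using closure_induction with
    | mem u hu =>
      obtain ⟨x, y, rfl⟩ := hu
      exact subset_closure ⟨⟨_, hcI g x⟩, ⟨_, hcI g y⟩, by
        show g * (x.1 * y.1) * g⁻¹ = g * x.1 * g⁻¹ * (g * y.1 * g⁻¹)
        group⟩
    | one => rw [mul_one, mul_inv_cancel]; exact one_mem _
    | mul a b _ _ ha hb =>
      rw [show g * (a * b) * g⁻¹ = (g * a * g⁻¹) * (g * b * g⁻¹) by group]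
      exact mul_mem ha hb
    | inv a _ ha =>
      rw [show g * a⁻¹ * g⁻¹ = (g * a * g⁻¹)⁻¹ by group]
      exact inv_mem ha
  have hDw : D ≤ centralizer ({w} : Set H) := by
    rw [hD, closure_le]
    rintro _ ⟨x, y, rfl⟩
    refine mem_cz.2 (mul_inv_eq_iff_eq_mul.1 ?_)
    have h4 : x.1 * w⁻¹ * x.1⁻¹ = w := by
      rw [show x.1 * w⁻¹ * x.1⁻¹ = (x.1 * w * x.1⁻¹)⁻¹ by group, hinvall x w 3 hp₀ hp₀2 hw hwr,
        inv_inv]
    calc x.1 * y.1 * w * (x.1 * y.1)⁻¹ = x.1 * (y.1 * w * y.1⁻¹) * x.1⁻¹ := by group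
      _ = w := by rw [hinvall y w 3 hp₀ hp₀2 hw hwr, h4]
  have hle : twoGen H ≤ D ⊔ (S : Subgroup H) := by
    rw [twoGen, closure_le]
    intro g hg
    obtain ⟨S', hS'⟩ := exists_sylow_mem (show TwoEl g from hg)
    obtain ⟨x', hx'⟩ := hone S'
    set m := x'.1 * x₀.1 with hm
    obtain ⟨k, hk⟩ : Odd (orderOf m) := by
      rw [← Nat.not_even_iff_odd, even_iff_two_dvd]
      exact fun h => absurd (hprime x' x₀ 2 Nat.prime_two h) (by norm_num)
    have hm1 : m ^ (2 * k + 2) = m := by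
      rw [show 2 * k + 2 = orderOf m + 1 by omega, pow_succ, pow_orderOf_eq_one, one_mul]
    set c := m ^ (k + 1) with hc
    have hx0m : x₀.1 * c * x₀.1⁻¹ = c⁻¹ := by
      refine conj_pow_of_inv ?_ (k + 1)
      rw [hm, mul_inv_rev, inv_eq_of_mul_eq_one_right x₀.2.1,
        inv_eq_of_mul_eq_one_right x'.2.1, ← mul_assoc, mul_assoc _ x₀.1 x₀.1, x₀.2.1, mul_one]
    have hcx : c * x₀.1 * c⁻¹ = x'.1 := by
      calc c * x₀.1 * c⁻¹ = c * (x₀.1 * c * x₀.1⁻¹)⁻¹ * x₀.1 := by group
        _ = m * x₀.1 := by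
          rw [hx0m, inv_inv, hc, ← pow_add, show k + 1 + (k + 1) = 2 * k + 2 by ring, hm1]
        _ = x'.1 := by rw [hm, mul_assoc, x₀.2.1, mul_one]
    have hcS : c • S = S' := huniq x'.1 x'.2.1 x'.2.2 _ _ (by
      rw [mem_smul_sylow, ← hcx, show c⁻¹ * (c * x₀.1 * c⁻¹) * c = x₀.1 by group]; exact hx₀) hx'
    rw [← hcS, mem_smul_sylow] at hS'
    have hcD : c ∈ D := D.pow_mem (subset_closure (show m ∈ X from ⟨x', x₀, rfl⟩)) _
    show g ∈ D ⊔ (S : Subgroup H)
    rw [show g = c * (c⁻¹ * g * c) * c⁻¹ by group]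
    exact mul_mem (mul_mem (mem_sup_left hcD) (mem_sup_right hS')) (mem_sup_left (inv_mem hcD))
  have hDodd : Odd (Nat.card D) := by
    rw [Nat.odd_iff, ← Nat.two_dvd_ne_zero]
    intro h2
    obtain ⟨u, hu⟩ := exists_prime_orderOf_dvd_card' 2 h2
    have huu : (u : H) * u = 1 := by
      rw [← pow_two]; exact orderOf_dvd_iff_pow_eq_one.1 (dvd_of_eq (by rw [orderOf_coe, hu]))
    have hu1 : (u : H) ≠ 1 := fun e => by
      rw [show u = 1 from Subtype.ext e, orderOf_one] at hu; norm_num at hu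
    exact hfree w 3 hp₀ hp₀2 hw hwr ⟨u, huu, hu1⟩ (Subtype.ext (by
      show w * (u : H) * w⁻¹ = u
      rw [(mem_cz.1 (hDw u.2)).symm.eq, mul_inv_cancel_right]))
  refine ⟨fun q hq hq2 hqK => ?_, D, S, hDn, hDodd, hle⟩
  have hd := hqK.trans ((card_dvd_of_le hle).trans (Solvable.card_sup_dvd_mul D (S : Subgroup H)))
  have hqD : q ∣ Nat.card D := by
    refine ((Nat.Prime.dvd_mul hq).1 hd).resolve_right fun hd' => hq2 ?_
    obtain ⟨k, hk⟩ := S.isPGroup'.exists_card_eq
    rw [hk] at hd'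
    exact (Nat.prime_dvd_prime_iff_eq hq Nat.prime_two).1 (hq.dvd_of_dvd_pow hd')
  rcases eq_or_ne q 3 with rfl | hq3
  · refine dvd_trans ?_ (P.card_sylow_dvd hv)
    rcases hN with e | e <;> rw [e] <;> norm_num
  exfalso
  haveI : Fact q.Prime := ⟨hq⟩
  have hq3' : 3 < q := by have := hq.two_le; omega
  obtain ⟨Q⟩ := (inferInstance : Nonempty (Sylow q ↥D))
  refine not_dvd_of_central (X := (Subtype.val : D → H) ⁻¹' X)
    closure_closure_coe_preimage ?_ Q ?_ hqD
  · rintro g ⟨x, y, hxy⟩ hqg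
    rw [← orderOf_coe, hxy] at hqg
    exact hq3 (hprime x y q hq hqg)
  · intro k hk
    obtain ⟨j, hj⟩ := Q.isPGroup' ⟨k, hk⟩
    have hkq : (k : H) ^ q ^ j = 1 := congrArg (fun z : (Q : Subgroup ↥D) => ((z : ↥D) : H)) hj
    have hall : ∀ x : I, Commute (k : H) x.1 := fun x => by
      have h5 := perm_eq_one_of_comm (j := j) hq3' (cI w) (cI (k : H))
        (by rw [← map_pow, ← hw, pow_orderOf_eq_one, map_one]) (hfree w 3 hp₀ hp₀2 hw hwr)
        (by rw [← map_pow, hkq, map_one])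
        (((mem_cz.1 (hDw k.2)).symm).map cI)
        (by rw [hcardI]; omega) x
      exact mul_inv_eq_iff_eq_mul.1 (congrArg Subtype.val h5)
    rw [mem_center_iff]
    intro z
    refine Subtype.ext ?_
    have hzc : z.1 ∈ centralizer ({(k : H)} : Set H) := by
      have hle : D ≤ centralizer ({(k : H)} : Set H) := by
        show closure X ≤ _
        rw [closure_le]
        rintro _ ⟨x, y, rfl⟩
        exact mem_cz.2 ((hall x).symm.mul_left (hall y).symm)
      exact hle z.2
    exact (mem_cz.1 hzc).eq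

end Geo

end CfsgLib.RealClassDisc
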