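import Cfsg.Agent.Lib.RealClassDisc.GeoGen
import Cfsg.Agent.Lib.RealClassDisc.GeoTI
import Cfsg.Agent.Lib.RealClassDisc.GeoSix

/-!
# Odd primes of the subgroup generated by 2-elements divide an orbit length
-/

set_option autoImplicit false

namespace CfsgLib.RealClassDisc

open Subgroup

universe u

namespace Geo

variable {H : Type u} {T : Type*} [Group H] [CommGroup T] [Finite H] [Finite T]
variable {ρ : H →* MulAut T} {F : Subgroup T} (P : Geo ρ F)

include P

theorem geo_main :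
    (∀ q : ℕ, q.Prime → q ≠ 2 → q ∣ Nat.card (twoGen H) → ∃ v, v ∉ F ∧ q ∣ (stb ρ v).index) ∧
      ∃ (N : Subgroup H) (S : Sylow 2 H), N.Normal ∧ Odd (Nat.card N) ∧
        twoGen H ≤ N ⊔ (S : Subgroup H) := by
  haveI : Fact (Nat.Prime 2) := ⟨Nat.prime_two⟩
  obtain ⟨S⟩ := (inferInstance : Nonempty (Sylow 2 H))
  obtain ⟨v, hv, -⟩ := P.all S
  suffices key : (∀ q : ℕ, q.Prime → q ≠ 2 → q ∣ Nat.card (twoGen H) → q ∣ (stb ρ v).index) ∧
      ∃ (N : Subgroup H) (S : Sylow 2 H), N.Normal ∧ Odd (Nat.card N) ∧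
        twoGen H ≤ N ⊔ (S : Subgroup H) from
    ⟨fun q hq hq2 hqK => ⟨v, hv, key.1 q hq hq2 hqK⟩, key.2⟩
  rcases Nat.even_or_odd (Nat.card H) with he | ho
  swap
  · have hbot : twoGen H = ⊥ := by
      rw [twoGen, closure_eq_bot_iff]
      intro g hg
      exact eq_one_of_twoEl_odd hg (ho.of_dvd_nat (orderOf_dvd_natCard g))
    refine ⟨fun q hq _ hqK => ?_, ⊥, S, inferInstance, by rw [card_bot]; exact odd_one,
      by rw [hbot]; exact bot_le⟩
    rw [hbot, card_bot] at hqK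
    exact absurd (Nat.eq_one_of_dvd_one hqK) hq.ne_one
  obtain ⟨f, h, b, hb, hbh, hf, hT, hU, hN, hcount⟩ := P.exists_num he
  have huniq : 2 ^ b - 1 = 2 ^ h - 1 → ∀ s : H, s * s = 1 → s ≠ 1 → ∀ S S' : Sylow 2 H,
      s ∈ (S : Subgroup H) → s ∈ (S' : Subgroup H) → S = S' := by
    intro e s hss hs1 S S' hS hS'
    have h1 := hcount s hss hs1
    rw [e] at h1
    have hpos : 0 < 2 ^ h - 1 := (odd_two_pow_sub_one (by omega : h ≠ 0)).pos
    have h2 : Nat.card {S : Sylow 2 H // s ∈ (S : Subgroup H)} ≤ 1 := le_of_eq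
      (Nat.eq_of_mul_eq_mul_right hpos (h1.trans (one_mul _).symm))
    exact congrArg Subtype.val
      ((Finite.card_le_one_iff_subsingleton.1 h2).elim ⟨S, hS⟩ ⟨S', hS'⟩)
  by_cases h1 : h = 1
  · subst h1
    obtain rfl : b = 1 := by omega
    exact P.ti he (huniq rfl) (Or.inl (by norm_num at hN; omega)) hv
  by_cases h3 : h = 3
  · subst h3
    obtain ⟨t, ht⟩ := exists_prime_orderOf_dvd_card' 2 (even_iff_two_dvd.1 he)
    have hc := hcount t (by rw [← pow_two, ← ht, pow_orderOf_eq_one])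
      (fun e => by rw [e, orderOf_one] at ht; norm_num at ht)
    interval_cases b
    · exact (P.six he hf (by rw [hT]) hU (by norm_num at hN; omega)).elim
    · norm_num at hc; omega
    · exact P.ti he (huniq rfl) (Or.inr (by norm_num at hN; omega)) hv
  exact P.general he hb hbh hf hT hN h1 h3 hv

theorem exists_index {q : ℕ} (hq : q.Prime) (hq2 : q ≠ 2) (hqK : q ∣ Nat.card (twoGen H)) :
    ∃ v, v ∉ F ∧ q ∣ (stb ρ v).index :=
  P.geo_main.1 q hq hq2 hqK

end Geo

end CfsgLib.RealClassDisc
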