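import Cfsg.Agent.Lib.RealClassDisc.CaseA
import Cfsg.Agent.Lib.RealClassDisc.Cyclic

/-!
# A group acting on a section of exponent two with 2-closed point stabilisers

Every point outside `F` determines the unique Sylow 2-subgroup fixing it; real elements of odd order
fix no such point and have class sizes prime to the orbit lengths. Counting gives the orders.
-/

set_option autoImplicit false

namespace CfsgLib.RealClassDisc

open Subgroup
open scoped Pointwise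

/-- A set of elements of order prime to `q` generating the group with a central Sylow `q`-subgroup
forces `q` not to divide the order. -/
theorem not_dvd_of_central {K : Type*} [Group K] [Finite K] {q : ℕ} [hq : Fact q.Prime]
    {X : Set K} (hX : closure X = ⊤) (hord : ∀ g ∈ X, ¬ q ∣ orderOf g)
    (Q : Sylow q K) (hQ : (Q : Subgroup K) ≤ center K) : ¬ q ∣ Nat.card K := by
  intro hd
  have hP : normalizer (Q : Subgroup K) ≤ centralizer ((Q : Subgroup K) : Set K) := fun g _ =>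
    mem_centralizer_iff.2 fun z hz => ((mem_center_iff.1 (hQ hz)) g).symm
  have hker : (MonoidHom.transferSylow Q hP).ker = ⊤ := by
    refine top_le_iff.1 (hX ▸ (closure_le _).2 fun g hg => ?_)
    rw [SetLike.mem_coe, MonoidHom.mem_ker]
    obtain ⟨i, hi⟩ := IsPGroup.iff_orderOf.1 Q.isPGroup' (MonoidHom.transferSylow Q hP g)
    rcases i with _ | i
    · exact orderOf_eq_one_iff.1 (by rw [hi, pow_zero])
    · refine absurd ((dvd_pow_self q (Nat.succ_ne_zero i)).trans ?_) (hord g hg)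
      rw [← hi]; exact orderOf_map_dvd _ g
  have := MonoidHom.not_dvd_card_ker_transferSylow Q hP
  rw [hker, card_top] at this
  exact this hd

variable {H T : Type*} [Group H] [CommGroup T]

/-- The stabiliser of a point. -/
def stb (ρ : H →* MulAut T) (v : T) : Subgroup H where
  carrier := {h | ρ h v = v}
  one_mem' := by show ρ 1 v = v; rw [map_one]; rfl
  mul_mem' := fun {a b} (ha : ρ a v = v) (hb : ρ b v = v) => by
    show ρ (a * b) v = v
    rw [map_mul, MulAut.mul_apply, hb, ha]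
  inv_mem' := fun {a} (ha : ρ a v = v) => by
    show ρ a⁻¹ v = v
    conv_lhs => rw [← ha, ← MulAut.mul_apply, ← map_mul, inv_mul_cancel, map_one]
    rfl

/-- The points fixed by a subgroup. -/
def fixS (ρ : H →* MulAut T) (K : Subgroup H) : Subgroup T where
  carrier := {x | ∀ h ∈ K, ρ h x = x}
  one_mem' := fun h _ => map_one (ρ h)
  mul_mem' := fun {a b} ha hb h hh => by rw [map_mul, ha h hh, hb h hh]
  inv_mem' := fun {a} ha h hh => by rw [map_inv, ha h hh]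

/-- The hypotheses. -/
structure Geo (ρ : H →* MulAut T) (F : Subgroup T) : Prop where
  inj : Function.Injective ρ
  exp : ∀ x : T, x * x = 1
  fixF : ∀ (h : H), ∀ x ∈ F, ρ h x = x
  ne_top : F ≠ ⊤
  syl : ∀ v ∉ F, ∃ S : Sylow 2 H, ∀ h, TwoEl h → (ρ h v = v ↔ h ∈ (S : Subgroup H))
  all : ∀ S : Sylow 2 H, ∃ v, v ∉ F ∧ v ∈ fixS ρ (S : Subgroup H)
  fpf : ∀ (w : H) (q : ℕ), q.Prime → q ≠ 2 → orderOf w = q → Rl w → ∀ v, ρ w v = v → v ∈ F
  cop : ∀ (w : H) (q : ℕ), q.Prime → q ≠ 2 → orderOf w = q → Rl w → ∀ v ∉ F,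
    (cl w).Coprime (stb ρ v).index

theorem twoEl_mem_of_normalizer [Finite H] {S : Sylow 2 H} {g : H} (h2 : TwoEl g)
    (hg : g ∈ normalizer ((S : Subgroup H) : Set H)) : g ∈ (S : Subgroup H) := by
  haveI : Fact (Nat.Prime 2) := ⟨Nat.prime_two⟩
  have hp : IsPGroup 2 (zpowers g) := by
    obtain ⟨k, hk⟩ := h2
    exact IsPGroup.of_card (by rw [Nat.card_zpowers, hk])
  have h := hp.inf_normalizer_sylow S
  have h1 : g ∈ zpowers g ⊓ normalizer ((S : Subgroup H) : Set H) := ⟨mem_zpowers g, hg⟩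
  exact (h ▸ h1 : g ∈ zpowers g ⊓ (S : Subgroup H)).2

theorem exists_sylow_mem [Finite H] {g : H} (h2 : TwoEl g) :
    ∃ S : Sylow 2 H, g ∈ (S : Subgroup H) := by
  haveI : Fact (Nat.Prime 2) := ⟨Nat.prime_two⟩
  obtain ⟨k, hk⟩ := h2
  obtain ⟨S, hS⟩ := IsPGroup.exists_le_sylow (p := 2) (P := zpowers g)
    (IsPGroup.of_card (by rw [Nat.card_zpowers, hk]))
  exact ⟨S, hS (mem_zpowers g)⟩

theorem mem_smul_sylow {S : Sylow 2 H} {g x : H} :
    x ∈ ((g • S : Sylow 2 H) : Subgroup H) ↔ g⁻¹ * x * g ∈ (S : Subgroup H) := by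
  rw [Sylow.coe_subgroup_smul, mem_pointwise_smul_iff_inv_smul_mem]
  simp [MulAut.smul_def]

theorem mem_smul_sylow' {p : ℕ} {K : Type*} [Group K] {S : Sylow p K} {g x : K} :
    x ∈ ((g • S : Sylow p K) : Subgroup K) ↔ g⁻¹ * x * g ∈ (S : Subgroup K) := by
  rw [Sylow.coe_subgroup_smul, mem_pointwise_smul_iff_inv_smul_mem]
  simp [MulAut.smul_def]

/-- The product over the powers of an element. -/
def avg (ρ : H →* MulAut T) (w : H) (n : ℕ) : T →* T where
  toFun x := ∏ i ∈ Finset.range n, ρ (w ^ i) x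
  map_one' := by simp
  map_mul' x y := by simp [Finset.prod_mul_distrib]

theorem avg_apply (ρ : H →* MulAut T) (w : H) (n : ℕ) (x : T) :
    avg ρ w n x = ∏ i ∈ Finset.range n, ρ (w ^ i) x := rfl

theorem avg_fixed (ρ : H →* MulAut T) {w : H} {n : ℕ} (hw : w ^ n = 1) (x : T) :
    ρ w (avg ρ w n x) = avg ρ w n x := by
  have h1 : ρ w (avg ρ w n x) = ∏ i ∈ Finset.range n, ρ (w ^ (i + 1)) x := by
    rw [avg_apply, map_prod]
    refine Finset.prod_congr rfl fun i _ => ?_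
    rw [pow_succ', map_mul, MulAut.mul_apply]
  have h2 : (∏ i ∈ Finset.range n, ρ (w ^ (i + 1)) x) * x = avg ρ w n x * x := by
    have h3 := Finset.prod_range_succ' (fun i => ρ (w ^ i) x) n
    have h4 := Finset.prod_range_succ (fun i => ρ (w ^ i) x) n
    rw [h3] at h4
    simpa [avg_apply, hw] using h4
  rw [h1]
  exact mul_right_cancel h2

theorem avg_of_fixed (ρ : H →* MulAut T) {w : H} {n : ℕ} (hn : Odd n) (hexp : ∀ x : T, x * x = 1)
    {x : T} (hx : ρ w x = x) : avg ρ w n x = x := by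
  have h1 : ∀ i : ℕ, ρ (w ^ i) x = x := by
    intro i
    induction i with
    | zero => simp
    | succ i ih => rw [pow_succ, map_mul, MulAut.mul_apply, hx, ih]
  obtain ⟨k, rfl⟩ := hn
  rw [avg_apply, Finset.prod_congr rfl (fun i _ => h1 i), Finset.prod_const, Finset.card_range,
    pow_succ, pow_mul, pow_two, hexp, one_pow, one_mul]

namespace Geo

variable {ρ : H →* MulAut T} {F : Subgroup T} (P : Geo ρ F)

theorem act_mul (_P : Geo ρ F) (g h : H) (x : T) : ρ (g * h) x = ρ g (ρ h x) := by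
  rw [map_mul]; rfl

theorem act_inv_cancel (_P : Geo ρ F) (g : H) (x : T) : ρ g⁻¹ (ρ g x) = x := by
  rw [← MulAut.mul_apply, ← map_mul, inv_mul_cancel, map_one]; rfl

include P

theorem inv_eq (x : T) : x⁻¹ = x := inv_eq_of_mul_eq_one_right (P.exp x)

theorem notMem_act {v : T} (hv : v ∉ F) (g : H) : ρ g v ∉ F := fun h => hv (by
  have := P.fixF g⁻¹ _ h
  rw [P.act_inv_cancel] at this
  rw [this]; exact h)

theorem le_fixS (K : Subgroup H) : F ≤ fixS ρ K := fun x hx h _ => P.fixF h x hx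

theorem le_fixOf (g : H) : F ≤ fixOf ρ g := fun x hx => P.fixF g x hx

theorem act_mem_fixS {v : T} {S : Sylow 2 H} (hS : v ∈ fixS ρ (S : Subgroup H)) (g : H) :
    ρ g v ∈ fixS ρ ((g • S : Sylow 2 H) : Subgroup H) := by
  intro x hx
  have := hS _ (mem_smul_sylow.1 hx)
  calc ρ x (ρ g v) = ρ g (ρ (g⁻¹ * x * g) v) := by
        simp only [← P.act_mul]; congr 2; group
    _ = ρ g v := by rw [this]

variable [Finite H]

theorem eq_syl {v : T} {S₀ S : Sylow 2 H}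
    (hS₀ : ∀ h, TwoEl h → (ρ h v = v ↔ h ∈ (S₀ : Subgroup H)))
    (hS : v ∈ fixS ρ (S : Subgroup H)) : S = S₀ := by
  haveI : Fact (Nat.Prime 2) := ⟨Nat.prime_two⟩
  exact Sylow.ext (S.3 S₀.2 fun h hh =>
    (hS₀ h (twoEl_of_mem_isPGroup S.isPGroup' hh)).1 (hS h hh)).symm

theorem exists_fix {v : T} (hv : v ∉ F) :
    ∃ S : Sylow 2 H, v ∈ fixS ρ (S : Subgroup H) := by
  haveI : Fact (Nat.Prime 2) := ⟨Nat.prime_two⟩
  obtain ⟨S, hS⟩ := P.syl v hv
  exact ⟨S, fun h hh => (hS h (twoEl_of_mem_isPGroup S.isPGroup' hh)).2 hh⟩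

theorem mem_sylow {v : T} (hv : v ∉ F) {S : Sylow 2 H} (hS : v ∈ fixS ρ (S : Subgroup H))
    {h : H} (h2 : TwoEl h) (hh : ρ h v = v) : h ∈ (S : Subgroup H) := by
  obtain ⟨S₀, hS₀⟩ := P.syl v hv
  rw [P.eq_syl hS₀ hS]
  exact (hS₀ h h2).1 hh

theorem unique {v : T} (hv : v ∉ F) {S S' : Sylow 2 H} (hS : v ∈ fixS ρ (S : Subgroup H))
    (hS' : v ∈ fixS ρ (S' : Subgroup H)) : S = S' := by
  obtain ⟨S₀, hS₀⟩ := P.syl v hv
  rw [P.eq_syl hS₀ hS, P.eq_syl hS₀ hS']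

theorem stb_le {v : T} (hv : v ∉ F) {S : Sylow 2 H} (hS : v ∈ fixS ρ (S : Subgroup H)) :
    stb ρ v ≤ normalizer ((S : Subgroup H) : Set H) := by
  intro g (hg : ρ g v = v)
  refine Sylow.smul_eq_iff_mem_normalizer.1 ?_
  exact (P.unique hv hS (hg ▸ P.act_mem_fixS hS g)).symm

theorem card_sylow_dvd {v : T} (hv : v ∉ F) :
    Nat.card (Sylow 2 H) ∣ (stb ρ v).index := by
  haveI : Fact (Nat.Prime 2) := ⟨Nat.prime_two⟩
  obtain ⟨S, hS⟩ := P.exists_fix hv
  rw [Sylow.card_eq_index_normalizer S]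
  exact index_dvd_of_le (P.stb_le hv hS)

theorem eq_one_of_fix_all {g : H} (hg : ∀ v, v ∉ F → ρ g v = v) : g = 1 := P.inj (by
  rw [map_one]
  refine MulEquiv.ext fun v => ?_
  by_cases hv : v ∈ F
  · exact P.fixF g v hv
  · exact hg v hv)

theorem normal_two_eq_bot {Q : Subgroup H} (hn : Q.Normal) (hQ : IsPGroup 2 Q) : Q = ⊥ := by
  haveI : Fact (Nat.Prime 2) := ⟨Nat.prime_two⟩
  rw [eq_bot_iff]
  intro g hg
  exact P.eq_one_of_fix_all fun v hv => by
    obtain ⟨S, hS⟩ := P.exists_fix hv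
    exact hS g (hQ.le_sylow_of_normal S hg)

theorem exists_factor_real {w : H} {q : ℕ} (hq : q.Prime) (hq2 : q ≠ 2) (hw : orderOf w = q)
    (hr : Rl w) {v : T} (hv : v ∉ F) (k : H) :
    ∃ c ∈ centralizer ({w} : Set H), c⁻¹ * k ∈ stb ρ v :=
  exists_factor (C := centralizer ({w} : Set H)) (D := stb ρ v) (P.cop w q hq hq2 hw hr v hv) k

/-- The centraliser of a real element of odd prime order is transitive on Sylow subgroups. -/
theorem trans_real {w : H} {q : ℕ} (hq : q.Prime) (hq2 : q ≠ 2) (hw : orderOf w = q) (hr : Rl w)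
    (S : Sylow 2 H) (g : H) : ∃ c ∈ centralizer ({w} : Set H), g • S = c • S := by
  obtain ⟨v, hv, hS⟩ := P.all S
  obtain ⟨c, hc, hd⟩ := P.exists_factor_real hq hq2 hw hr hv g
  refine ⟨c, hc, ?_⟩
  have h1 : (c⁻¹ * g) • S = S := Sylow.smul_eq_iff_mem_normalizer.2 (P.stb_le hv hS hd)
  conv_rhs => rw [← h1, smul_smul, mul_inv_cancel_left]

theorem inverter_mem {w : H} {q : ℕ} (hq : q.Prime) (hq2 : q ≠ 2) (hw : orderOf w = q) (hr : Rl w)
    (S : Sylow 2 H) : ∃ u ∈ (S : Subgroup H), TwoEl u ∧ u * w * u⁻¹ = w⁻¹ := by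
  haveI : Fact (Nat.Prime 2) := ⟨Nat.prime_two⟩
  obtain ⟨u₀, hu₀⟩ := rl_iff.1 hr
  obtain ⟨n, -, h2, hinv⟩ := exists_twoEl_conj_inv hu₀
  obtain ⟨S', hS'⟩ := exists_sylow_mem h2
  obtain ⟨g, hg⟩ := MulAction.exists_smul_eq H S S'
  obtain ⟨c, hc, hgc⟩ := P.trans_real hq hq2 hw hr S g
  rw [← hg, hgc, mem_smul_sylow] at hS'
  refine ⟨c⁻¹ * u₀ ^ n * c, hS', twoEl_of_mem_isPGroup S.isPGroup' hS', ?_⟩
  have hc' : Commute c w := mem_cz.1 hc
  calc c⁻¹ * u₀ ^ n * c * w * (c⁻¹ * u₀ ^ n * c)⁻¹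
      = c⁻¹ * (u₀ ^ n * (c * w * c⁻¹) * (u₀ ^ n)⁻¹) * c := by group
    _ = c⁻¹ * w⁻¹ * c := by rw [hc'.eq, mul_inv_cancel_right, hinv]
    _ = w⁻¹ := by rw [mul_assoc, hc'.inv_right.symm.eq, inv_mul_cancel_left]

theorem not_normalizes {w : H} {q : ℕ} (hq : q.Prime) (hq2 : q ≠ 2) (hw : orderOf w = q)
    (hr : Rl w) {S : Sylow 2 H} (hn : w ∈ normalizer ((S : Subgroup H) : Set H)) : False := by
  haveI : Fact (Nat.Prime 2) := ⟨Nat.prime_two⟩
  obtain ⟨u, hu, -, hinv⟩ := P.inverter_mem hq hq2 hw hr S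
  have h1 : w * u⁻¹ * w⁻¹ ∈ (S : Subgroup H) :=
    (mem_normalizer_iff.1 hn u⁻¹).1 ((S : Subgroup H).inv_mem hu)
  have h2 : u * (w * u⁻¹ * w⁻¹) = w⁻¹ * w⁻¹ := by
    calc u * (w * u⁻¹ * w⁻¹) = (u * w * u⁻¹) * w⁻¹ := by group
      _ = w⁻¹ * w⁻¹ := by rw [hinv]
  have h3 := (S : Subgroup H).mul_mem hu h1
  rw [h2, ← mul_inv_rev] at h3
  have h4 := (S : Subgroup H).inv_mem h3
  rw [inv_inv] at h4
  have h5 : Odd (orderOf (w * w)) :=
    (hw ▸ hq.odd_of_ne_two hq2 : Odd (orderOf w)).of_dvd_nat (by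
      rw [← pow_two]; exact orderOf_pow_dvd 2)
  have h6 := eq_one_of_mul_self_odd (eq_one_of_twoEl_odd (twoEl_of_mem_isPGroup S.isPGroup' h4) h5)
    (hw ▸ hq.odd_of_ne_two hq2)
  rw [h6, orderOf_one] at hw
  exact hq.one_lt.ne hw

theorem exists_inverted {s : H} (hss : s * s = 1) (hs1 : s ≠ 1) :
    ∃ (w : H) (q : ℕ), q.Prime ∧ q ≠ 2 ∧ orderOf w = q ∧ s * w * s⁻¹ = w⁻¹ := by
  obtain ⟨a, ha1, hao, hainv⟩ := Invol.exists_odd_inverted_of_notMem_normal_two
    (orderOf_eq_prime (p := 2) (by rw [pow_two, hss]) hs1) (fun N hN hNp hsN => by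
      rw [P.normal_two_eq_bot hN hNp, mem_bot] at hsN; exact hs1 hsN)
  obtain ⟨q, hq, hqd⟩ := Nat.exists_prime_and_dvd (orderOf_eq_one_iff.not.2 ha1)
  exact ⟨_, q, hq, fun e => Nat.not_even_iff_odd.2 hao (even_iff_two_dvd.2 (e ▸ hqd)),
    orderOf_pow_orderOf_div (orderOf_pos a).ne' hqd, conj_pow_of_inv hainv _⟩

variable [Finite T]

theorem card_fixOf_sq {s w : H} {q : ℕ} (hss : s * s = 1) (hq : q.Prime) (hq2 : q ≠ 2)
    (hw : orderOf w = q) (hinv : s * w * s⁻¹ = w⁻¹) :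
    Nat.card (fixOf ρ s) * Nat.card (fixOf ρ s) = Nat.card T * Nat.card F := by
  have hr : Rl w := rl_iff.2 ⟨s, hinv⟩
  have hodd : Odd q := hq.odd_of_ne_two hq2
  have hwq : w ^ q = 1 := hw ▸ pow_orderOf_eq_one w
  have hwq' : w⁻¹ ^ q = 1 := by rw [inv_pow, hwq, inv_one]
  have hs2 : ∀ y, ρ s (ρ s y) = y := fun y => by rw [← P.act_mul, hss, map_one]; rfl
  let φ : T →* T :=
    { toFun := fun x => x * ρ s x
      map_one' := by simp
      map_mul' := fun x y => by simp only [map_mul]; exact mul_mul_mul_comm x y _ _ }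
  have hker : φ.ker = fixOf ρ s := by
    ext x
    show x * ρ s x = 1 ↔ ρ s x = x
    rw [mul_eq_one_iff_inv_eq, P.inv_eq, eq_comm]
  have hT : Nat.card T = Nat.card φ.range * Nat.card (fixOf ρ s) := by
    rw [← hker, ← index_ker, mul_comm, card_mul_index]
  have hfpf : ∀ y, ρ w y = y → y ∈ F := P.fpf w q hq hq2 hw hr
  have havgF : ∀ y, avg ρ w q y ∈ F := fun y => hfpf _ (avg_fixed ρ hwq y)
  have hswap : ∀ y, avg ρ w q (ρ s y) = avg ρ w q y := by
    intro y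
    have h1 : avg ρ w⁻¹ q y ∈ F := by
      refine hfpf _ ?_
      have h2 := congrArg (ρ w) (avg_fixed ρ hwq' y)
      rw [← P.act_mul, mul_inv_cancel, map_one] at h2
      exact h2.symm
    have h3 : avg ρ w q (avg ρ w⁻¹ q y) = avg ρ w⁻¹ q (avg ρ w q y) := by
      simp only [avg_apply, map_prod]
      rw [Finset.prod_comm]
      refine Finset.prod_congr rfl fun j _ => Finset.prod_congr rfl fun i _ => ?_
      rw [← P.act_mul, ← P.act_mul]
      congr 2
      exact ((Commute.refl w).inv_right.pow_pow j i).eq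
    rw [avg_of_fixed ρ hodd P.exp (P.fixF w _ h1),
      avg_of_fixed ρ hodd P.exp (P.fixF _ _ (havgF y))] at h3
    have h4 : avg ρ w q (ρ s y) = ρ s (avg ρ w⁻¹ q y) := by
      simp only [avg_apply, map_prod]
      refine Finset.prod_congr rfl fun i _ => ?_
      rw [← P.act_mul, ← P.act_mul]
      congr 2
      rw [inv_pow, ← conj_pow_of_inv hinv i]
      calc w ^ i * s = (s * s) * w ^ i * s := by rw [hss, one_mul]
        _ = s * (s * w ^ i * s⁻¹) := by
          rw [inv_eq_of_mul_eq_one_right hss]; group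
    rw [h4, P.fixF s _ h1, h3]
  have hmeet : ∀ y, φ y ∈ F → φ y = 1 := by
    intro y hy
    have h1 := avg_of_fixed ρ hodd P.exp (P.fixF w _ hy)
    change avg ρ w q (y * ρ s y) = y * ρ s y at h1
    rw [map_mul, hswap, P.exp] at h1
    exact h1.symm
  have hle1 : Nat.card φ.range * Nat.card F ≤ Nat.card (fixOf ρ s) := by
    rw [← Nat.card_prod]
    refine Nat.card_le_card_of_injective (fun p : φ.range × F =>
      (⟨p.1.1 * p.2.1, (fixOf ρ s).mul_mem ?_ (P.le_fixOf s p.2.2)⟩ : fixOf ρ s)) ?_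
    · obtain ⟨y, hy⟩ := p.1.2
      rw [← hy]
      show ρ s (y * ρ s y) = y * ρ s y
      rw [map_mul, hs2, mul_comm]
    · rintro ⟨⟨a, ha⟩, b, hb⟩ ⟨⟨a', ha'⟩, b', hb'⟩ h
      have h1 : a * b = a' * b' := congrArg Subtype.val h
      have h2 : a / a' = b' / b := by rw [div_eq_div_iff_mul_eq_mul, h1, mul_comm]
      obtain ⟨y, hy⟩ := φ.range.div_mem ha ha'
      have h3 : a / a' = 1 := hy ▸ hmeet y (hy ▸ h2 ▸ F.div_mem hb' hb)
      have h4 : a = a' := div_eq_one.1 h3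
      subst h4
      have h5 : b = b' := mul_left_cancel h1
      subst h5
      rfl
  have hle2 : Nat.card (fixOf ρ s) ≤ Nat.card φ.range * Nat.card F := by
    let ψ : fixOf ρ s →* φ.range :=
      { toFun := fun x => ⟨φ (ρ w x.1), ⟨_, rfl⟩⟩
        map_one' := Subtype.ext (by simp)
        map_mul' := fun x y => Subtype.ext (by simp [map_mul]) }
    rw [← ψ.ker.card_mul_index, index_ker, mul_comm]
    refine Nat.mul_le_mul (card_le_card_group _) ?_
    refine Nat.card_le_card_of_injective (fun x : ψ.ker => (⟨x.1.1, ?_⟩ : F))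
      fun a b h => Subtype.ext (Subtype.ext (congrArg (fun z : F => (z : T)) h))
    have hx : ρ s x.1.1 = x.1.1 := x.1.2
    have h1 : ρ s (ρ w x.1.1) = ρ w x.1.1 := by
      have : φ (ρ w x.1.1) = 1 := congrArg Subtype.val x.2
      rw [← MonoidHom.mem_ker, hker] at this
      exact this
    have h2 : ρ (w * w) x.1.1 = x.1.1 := by
      have e : s * w = w⁻¹ * s := by rw [← hinv, inv_mul_cancel_right]
      rw [← P.act_mul, e, P.act_mul, hx] at h1
      rw [P.act_mul, ← h1, ← P.act_mul, mul_inv_cancel, map_one]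
      rfl
    obtain ⟨m, hm⟩ := hodd
    refine hfpf _ ?_
    have h3 : ∀ i : ℕ, ρ ((w * w) ^ i) x.1.1 = x.1.1 := fun i => by
      induction i with
      | zero => simp
      | succ i ih => rw [pow_succ, P.act_mul, h2, ih]
    have h4 := h3 (m + 1)
    rwa [show (w * w) ^ (m + 1) = w by
      rw [← pow_two, ← pow_mul, show 2 * (m + 1) = q + 1 by omega, pow_succ, hwq, one_mul]] at h4
  rw [hT, mul_right_comm, le_antisymm hle1 hle2]

theorem isPGroup_T : IsPGroup 2 T := fun x => ⟨1, by rw [pow_one, pow_two, P.exp]⟩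

theorem two_pow (W : Subgroup T) : ∃ k : ℕ, Nat.card W = 2 ^ k := by
  haveI : Fact (Nat.Prime 2) := ⟨Nat.prime_two⟩
  exact (P.isPGroup_T.to_subgroup W).exists_card_eq

theorem card_fixS (S S' : Sylow 2 H) :
    Nat.card (fixS ρ (S : Subgroup H)) = Nat.card (fixS ρ (S' : Subgroup H)) := by
  haveI : Fact (Nat.Prime 2) := ⟨Nat.prime_two⟩
  have key : ∀ S S' : Sylow 2 H,
      Nat.card (fixS ρ (S : Subgroup H)) ≤ Nat.card (fixS ρ (S' : Subgroup H)) := by
    intro S S'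
    obtain ⟨g, rfl⟩ := MulAction.exists_smul_eq H S S'
    exact Nat.card_le_card_of_injective (fun x : fixS ρ (S : Subgroup H) =>
      (⟨ρ g x.1, P.act_mem_fixS x.2 g⟩ : fixS ρ ((g • S : Sylow 2 H) : Subgroup H)))
      fun a b h => Subtype.ext ((ρ g).injective (congrArg Subtype.val h))
  exact le_antisymm (key S S') (key S' S)

theorem card_sub (S₀ : Sylow 2 H) {V : Subgroup T} (hFV : F ≤ V) (p : Sylow 2 H → Prop)
    (hp : ∀ v, v ∉ F → ∀ S : Sylow 2 H, v ∈ fixS ρ (S : Subgroup H) → (v ∈ V ↔ p S)) :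
    Nat.card V - Nat.card F =
      Nat.card {S // p S} * (Nat.card (fixS ρ (S₀ : Subgroup H)) - Nat.card F) := by
  classical
  have hd : ∀ W : Subgroup T, F ≤ W →
      Nat.card {v : T // v ∈ W ∧ v ∉ F} = Nat.card W - Nat.card F := by
    intro W hW
    have := Set.ncard_sdiff (s := (F : Set T)) (t := (W : Set T)) hW (Set.toFinite _)
    rw [← Nat.card_coe_set_eq, ← Nat.card_coe_set_eq, ← Nat.card_coe_set_eq] at this
    exact this
  haveI := Fintype.ofFinite {S : Sylow 2 H // p S}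
  let g : (Σ S : {S : Sylow 2 H // p S}, {v : T // v ∈ fixS ρ (S.1 : Subgroup H) ∧ v ∉ F}) →
      {v : T // v ∈ V ∧ v ∉ F} :=
    fun x => ⟨x.2.1, (hp _ x.2.2.2 x.1.1 x.2.2.1).2 x.1.2, x.2.2.2⟩
  have hg : Function.Bijective g := by
    constructor
    · rintro ⟨⟨S, hS⟩, v, hv, hvF⟩ ⟨⟨S', hS'⟩, v', hv', hvF'⟩ h
      obtain rfl : v = v' := congrArg Subtype.val h
      obtain rfl : S = S' := P.unique hvF hv hv'
      rfl
    · rintro ⟨v, hv, hvF⟩
      obtain ⟨S, hS⟩ := P.exists_fix hvF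
      exact ⟨⟨⟨S, (hp v hvF S hS).1 hv⟩, v, hS, hvF⟩, rfl⟩
  rw [← hd V hFV, ← Nat.card_eq_of_bijective g hg, Nat.card_sigma,
    Finset.sum_congr rfl (fun S _ => (hd _ (P.le_fixS _)).trans
      (by rw [P.card_fixS S.1 S₀])), Finset.sum_const, Finset.card_univ, smul_eq_mul,
    ← Nat.card_eq_fintype_card]

/-- The orders in terms of exponents of two. -/
theorem exists_num (he : Even (Nat.card H)) :
    ∃ f h b : ℕ, 0 < b ∧ b ≤ h ∧ Nat.card F = 2 ^ f ∧ Nat.card T = 2 ^ (2 * h + f) ∧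
      (∀ S : Sylow 2 H, Nat.card (fixS ρ (S : Subgroup H)) = 2 ^ (b + f)) ∧
      Nat.card (Sylow 2 H) * (2 ^ b - 1) = 2 ^ (2 * h) - 1 ∧
      ∀ s : H, s * s = 1 → s ≠ 1 →
        Nat.card {S : Sylow 2 H // s ∈ (S : Subgroup H)} * (2 ^ b - 1) = 2 ^ h - 1 := by
  haveI : Fact (Nat.Prime 2) := ⟨Nat.prime_two⟩
  obtain ⟨t₀, ht₀⟩ := exists_prime_orderOf_dvd_card' 2 (even_iff_two_dvd.1 he)
  have htt : t₀ * t₀ = 1 := by rw [← pow_two, ← ht₀, pow_orderOf_eq_one]
  have ht1 : t₀ ≠ 1 := fun e => by rw [e, orderOf_one] at ht₀; norm_num at ht₀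
  obtain ⟨S₀⟩ := (inferInstance : Nonempty (Sylow 2 H))
  obtain ⟨f, hf⟩ := P.two_pow F
  obtain ⟨n, hn⟩ := P.isPGroup_T.exists_card_eq
  obtain ⟨u, hu⟩ := P.two_pow (fixS ρ (S₀ : Subgroup H))
  obtain ⟨v₀, hv₀, hv₀S⟩ := P.all S₀
  have hfu : f < u := by
    have h1 : Nat.card F < Nat.card (fixS ρ (S₀ : Subgroup H)) := by
      refine lt_of_le_of_ne (Nat.le_of_dvd Nat.card_pos (card_dvd_of_le (P.le_fixS _))) fun e => ?_
      rw [eq_of_le_of_card_ge (P.le_fixS (S₀ : Subgroup H)) e.ge] at hv₀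
      exact hv₀ hv₀S
    rw [hf, hu] at h1
    exact (Nat.pow_lt_pow_iff_right Nat.one_lt_two).1 h1
  have hfix : ∀ s : H, s * s = 1 → s ≠ 1 → ∃ c, f ≤ c ∧ 2 * c = n + f ∧
      Nat.card (fixOf ρ s) = 2 ^ c := by
    intro s hss hs1
    obtain ⟨w, q, hq, hq2, hw, hinv⟩ := P.exists_inverted hss hs1
    obtain ⟨c, hc⟩ := P.two_pow (fixOf ρ s)
    have h := P.card_fixOf_sq hss hq hq2 hw hinv
    rw [hc, hf, hn, ← pow_add, ← pow_add] at h
    refine ⟨c, ?_, ?_, hc⟩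
    · have := Nat.le_of_dvd Nat.card_pos (card_dvd_of_le (P.le_fixOf s))
      rw [hf, hc] at this
      exact (Nat.pow_le_pow_iff_right Nat.one_lt_two).1 this
    · have := Nat.pow_right_injective le_rfl h
      omega
  obtain ⟨c, hfc, hcn, -⟩ := hfix t₀ htt ht1
  have key : ∀ (V : Subgroup T) (k : ℕ) (p : Sylow 2 H → Prop), F ≤ V → Nat.card V = 2 ^ (k + f) →
      (∀ v, v ∉ F → ∀ S : Sylow 2 H, v ∈ fixS ρ (S : Subgroup H) → (v ∈ V ↔ p S)) →
      Nat.card {S // p S} * (2 ^ (u - f) - 1) = 2 ^ k - 1 := by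
    intro V k p hFV hk hp
    have h := P.card_sub S₀ hFV p hp
    rw [hk, hf, hu, show u = (u - f) + f by omega] at h
    rw [pow_add, pow_add, ← Nat.sub_one_mul, ← Nat.sub_one_mul, ← mul_assoc] at h
    exact (Nat.eq_of_mul_eq_mul_right (Nat.two_pow_pos f) h).symm
  have hsmall : ∀ s : H, s * s = 1 → s ≠ 1 →
      Nat.card {S : Sylow 2 H // s ∈ (S : Subgroup H)} * (2 ^ (u - f) - 1) = 2 ^ (c - f) - 1 := by
    intro s hss hs1
    obtain ⟨c', hfc', hcn', hc'⟩ := hfix s hss hs1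
    refine key (fixOf ρ s) _ _ (P.le_fixOf s) (by rw [hc']; congr 1; omega) fun v hv S hS => ?_
    exact ⟨fun h => P.mem_sylow hv hS (twoEl_of_mul_self hss) h, fun h => hS s h⟩
  refine ⟨f, c - f, u - f, by omega, ?_, hf, by rw [hn]; congr 1; omega, fun S => ?_, ?_, hsmall⟩
  · have h := hsmall t₀ htt ht1
    obtain ⟨S, hS⟩ := exists_sylow_mem (twoEl_of_mul_self htt)
    have hpos : 0 < Nat.card {S : Sylow 2 H // t₀ ∈ (S : Subgroup H)} := by
      haveI : Nonempty {S : Sylow 2 H // t₀ ∈ (S : Subgroup H)} := ⟨⟨S, hS⟩⟩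
      exact Nat.card_pos
    have h1 : 2 ^ (u - f) - 1 ≤ 2 ^ (c - f) - 1 := h ▸ Nat.le_mul_of_pos_left _ hpos
    have h2 : 2 ^ (u - f) ≤ 2 ^ (c - f) := by
      have := Nat.two_pow_pos (u - f); have := Nat.two_pow_pos (c - f); omega
    exact (Nat.pow_le_pow_iff_right Nat.one_lt_two).1 h2
  · rw [P.card_fixS S S₀, hu]; congr 1; omega
  · have h := key ⊤ (2 * (c - f)) (fun _ => True) le_top
      (by rw [card_top, hn]; congr 1; omega) (fun v _ S _ => by simp)
    rwa [Nat.card_congr (Equiv.subtypeUnivEquiv fun _ => trivial)] at h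

end Geo

end CfsgLib.RealClassDisc
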