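import Cfsg.Agent.Lib.RealClassDisc.GeoTools
import Cfsg.Agent.Lib.RealClassDisc.Normal
import Cfsg.Agent.Lib.Zsigmondy.Basic

/-!
# The case with a primitive prime divisor

A subgroup `R` of primitive prime order acts irreducibly; its centraliser is then a normal cyclic
Hall subgroup.
-/

set_option autoImplicit false

namespace CfsgLib.RealClassDisc

open Subgroup
open scoped Pointwise

universe u

namespace Geo

variable {H : Type u} {T : Type*} [Group H] [CommGroup T] [Finite H] [Finite T]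
variable {ρ : H →* MulAut T} {F : Subgroup T} (P : Geo ρ F)

include P

theorem irred_of_primitive {f h r : ℕ} (hr : r.Prime) (hr2 : r ≠ 2) (hf : Nat.card F = 2 ^ f)
    (hT : Nat.card T = 2 ^ (2 * h + f)) (hprim : ∀ k, 0 < k → k < 2 * h → ¬ r ∣ 2 ^ k - 1)
    {g : H} (hg : orderOf g = r) : Irred ρ F (zpowers g) := by
  have hfree : ∀ x, ρ g x = x → x ∈ F := by
    obtain ⟨d, m, hd, hm, hdvd⟩ := P.exists_fixed_exp hr hr2 hg (W := ⊤) (fun x _ => mem_top _)
    rw [top_inf_eq] at hd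
    rw [card_top, hT] at hm
    have hdm := Nat.pow_right_injective le_rfl hm
    obtain ⟨k, hk, hk2, hk0, -⟩ := P.exists_exp hf hT (P.le_fixOf g)
    have hdk : d = k + f := Nat.pow_right_injective le_rfl (hd.symm.trans hk2)
    rcases Nat.eq_zero_or_pos k with h0 | h0
    · intro x hx; exact hk0 h0 ▸ (show x ∈ fixOf ρ g from hx)
    exfalso
    rcases Nat.eq_zero_or_pos m with hm0 | hm0
    · have htop : fixOf ρ g = ⊤ := eq_top_of_card_eq _ (by rw [hd, hT]; congr 1; omega)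
      rw [P.eq_one_of_fixOf_top htop, orderOf_one] at hg
      exact hr.one_lt.ne hg
    · exact hprim m hm0 (by omega) hdvd
  refine ⟨P.inj, P.exp, P.fixF, P.ne_top, ?_, ?_, ⟨g, mem_zpowers g, fun e => ?_⟩, ?_⟩
  · intro a ha b hb
    obtain ⟨i, rfl⟩ := mem_zpowers_iff.1 ha
    obtain ⟨j, rfl⟩ := mem_zpowers_iff.1 hb
    exact ((Commute.refl g).zpow_zpow i j).eq
  · intro a ha ha1 x hx
    obtain ⟨k, rfl⟩ := mem_powers_iff_mem_zpowers.2 ha
    refine hfree x (mem_of_pow_mem (K := stb ρ x) hr hg (fun hd => ha1 ?_) hx)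
    exact orderOf_dvd_iff_pow_eq_one.1 (hg ▸ hd)
  · have h1 := orderOf_dvd_of_pow_eq_one (show g ^ 2 = 1 by rw [pow_two, e])
    rw [hg, Nat.prime_dvd_prime_iff_eq hr Nat.prime_two] at h1
    exact hr2 h1
  · intro W hFW hW
    obtain ⟨m, hm, hm2, hm0, hmn⟩ := P.exists_exp hf hT hFW
    rcases Nat.eq_zero_or_pos m with h0 | h0
    · exact Or.inl (hm0 h0)
    rcases hm.lt_or_eq with h1 | h1
    · exact absurd (P.dvd_of_free hr hr2 hg (fun x hx => hW g (mem_zpowers g) x hx) hFW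
        (fun x _ => hfree x) hf hm2) (hprim m h0 h1)
    · exact Or.inr (hmn h1)

theorem general {f h b : ℕ} (he : Even (Nat.card H)) (hb : 0 < b) (hbh : b ≤ h)
    (hf : Nat.card F = 2 ^ f) (hT : Nat.card T = 2 ^ (2 * h + f))
    (hN : Nat.card (Sylow 2 H) * (2 ^ b - 1) = 2 ^ (2 * h) - 1) (h1 : h ≠ 1) (h3 : h ≠ 3)
    {v : T} (hv : v ∉ F) :
    (∀ q : ℕ, q.Prime → q ≠ 2 → q ∣ Nat.card (twoGen H) → q ∣ (stb ρ v).index) ∧
      ∃ (N : Subgroup H) (S : Sylow 2 H), N.Normal ∧ Odd (Nat.card N) ∧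
        twoGen H ≤ N ⊔ (S : Subgroup H) := by
  haveI : Fact (Nat.Prime 2) := ⟨Nat.prime_two⟩
  obtain ⟨r, hr, hrd, hprim⟩ := Zsigmondy.exists_primitive_prime_divisor (a := 2) (n := 2 * h)
    (by norm_num) (by omega) (by omega) (by omega)
  have hr2 : r ≠ 2 := fun e => Nat.not_even_iff_odd.2 (odd_two_pow_sub_one (n := 2 * h) (by omega))
    (even_iff_two_dvd.2 (e ▸ hrd))
  haveI : Fact r.Prime := ⟨hr⟩
  have hrN : r ∣ Nat.card (Sylow 2 H) := by
    rw [← hN] at hrd
    exact ((Nat.Prime.dvd_mul hr).1 hrd).resolve_right (hprim b hb (by omega))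
  obtain ⟨t, ht⟩ := exists_prime_orderOf_dvd_card' 2 (even_iff_two_dvd.1 he)
  obtain ⟨w, p, hp, hp2, hw, hwinv⟩ := P.exists_inverted (s := t)
    (by rw [← pow_two, ← ht, pow_orderOf_eq_one])
    (fun e => by rw [e, orderOf_one] at ht; norm_num at ht)
  have hwr : Rl w := rl_iff.2 ⟨t, hwinv⟩
  set D := centralizer ({w} : Set H) with hD
  obtain ⟨P₀⟩ := (inferInstance : Nonempty (Sylow r ↥D))
  have hrcl : ¬ r ∣ cl w := fun hd => hr.ne_one (Nat.eq_one_of_dvd_coprimes
    (P.cop w p hp hp2 hw hwr v hv) hd (hrN.trans (P.card_sylow_dvd hv)))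
  have hrD : r ∣ Nat.card D := by
    have h2 : r ∣ Nat.card H := hrN.trans ((P.card_sylow_dvd hv).trans (index_dvd_card _))
    rw [← D.card_mul_index] at h2
    exact ((Nat.Prime.dvd_mul hr).1 h2).resolve_right hrcl
  set P' : Subgroup H := (P₀ : Subgroup ↥D).map D.subtype with hP'
  haveI : Nontrivial (P₀ : Subgroup ↥D) := by
    rw [← Finite.one_lt_card_iff_nontrivial]
    exact lt_of_lt_of_le hr.one_lt (Nat.le_of_dvd Nat.card_pos (P₀.dvd_card_of_dvd_card hrD))
  haveI := P₀.isPGroup'.center_nontrivial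
  obtain ⟨g₀, hg₀⟩ := exists_prime_orderOf_dvd_card' r (G := center (P₀ : Subgroup ↥D)) (by
    obtain ⟨k, hk⟩ := (P₀.isPGroup'.to_subgroup (center (P₀ : Subgroup ↥D))).exists_card_eq
    rw [hk]; refine dvd_pow_self r ?_
    rintro rfl
    have := Finite.one_lt_card (α := center (P₀ : Subgroup ↥D))
    rw [pow_zero] at hk
    omega)
  set g : H := (((g₀ : (P₀ : Subgroup ↥D)) : ↥D) : H) with hgdef
  have hg : orderOf g = r := by rw [hgdef, orderOf_coe, orderOf_coe, orderOf_coe, hg₀]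
  have I := P.irred_of_primitive hr hr2 hf hT hprim hg
  set C := centralizer (zpowers g : Set H) with hC
  haveI hCc : IsCyclic C := I.isCyclic
  have hmemC : ∀ {c : H}, Commute c g → c ∈ C := fun {c} hc => by
    rw [hC, mem_centralizer_iff]
    intro y hy
    obtain ⟨i, rfl⟩ := mem_zpowers_iff.1 hy
    exact (hc.zpow_right i).symm.eq
  have hgC : g ∈ C := hmemC (Commute.refl g)
  have hwC : w ∈ C := hmemC (mem_cz.1 ((g₀ : (P₀ : Subgroup ↥D)) : ↥D).2).symm
  have hP'C : P' ≤ C := by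
    rintro _ ⟨y, hy, rfl⟩
    exact hmemC (congrArg (fun z : (P₀ : Subgroup ↥D) => ((z : ↥D) : H))
      (mem_center_iff.1 g₀.2 ⟨y, hy⟩))
  haveI hP'c : IsCyclic P' := isCyclic_of_injective _ (inclusion_injective hP'C)
  have hgP : g ∈ P' := ⟨_, (g₀ : (P₀ : Subgroup ↥D)).2, rfl⟩
  -- an inverter of `w` normalising `P'`
  obtain ⟨u, hu2, hun, huinv⟩ : ∃ u : H, TwoEl u ∧ u ∈ normalizer (P' : Set H) ∧
      u * w * u⁻¹ = w⁻¹ := by
    have hnorm : ∀ y ∈ D, t * y * t⁻¹ ∈ D := fun y hy => mem_cz.2 (by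
      have h2 := ((mem_cz.1 hy).inv_right).map (MulAut.conj t).toMonoidHom
      simp only [MulEquiv.coe_toMonoidHom, MulAut.conj_apply] at h2
      rw [show t * w⁻¹ * t⁻¹ = (t * w * t⁻¹)⁻¹ by group, hwinv, inv_inv] at h2
      exact h2)
    let e : ↥D →* ↥D :=
      { toFun := fun y => ⟨t * y * t⁻¹, hnorm y y.2⟩
        map_one' := Subtype.ext (by simp)
        map_mul' := fun a b => Subtype.ext (by simp [mul_assoc]) }
    have hes : Function.Surjective e := Finite.injective_iff_surjective.1 fun a b hab =>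
      Subtype.ext (mul_left_cancel (mul_right_cancel (congrArg Subtype.val hab)))
    obtain ⟨c, hc⟩ := MulAction.exists_smul_eq ↥D (P₀.mapSurjective hes) P₀
    have hmaps : ∀ y ∈ P', ((c : H) * t) * y * ((c : H) * t)⁻¹ ∈ P' := by
      rintro _ ⟨y, hy, rfl⟩
      refine ⟨c * e y * c⁻¹, ?_, ?_⟩
      · show c * e y * c⁻¹ ∈ (P₀ : Subgroup ↥D)
        rw [← hc, mem_smul_sylow' ]
        rw [show c⁻¹ * (c * e y * c⁻¹) * c = e y by group]
        exact ⟨y, hy, rfl⟩
      · show (c : H) * (t * y * t⁻¹) * (c : H)⁻¹ = _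
        simp [mul_assoc]
    have hn : (c : H) * t ∈ normalizer (P' : Set H) := by
      rw [mem_normalizer_iff]
      intro y
      refine ⟨hmaps y, fun hy => ?_⟩
      obtain ⟨z, hz⟩ := ((Finite.injective_iff_surjective
        (f := fun z : P' => (⟨_, hmaps z.1 z.2⟩ : P'))).1 fun a b hab =>
          Subtype.ext (mul_left_cancel (mul_right_cancel (congrArg Subtype.val hab)))) ⟨_, hy⟩
      rw [← mul_left_cancel (mul_right_cancel (congrArg Subtype.val hz))]
      exact z.2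
    have hinv : (c : H) * t * w * ((c : H) * t)⁻¹ = w⁻¹ := by
      calc (c : H) * t * w * ((c : H) * t)⁻¹ = c * (t * w * t⁻¹) * (c : H)⁻¹ := by group
        _ = w⁻¹ := by rw [hwinv, (mem_cz.1 c.2).inv_right.eq, mul_inv_cancel_right]
    obtain ⟨n, -, h2, hi⟩ := exists_twoEl_conj_inv hinv
    exact ⟨_, h2, pow_mem hn n, hi⟩
  have hnR : ∀ y ∈ normalizer (P' : Set H), y * g * y⁻¹ ∈ zpowers g := by
    intro y hy
    have hy' : y * g * y⁻¹ ∈ P' := (mem_normalizer_iff.1 hy g).1 hgP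
    have heq := eq_of_card_cyclic (X := (zpowers (y * g * y⁻¹)).subgroupOf P')
      (Y := (zpowers g).subgroupOf P') (by
        rw [Nat.card_congr (subgroupOfEquivOfLe (zpowers_le.2 hy')).toEquiv,
          Nat.card_congr (subgroupOfEquivOfLe (zpowers_le.2 hgP)).toEquiv, Nat.card_zpowers,
          Nat.card_zpowers, ← MulAut.conj_apply, MulEquiv.orderOf_eq])
    have h2 : (⟨_, hy'⟩ : P') ∈ (zpowers (y * g * y⁻¹)).subgroupOf P' := mem_zpowers _
    rw [heq] at h2
    exact h2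
  -- a power of `u` inverts `g`
  obtain ⟨s, hsn, hsinv⟩ : ∃ s : H, s ∈ normalizer (P' : Set H) ∧ s * g * s⁻¹ = g⁻¹ := by
    classical
    obtain ⟨k, hk⟩ := hu2.exists_pow
    have hex : ∃ j, Commute (u ^ 2 ^ j) g := ⟨k, by rw [hk]; exact Commute.one_left g⟩
    have hu1 : ¬ Commute u g := fun hc => by
      have h2 : u = 1 := eq_one_of_twoEl_odd hu2 (I.odd_card.of_dvd_nat
        (by rw [← orderOf_mk u (hmemC hc)]; exact orderOf_dvd_natCard _))
      rw [h2, one_mul, inv_one, mul_one] at huinv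
      have h3 := eq_one_of_mul_self_odd (g := w) (by nth_rw 1 [huinv]; exact inv_mul_cancel w)
        (hw ▸ hp.odd_of_ne_two hp2)
      rw [h3, orderOf_one] at hw
      exact hp.one_lt.ne hw
    obtain ⟨j, hj⟩ : ∃ j, Nat.find hex = j + 1 := by
      refine Nat.exists_eq_succ_of_ne_zero fun h0 => hu1 ?_
      have := Nat.find_spec hex
      rwa [h0, pow_zero, pow_one] at this
    have h2 : Commute (u ^ 2 ^ (j + 1)) g := hj ▸ Nat.find_spec hex
    refine ⟨u ^ 2 ^ j, pow_mem hun _,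
      (conj_eq_or_inv hr hg (hnR _ (pow_mem hun _)) ?_).resolve_right
        (Nat.find_min hex (by omega))⟩
    calc u ^ 2 ^ j * (u ^ 2 ^ j * g * (u ^ 2 ^ j)⁻¹) * (u ^ 2 ^ j)⁻¹
        = (u ^ 2 ^ j * u ^ 2 ^ j) * g * (u ^ 2 ^ j * u ^ 2 ^ j)⁻¹ := by group
      _ = g := by rw [← pow_add, ← two_mul, ← pow_succ', h2.eq, mul_inv_cancel_right]
  have hgr : Rl g := rl_iff.2 ⟨s, hsinv⟩
  have hCg : centralizer ({g} : Set H) = C := by
    ext c
    exact ⟨fun hc => hmemC (mem_cz.1 hc), fun hc => mem_cz.2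
      ((mem_centralizer_iff.1 hc g (mem_zpowers g)).symm)⟩
  have htriv : ∀ x, x ∉ F → ∀ c ∈ C, c ∈ stb ρ x → c = 1 := fun x hx c hc hcx => by
    by_contra h0
    exact hx (I.semiregular hc h0 hcx)
  have hcard : ∀ x, x ∉ F → Nat.card C * Nat.card (stb ρ x) = Nat.card H := by
    intro x hx
    rw [← Nat.card_prod]
    refine Nat.card_eq_of_bijective (fun p : C × stb ρ x => (p.1 : H) * p.2) ⟨?_, ?_⟩
    · rintro ⟨⟨a, ha⟩, ⟨b, hb⟩⟩ ⟨⟨a', ha'⟩, ⟨b', hb'⟩⟩ hab
      have h2 : a'⁻¹ * a = b' * b⁻¹ := by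
        rw [eq_mul_inv_iff_mul_eq, mul_assoc, show a * b = a' * b' from hab, inv_mul_cancel_left]
      have h4 : a'⁻¹ * a = 1 :=
        htriv x hx _ (C.mul_mem (C.inv_mem ha') ha) (h2 ▸ (stb ρ x).mul_mem hb' ((stb ρ x).inv_mem hb))
      have h5 : a' = a := inv_mul_eq_one.1 h4
      subst h5
      have h6 : b = b' := mul_left_cancel (show a' * b = a' * b' from hab)
      subst h6
      rfl
    · intro k
      obtain ⟨c, hc, hd⟩ := P.exists_factor_real hr hr2 hg hgr hx k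
      exact ⟨⟨⟨c, by rw [← hCg]; exact hc⟩, ⟨_, hd⟩⟩, by show c * (c⁻¹ * k) = k; group⟩
  have hidx : ∀ x, x ∉ F → (stb ρ x).index = Nat.card C ∧ C.index = Nat.card (stb ρ x) := by
    intro x hx
    have h2 := hcard x hx
    refine ⟨?_, ?_⟩
    · rw [← (stb ρ x).card_mul_index, mul_comm] at h2
      exact (Nat.eq_of_mul_eq_mul_left Nat.card_pos h2).symm
    · rw [← C.card_mul_index] at h2
      exact (Nat.eq_of_mul_eq_mul_left Nat.card_pos h2).symm
  have hfac : Fac (zpowers g) r := by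
    refine ⟨hr, by rw [Nat.card_zpowers, hg], hCc, I.odd_card, ?_, ?_, ?_, ?_⟩
    · have h2 := P.cop g r hr hr2 hg hgr v hv
      rw [(hidx v hv).1, cl, hCg, (hidx v hv).2] at h2
      show (Nat.card C).Coprime C.index
      rw [(hidx v hv).2]
      exact h2.symm
    · intro S k
      obtain ⟨c, hc, hS⟩ := P.trans_real hr hr2 hg hgr S k
      exact ⟨c, by rw [hCg] at hc; exact hc, hS⟩
    · intro y m hm hm2 hy hyr
      by_contra hnd
      haveI : Fact m.Prime := ⟨hm⟩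
      obtain ⟨k, hk⟩ := exists_conj_mem (C := stb ρ v) (by rw [(hidx v hv).1]; exact hnd)
        (IsPGroup.of_card (n := 1) (by rw [Nat.card_zpowers, hy, pow_one]) : IsPGroup m (zpowers y))
      have h2 : ρ (k⁻¹ * y * k) v = v := mem_cj.1 (hk (mem_zpowers y))
      refine P.notMem_act hv k (P.fpf y m hm hm2 hy hyr _ ?_)
      have h3 := congrArg (ρ k) h2
      rw [← P.act_mul] at h3
      rw [← P.act_mul]
      rwa [show k * (k⁻¹ * y * k) = y * k by group] at h3
    · intro Q hQ hn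
      refine P.fixS_eq_top ((I.irr _ (P.le_fixS Q) fun a ha => ?_).resolve_left (P.fixS_ne hQ))
      exact P.fixS_invariant fun z hz => by
        have := (mem_normalizer_iff.1 (hn (inv_mem ha)) z).1 hz
        rwa [inv_inv] at this
  haveI hRn : (zpowers g).Normal := fac_normal _ rfl hfac he
  haveI hCn : C.Normal := by rw [hC]; infer_instance
  obtain ⟨S⟩ := (inferInstance : Nonempty (Sylow 2 H))
  have hle : twoGen H ≤ C ⊔ (S : Subgroup H) := by
    rw [twoGen, closure_le]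
    intro y hy
    obtain ⟨S', hS'⟩ := exists_sylow_mem (show TwoEl y from hy)
    obtain ⟨k, hk⟩ := MulAction.exists_smul_eq H S S'
    obtain ⟨c, hc, hkc⟩ := hfac.trans S k
    rw [← hk, hkc, mem_smul_sylow] at hS'
    show y ∈ C ⊔ (S : Subgroup H)
    rw [show y = c * (c⁻¹ * y * c) * c⁻¹ by group]
    exact mul_mem (mul_mem (mem_sup_left hc) (mem_sup_right hS')) (mem_sup_left (inv_mem hc))
  refine ⟨fun q hq hq2 hqK => ?_, C, S, hCn, I.odd_card, hle⟩
  have hd := hqK.trans ((card_dvd_of_le hle).trans (Solvable.card_sup_dvd_mul C (S : Subgroup H)))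
  rw [(hidx v hv).1]
  refine ((Nat.Prime.dvd_mul hq).1 hd).resolve_right fun hd' => hq2 ?_
  obtain ⟨k, hk⟩ := S.isPGroup'.exists_card_eq
  rw [hk] at hd'
  exact (Nat.prime_dvd_prime_iff_eq hq Nat.prime_two).1 (hq.dvd_of_dvd_pow hd')

end Geo

end CfsgLib.RealClassDisc
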