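import Cfsg.Agent.Lib.RealClassDisc.GeoBase

/-!
# Elementary tools for the geometric situation
-/

set_option autoImplicit false

namespace CfsgLib.RealClassDisc

open Subgroup

theorem odd_two_pow_sub_one {n : ℕ} (hn : n ≠ 0) : Odd (2 ^ n - 1) := by
  obtain ⟨m, rfl⟩ := Nat.exists_eq_succ_of_ne_zero hn
  exact ⟨2 ^ m - 1, by have := Nat.two_pow_pos m; rw [pow_succ]; omega⟩

/-- An element of prime order outside a subgroup generates one meeting it trivially. -/
theorem mem_of_pow_mem {H : Type*} [Group H] {g : H} {p : ℕ} (hp : p.Prime) (hg : orderOf g = p)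
    {K : Subgroup H} {k : ℕ} (hk : ¬ p ∣ k) (h : g ^ k ∈ K) : g ∈ K := by
  have hco : k.Coprime (orderOf g) := by
    rw [hg]; exact ((Nat.Prime.coprime_iff_not_dvd hp).2 hk).symm
  obtain ⟨m, hm⟩ := exists_pow_eq_self_of_coprime hco
  rw [← hm]
  exact K.pow_mem h m

/-- An involutive automorphism of a group of prime order inverts or centralises. -/
theorem conj_eq_or_inv {H : Type*} [Group H] [Finite H] {g t : H} {p : ℕ} (hp : p.Prime)
    (hg : orderOf g = p) (hn : t * g * t⁻¹ ∈ zpowers g) (h2 : t * (t * g * t⁻¹) * t⁻¹ = g) :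
    t * g * t⁻¹ = g⁻¹ ∨ Commute t g := by
  by_cases h : g * (t * g * t⁻¹) = 1
  · exact Or.inl (inv_eq_of_mul_eq_one_right h).symm
  right
  set z := g * (t * g * t⁻¹) with hz
  obtain ⟨i, hi⟩ := mem_zpowers_iff.1 hn
  have hfix : t * z * t⁻¹ = z := by
    calc t * z * t⁻¹ = (t * g * t⁻¹) * (t * (t * g * t⁻¹) * t⁻¹) := by rw [hz]; group
      _ = z := by rw [h2, hz, ← hi, ← zpow_add_one, add_comm, zpow_one_add]
  have hzg : z ∈ zpowers g := (zpowers g).mul_mem (mem_zpowers g) hn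
  haveI : Fact p.Prime := ⟨hp⟩
  obtain ⟨j, hj⟩ := mem_zpowers_iff.1 (mem_zpowers_of_prime_card (g := (⟨z, hzg⟩ : zpowers g))
    (g' := ⟨g, mem_zpowers g⟩) (by rw [Nat.card_zpowers, hg]) fun e => h (congrArg Subtype.val e))
  have hj' : z ^ j = g := congrArg Subtype.val hj
  rw [← hj']
  refine Commute.zpow_right ?_ j
  exact mul_inv_eq_iff_eq_mul.1 hfix

theorem two_el_centre {H : Type*} [Group H] [Finite H] (S : Sylow 2 H) (he : Even (Nat.card H)) :
    ∃ t ∈ (S : Subgroup H), t * t = 1 ∧ t ≠ 1 ∧ ∀ g ∈ (S : Subgroup H), Commute g t := by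
  haveI : Fact (Nat.Prime 2) := ⟨Nat.prime_two⟩
  haveI : Nontrivial (S : Subgroup H) := by
    rw [← Finite.one_lt_card_iff_nontrivial]
    exact lt_of_lt_of_le one_lt_two (Nat.le_of_dvd Nat.card_pos
      (S.dvd_card_of_dvd_card (even_iff_two_dvd.1 he)))
  haveI := S.isPGroup'.center_nontrivial
  obtain ⟨k, hk⟩ := (S.isPGroup'.to_subgroup (center (S : Subgroup H))).exists_card_eq
  obtain ⟨z, hz⟩ := exists_prime_orderOf_dvd_card' 2 (G := center (S : Subgroup H)) (by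
    rw [hk]; refine dvd_pow_self 2 ?_
    rintro rfl
    have := Finite.one_lt_card (α := center (S : Subgroup H))
    omega)
  have ho : orderOf ((z : (S : Subgroup H)) : H) = 2 := by rw [orderOf_coe, orderOf_coe, hz]
  refine ⟨_, (z : (S : Subgroup H)).2, ?_, fun e => ?_, fun g hg => ?_⟩
  · rw [← pow_two]; exact orderOf_dvd_iff_pow_eq_one.1 (dvd_of_eq ho)
  · rw [e, orderOf_one] at ho; norm_num at ho
  · exact congrArg Subtype.val (mem_center_iff.1 z.2 ⟨g, hg⟩)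

namespace Geo

variable {H T : Type*} [Group H] [CommGroup T] [Finite H] [Finite T]
variable {ρ : H →* MulAut T} {F : Subgroup T} (P : Geo ρ F)

include P

/-- The fixed points of an element of prime order in an invariant subgroup. -/
theorem exists_fixed_exp {g : H} {r : ℕ} (hr : r.Prime) (hr2 : r ≠ 2) (hg : orderOf g = r)
    {W : Subgroup T} (hW : ∀ x ∈ W, ρ g x ∈ W) :
    ∃ d m : ℕ, Nat.card (W ⊓ fixOf ρ g : Subgroup T) = 2 ^ d ∧ Nat.card W = 2 ^ (d + m) ∧
      r ∣ 2 ^ m - 1 := by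
  classical
  haveI : Fact r.Prime := ⟨hr⟩
  obtain ⟨d, hd⟩ := P.two_pow (W ⊓ fixOf ρ g)
  obtain ⟨a, ha⟩ := P.two_pow W
  have hle : d ≤ a := by
    have := Nat.le_of_dvd Nat.card_pos (card_dvd_of_le (inf_le_left : W ⊓ fixOf ρ g ≤ W))
    rw [hd, ha] at this
    exact (Nat.pow_le_pow_iff_right Nat.one_lt_two).1 this
  refine ⟨d, a - d, hd, by rw [ha]; congr 1; omega, ?_⟩
  haveI := Fintype.ofFinite W
  let σ : Equiv.Perm W := Equiv.ofBijective (fun x => (⟨ρ g x.1, hW x.1 x.2⟩ : W))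
    (Finite.injective_iff_bijective.1 fun x y h =>
      Subtype.ext ((ρ g).injective (congrArg Subtype.val h)))
  have hσ : ∀ (n : ℕ) (x : W), ((σ ^ n) x).1 = ρ (g ^ n) x.1 := by
    intro n
    induction n with
    | zero => intro x; simp
    | succ n ih =>
      intro x
      rw [pow_succ', Equiv.Perm.mul_apply]
      show ρ g ((σ ^ n) x).1 = _
      rw [ih, ← P.act_mul, pow_succ']
  have hσr : σ ^ r ^ 1 = 1 := by
    ext x
    rw [hσ, pow_one, ← hg, pow_orderOf_eq_one, map_one]; rfl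
  have h := Equiv.Perm.card_compl_support_modEq hσr
  have hc : σ.supportᶜ.card = Nat.card (W ⊓ fixOf ρ g : Subgroup T) := by
    rw [← Nat.card_eq_finsetCard]
    refine Nat.card_congr
      { toFun := fun x => ⟨x.1.1, x.1.2, ?_⟩
        invFun := fun x => ⟨⟨x.1, x.2.1⟩, ?_⟩
        left_inv := fun x => rfl
        right_inv := fun x => rfl }
    · exact congrArg Subtype.val
        (Equiv.Perm.notMem_support.1 (Finset.mem_compl.1 x.2) : σ x.1 = x.1)
    · exact Finset.mem_compl.2 (Equiv.Perm.notMem_support.2 (Subtype.ext x.2.2))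
  rw [hc, hd, ← Nat.card_eq_fintype_card, ha] at h
  have h1 : r ∣ 2 ^ a - 2 ^ d :=
    (Nat.modEq_iff_dvd' (Nat.pow_le_pow_right (by norm_num) hle)).1 h
  rw [show a = d + (a - d) by omega, pow_add, ← Nat.mul_sub_one] at h1
  refine ((Nat.Prime.dvd_mul hr).1 h1).resolve_left fun h2 => hr2 ?_
  exact (Nat.prime_dvd_prime_iff_eq hr Nat.prime_two).1 (hr.dvd_of_dvd_pow h2)

/-- The same, above `F`, when only `F` is fixed. -/
theorem dvd_of_free {g : H} {r : ℕ} (hr : r.Prime) (hr2 : r ≠ 2) (hg : orderOf g = r)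
    {W : Subgroup T} (hW : ∀ x ∈ W, ρ g x ∈ W) (hFW : F ≤ W)
    (hfree : ∀ x ∈ W, ρ g x = x → x ∈ F) {f m : ℕ} (hf : Nat.card F = 2 ^ f)
    (hm : Nat.card W = 2 ^ (m + f)) : r ∣ 2 ^ m - 1 := by
  obtain ⟨d, m', hd, hm', hdvd⟩ := P.exists_fixed_exp hr hr2 hg hW
  have he : W ⊓ fixOf ρ g = F := le_antisymm (fun x hx => hfree x hx.1 hx.2)
    (le_inf hFW (P.le_fixOf g))
  rw [he, hf] at hd
  have h1 := Nat.pow_right_injective le_rfl hd
  rw [hm'] at hm
  have h2 := Nat.pow_right_injective le_rfl hm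
  rwa [show m = m' by omega]

theorem exists_exp {f n : ℕ} (hf : Nat.card F = 2 ^ f) (hn : Nat.card T = 2 ^ (n + f))
    {W : Subgroup T} (hFW : F ≤ W) :
    ∃ m : ℕ, m ≤ n ∧ Nat.card W = 2 ^ (m + f) ∧ (m = 0 → W = F) ∧ (m = n → W = ⊤) := by
  obtain ⟨a, ha⟩ := P.two_pow W
  have h1 := Nat.le_of_dvd Nat.card_pos (card_dvd_of_le hFW)
  have h2 := Nat.le_of_dvd Nat.card_pos (card_subgroup_dvd_card W)
  rw [hf, ha] at h1
  rw [hn, ha] at h2
  have h1' := (Nat.pow_le_pow_iff_right Nat.one_lt_two).1 h1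
  have h2' := (Nat.pow_le_pow_iff_right Nat.one_lt_two).1 h2
  refine ⟨a - f, by omega, by rw [ha]; congr 1; omega, fun h => ?_, fun h => ?_⟩
  · exact (eq_of_le_of_card_ge hFW (by rw [hf, ha]; exact le_of_eq (by congr 1; omega))).symm
  · exact eq_top_of_card_eq W (by rw [hn, ha]; congr 1; omega)

theorem eq_one_of_fixOf_top {g : H} (h : fixOf ρ g = ⊤) : g = 1 :=
  P.eq_one_of_fix_all fun v _ => (show v ∈ fixOf ρ g from h ▸ mem_top v)

theorem fixOf_invariant {g c : H} (hc : Commute c g) : ∀ x ∈ fixOf ρ g, ρ c x ∈ fixOf ρ g := by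
  intro x (hx : ρ g x = x)
  show ρ g (ρ c x) = ρ c x
  rw [← P.act_mul, ← hc.eq, P.act_mul, hx]

theorem fixS_invariant {K : Subgroup H} {c : H} (hc : ∀ h ∈ K, c⁻¹ * h * c ∈ K) :
    ∀ x ∈ fixS ρ K, ρ c x ∈ fixS ρ K := by
  intro x hx h hh
  calc ρ h (ρ c x) = ρ c (ρ (c⁻¹ * h * c) x) := by
        simp only [← P.act_mul]; congr 2; group
    _ = ρ c x := by rw [hx _ (hc h hh)]

theorem fixS_ne {K : Subgroup H} (hK : IsPGroup 2 K) : fixS ρ K ≠ F := by
  haveI : Fact (Nat.Prime 2) := ⟨Nat.prime_two⟩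
  obtain ⟨S, hS⟩ := hK.exists_le_sylow
  obtain ⟨v, hv, hvS⟩ := P.all S
  intro e
  exact hv (e ▸ fun h hh => hvS h (hS hh))

theorem fixS_eq_top {K : Subgroup H} (h : fixS ρ K = ⊤) : K = ⊥ := by
  rw [eq_bot_iff]
  intro g hg
  exact P.eq_one_of_fix_all fun v _ => (show v ∈ fixS ρ K from h ▸ mem_top v) g hg

end Geo

end CfsgLib.RealClassDisc
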