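import Cfsg.Agent.Lib.RealClassDisc.CaseB

/-!
# The subgroup generated by the 2-elements

If the primes dividing real class sizes split and the Sylow 2-subgroups are not normal, the real
class sizes of this subgroup split into two and odd primes.
-/

set_option autoImplicit false

namespace CfsgLib.RealClassDisc

open Subgroup

variable {G : Type*} [Group G] [Finite G] {A B : Set ℕ}

theorem mem_B_of_dvd_twoGen (h : Disc G A B) (h2 : 2 ∈ A) {q : ℕ} (hq : q.Prime) (hq2 : q ≠ 2)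
    (hqK : q ∣ Nat.card (twoGen G)) : q ∈ B := by
  by_cases hcomm : ∀ t : G, Small B t → ∀ g : G, Commute (g * t * g⁻¹) t
  · exact caseB h h2 hcomm hq hq2 hqK
  · push Not at hcomm
    obtain ⟨t, ht, g, hg⟩ := hcomm
    exact caseA h h2 ht hg hq hq2 hqK

theorem size_twoGen (h : Disc G A B) (h2 : 2 ∈ A) (z : twoGen G) (hz : Rl z) :
    Odd (cl z) ∨ ∃ j : ℕ, cl z = 2 ^ j := by
  have hdvd : cl z ∣ cl (z : G) := ClassGraph.classIndex_normal_dvd z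
  have hzr : Rl (z : G) := hz.map (twoGen G).subtype
  rcases Nat.even_or_odd (cl (z : G)) with he | ho
  · refine Or.inr ⟨_, Nat.eq_prime_pow_of_unique_prime_dvd (cl_ne_zero z) fun {p} hp hpd => ?_⟩
    by_contra hp2
    exact (h.mem_of_dvd hzr h2 (even_iff_two_dvd.1 he) hp (hpd.trans hdvd)).2
      (mem_B_of_dvd_twoGen h h2 hp hp2 (hpd.trans (index_dvd_card _)))
  · exact Or.inl (ho.of_dvd_nat hdvd)

theorem exists_even_twoGen (hns : ¬ ∀ P : Sylow 2 G, (P : Subgroup G).Normal) :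
    ∃ z : twoGen G, Rl z ∧ Even (cl z) := by
  haveI : Fact (Nat.Prime 2) := ⟨Nat.prime_two⟩
  obtain ⟨w, hwr, hwo, hw1⟩ : ∃ w : G, Rl w ∧ Odd (orderOf w) ∧ w ≠ 1 := by
    by_contra hcon
    push Not at hcon
    apply hns
    intro P
    haveI : Subsingleton (Sylow 2 G) := ⟨fun S S' => Sylow.ext (S.3 S'.2 fun g hg =>
      sylow_mem_of_no_real hcon S' (twoEl_of_mem_isPGroup S.isPGroup' hg)).symm⟩
    infer_instance
  obtain ⟨u₀, hu₀⟩ := rl_iff.1 hwr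
  obtain ⟨n, -, hu2, hu⟩ := exists_twoEl_conj_inv hu₀
  set u := u₀ ^ n
  have huK : u ∈ twoGen G := mem_twoGen hu2
  have hww : w * w ∈ twoGen G := by
    have e : w * w = (w * u * w⁻¹) * u⁻¹ := by
      calc w * w = w * (u * w * u⁻¹)⁻¹ := by rw [hu, inv_inv]
        _ = (w * u * w⁻¹) * u⁻¹ := by group
    rw [e]
    exact mul_mem (twoGen_normal.conj_mem u huK w) (inv_mem huK)
  obtain ⟨m, hm⟩ := hwo
  have hwK : w ∈ twoGen G := by
    have e : w = (w * w) ^ (m + 1) := by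
      rw [← pow_two, ← pow_mul, show 2 * (m + 1) = orderOf w + 1 by omega, pow_succ,
        pow_orderOf_eq_one, one_mul]
    rw [e]; exact pow_mem hww _
  have hr : Rl (⟨w, hwK⟩ : twoGen G) := rl_iff.2 ⟨⟨u, huK⟩, Subtype.ext hu⟩
  exact ⟨_, hr, even_cl_of_sq hr fun e =>
    hw1 (eq_one_of_mul_self_odd (congrArg Subtype.val e) ⟨m, hm⟩)⟩

theorem exists_odd_twoGen (h : Disc G A B) (h2 : 2 ∈ A)
    (hns : ¬ ∀ P : Sylow 2 G, (P : Subgroup G).Normal) :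
    ∃ (z : twoGen G) (p : ℕ), Rl z ∧ p.Prime ∧ p ≠ 2 ∧ p ∣ cl z := by
  haveI : Fact (Nat.Prime 2) := ⟨Nat.prime_two⟩
  obtain ⟨t, b, htr, hb, hbp, hbd⟩ := h.witB
  have ht : Small B t := ⟨htr, b, hb, hbp, hbd⟩
  have htt := mul_self_of_small h h2 ht
  set z : twoGen G := ⟨t, mem_twoGen (twoEl_of_mul_self htt)⟩ with hz
  have hzr : Rl z := rl_iff.2 ⟨1, Subtype.ext (by
    show 1 * t * 1⁻¹ = t⁻¹
    rw [one_mul, inv_one, mul_one, inv_eq_of_mul_eq_one_right htt])⟩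
  have hne : cl z ≠ 1 := by
    intro e
    apply hns
    obtain ⟨S, -, hS⟩ := exists_sylow h h2 ht
    intro P
    haveI : Subsingleton (Sylow 2 G) := by
      refine ⟨fun P Q => ?_⟩
      have key : ∀ R : Sylow 2 G, R = S := fun R => Sylow.ext (R.3 S.2 fun g hg => by
        have h2' := twoEl_of_mem_isPGroup R.isPGroup' hg
        refine hS g h2' ?_
        have h3 : (⟨g, mem_twoGen h2'⟩ : twoGen G) ∈ centralizer ({z} : Set (twoGen G)) := by
          rw [index_eq_one.1 e]; exact mem_top _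
        exact congrArg Subtype.val (mem_cz.1 h3).eq).symm
      rw [key P, key Q]
    infer_instance
  obtain ⟨p, hp, hpd⟩ := Nat.exists_prime_and_dvd hne
  refine ⟨z, p, hzr, hp, fun e => ?_, hpd⟩
  subst e
  exact Nat.not_even_iff_odd.2 (odd_of_small h h2 ht)
    (even_iff_two_dvd.2 (hpd.trans (ClassGraph.classIndex_normal_dvd z)))

/-- The conclusion for `twoGen G`. -/
theorem structure_twoGen (h : Disc G A B) (h2 : 2 ∈ A) :
    (∀ P : Sylow 2 G, (P : Subgroup G).Normal) ∨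
      ((∃ π₁ π₂ : Set ℕ, π₁.Nonempty ∧ π₂.Nonempty ∧ Disjoint π₁ π₂ ∧
        (∀ q ∈ π₁ ∪ π₂, q.Prime ∧ ∃ z : twoGen G, Rl z ∧ q ∣ cl z) ∧
        (∀ (q : ℕ) (z : twoGen G), q.Prime → Rl z → q ∣ cl z → q ∈ π₁ ∨ q ∈ π₂) ∧
        ∀ a ∈ π₁, ∀ b ∈ π₂, ∀ z : twoGen G, Rl z → ¬ (a ∣ cl z ∧ b ∣ cl z)) ∧
        ∀ z : twoGen G, Rl z → Odd (cl z) ∨ ∃ j : ℕ, cl z = 2 ^ j) := by
  by_cases hns : ∀ P : Sylow 2 G, (P : Subgroup G).Normal
  · exact Or.inl hns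
  refine Or.inr ⟨⟨{2}, {p | p.Prime ∧ p ≠ 2 ∧ ∃ z : twoGen G, Rl z ∧ p ∣ cl z}, ⟨2, rfl⟩, ?_, ?_,
    ?_, ?_, ?_⟩, fun z hz => size_twoGen h h2 z hz⟩
  · obtain ⟨z, p, hz, hp, hp2, hpd⟩ := exists_odd_twoGen h h2 hns
    exact ⟨p, hp, hp2, z, hz, hpd⟩
  · rw [Set.disjoint_left]
    rintro p hp ⟨-, hp2, -⟩
    exact hp2 hp
  · rintro q (hq | hq)
    · obtain ⟨z, hz, he⟩ := exists_even_twoGen hns
      obtain rfl : q = 2 := hq
      exact ⟨Nat.prime_two, z, hz, even_iff_two_dvd.1 he⟩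
    · exact ⟨hq.1, hq.2.2⟩
  · intro q z hq hz hqd
    by_cases hq2 : q = 2
    · exact Or.inl hq2
    · exact Or.inr ⟨hq, hq2, z, hz, hqd⟩
  · rintro a ha b ⟨hb, hb2, -⟩ z hz ⟨had, hbd⟩
    obtain rfl : a = 2 := ha
    rcases size_twoGen h h2 z hz with ho | ⟨j, hj⟩
    · exact Nat.not_even_iff_odd.2 ho (even_iff_two_dvd.2 had)
    · rw [hj] at hbd
      exact hb2 ((Nat.prime_dvd_prime_iff_eq hb Nat.prime_two).1 (hb.dvd_of_dvd_pow hbd))

end CfsgLib.RealClassDisc
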