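import Cfsg.Agent.Lib.RealClassDisc.CaseB

/-!
# Solvability from a split of the primes of real class sizes

The subgroup generated by the 2-elements is solvable and has odd index.
-/

set_option autoImplicit false

namespace CfsgLib.RealClassDisc

universe u

variable {G : Type u} [Group G] [Finite G] {A B : Set ℕ}

theorem isSolvable_of_disc
    (hFT : ∀ (X : Type u) [Group X] [Finite X], Odd (Nat.card X) → Group.IsSolvable X)
    (h : Disc G A B) (h2 : 2 ∈ A) : Group.IsSolvable G := by
  haveI : Fact (Nat.Prime 2) := ⟨Nat.prime_two⟩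
  have hK : Group.IsSolvable (twoGen G) := by
    by_cases hcomm : ∀ t : G, Small B t → ∀ g : G, Commute (g * t * g⁻¹) t
    · exact (caseB_main h h2 hcomm).2 hFT
    · push Not at hcomm
      obtain ⟨t, ht, g, hg⟩ := hcomm
      obtain ⟨N, S, hNn, hNc, hle, -⟩ := caseA_core h h2 ht hg
      haveI := hNn
      exact isSolvable_sup (Group.isSolvable_of_comm fun a b => Subtype.ext (hNc a a.2 b b.2).eq)
        S.isPGroup' hle
  refine CfsgLib.Solvable.isSolvable_of_normal (twoGen G) hK (hFT _ ?_)
  rw [Nat.odd_iff, ← Nat.two_dvd_ne_zero]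
  intro hd
  obtain ⟨x, hx⟩ := exists_prime_orderOf_dvd_card' 2 hd
  obtain ⟨g, rfl⟩ := QuotientGroup.mk'_surjective (twoGen G) x
  obtain ⟨n, hn, hgn⟩ := exists_twoEl_lift (QuotientGroup.mk' (twoGen G)) g ⟨1, by rw [hx, pow_one]⟩
  rw [← hgn, show QuotientGroup.mk' (twoGen G) (g ^ n) = 1 from
    (QuotientGroup.eq_one_iff _).2 (mem_twoGen hn), orderOf_one] at hx
  norm_num at hx

end CfsgLib.RealClassDisc
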